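import Cfsg.Agent.Spor.Tia.D0

set_option autoImplicit false
set_option maxRecDepth 100000000
set_option Elab.async false

namespace Cfsg.Agent.Spor.Tia

theorem ok0 : Net.okb 11 n0 = true := by decide +kernel

theorem ok1 : Net.okb 11 n1 = true := by decide +kernel

theorem ok2 : Net.okb 11 n2 = true := by decide +kernel

theorem rel0 : T.rel 11 [1, 1] 0 11 = true := by decide +kernel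

theorem rel1 : T.rel 11 [2, 3, 2, 5, 5, 4, 4, 2, 3, 2, 5, 5, 4, 4, 2, 3, 2, 5, 5, 4, 4, 2, 3, 2, 5, 5, 4, 4] 0 11 = true := by decide +kernel

theorem rel2 : T.rel 11 [2, 3, 2, 5, 5, 4, 4, 2, 3, 2, 5, 5, 4, 4, 3, 3, 4, 5, 2, 3, 2, 5, 5, 4, 3, 3, 4, 5, 4, 3, 2, 5, 5, 3, 2, 5, 5, 3, 3, 4, 5, 2, 3, 2, 5, 5, 4, 3, 3, 4, 5, 4, 3, 2, 5, 5, 3, 2, 5, 5] 0 11 = true := by decide +kernel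

theorem rel3 : T.rel 11 [2, 3, 2, 5, 5, 4, 4, 2, 3, 2, 5, 5, 4, 4, 3, 3, 4, 5, 2, 3, 2, 5, 5, 4, 3, 3, 4, 5, 3, 3, 4, 5, 2, 3, 2, 5, 5, 3, 3, 4, 5, 2, 3, 2, 5, 5, 4, 3, 3, 4, 5, 3, 3, 4, 5, 2, 3, 2, 5, 5] 0 11 = true := by decide +kernel

theorem rel4 : T.rel 11 [2, 3, 2, 5, 5, 4, 4, 3, 3, 4, 5, 4, 3, 2, 5, 5, 3, 2, 5, 5, 2, 2, 3, 3, 4, 5, 4, 3, 3, 4, 5, 2, 3, 2, 5, 5, 4, 3, 3, 4, 5, 3, 3, 4, 5, 2, 3, 2, 5, 5, 2, 3, 3, 4, 5, 4, 3, 2, 5, 5] 0 11 = true := by decide +kernel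

theorem rel5 : T.rel 11 [3, 3, 4, 5, 2, 3, 2, 5, 5, 4, 3, 3, 4, 5, 2, 3, 2, 5, 5, 4, 3, 3, 4, 5, 2, 3, 2, 5, 5, 4, 3, 3, 4, 5, 2, 3, 2, 5, 5, 4] 0 11 = true := by decide +kernel

theorem rel6 : T.rel 11 [2, 3, 2, 5, 5, 4, 4, 2, 3, 3, 4, 5, 4, 3, 2, 5, 5, 3, 3, 4, 5, 4, 3, 2, 5, 5, 3, 2, 5, 5, 3, 3, 4, 5, 2, 3, 2, 5, 5, 4, 2, 2, 3, 3, 4, 5, 4, 3, 3, 4, 5, 3, 3, 4, 5, 2, 3, 2, 5, 5] 0 11 = true := by decide +kernel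

theorem rel7 : T.rel 11 [2, 3, 2, 5, 5, 4, 4, 3, 3, 4, 5, 2, 3, 2, 5, 5, 4, 3, 3, 4, 5, 3, 3, 4, 5, 2, 3, 2, 5, 5, 2, 3, 2, 5, 5, 4, 4, 3, 3, 4, 5, 2, 3, 2, 5, 5, 4, 3, 3, 4, 5, 3, 3, 4, 5, 2, 3, 2, 5, 5] 0 11 = true := by decide +kernel

theorem rel8 : T.rel 11 [3, 3, 4, 5, 4, 3, 2, 5, 5, 3, 2, 5, 5, 3, 3, 4, 5, 4, 3, 2, 5, 5, 3, 2, 5, 5, 3, 3, 4, 5, 4, 3, 2, 5, 5, 3, 2, 5, 5, 3, 3, 4, 5, 4, 3, 2, 5, 5, 3, 2, 5, 5] 0 11 = true := by decide +kernel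

theorem rel9 : T.rel 11 [4, 3, 3, 4, 5, 4, 4, 3, 3, 4, 5, 2, 3, 2, 5, 5, 4, 3, 3, 4, 5, 4, 3, 2, 5, 5, 3, 2, 5, 5, 3, 3, 4, 5, 2, 3, 2, 5, 5, 4] 0 11 = true := by decide +kernel

theorem rel10 : T.rel 11 [2, 2, 2, 2] 0 11 = true := by decide +kernel

theorem rel11 : T.rel 11 [3, 3, 4, 5, 3, 3, 4, 5, 3, 3, 4, 5, 3, 3, 4, 5] 0 11 = true := by decide +kernel

theorem rel12 : T.rel 11 [3, 4, 5, 2, 3, 3, 3, 4, 5, 4, 4, 3, 3, 4, 5] 0 11 = true := by decide +kernel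

theorem rel13 : T.rel 11 [3, 2, 2, 5, 2, 5, 3, 3, 4, 5, 4, 4, 3, 2, 5, 5, 4] 0 11 = true := by decide +kernel

theorem rel14 : T.rel 11 [3, 3, 3, 3, 3] 0 11 = true := by decide +kernel

theorem rel15 : T.rel 11 [4, 3, 4, 3, 4, 3, 4, 3] 0 11 = true := by decide +kernel

theorem rel16 : T.rel 11 [2, 5, 4, 5, 5, 2, 5, 4, 5, 5] 0 11 = true := by decide +kernel

theorem rel17 : T.rel 11 [3, 2, 3, 2, 3, 2, 3, 2] 0 11 = true := by decide +kernel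

theorem rel18 : T.rel 11 [1, 5, 1, 2, 3, 4, 3, 4, 4, 5, 1, 3, 1, 5, 2, 5, 4, 5] 0 11 = true := by decide +kernel

theorem rel19 : T.rel 11 [1, 3, 1, 2, 1, 5, 1, 4, 4, 3, 3, 2, 5, 4, 4, 5, 5, 4] 0 11 = true := by decide +kernel

theorem rel20 : T.rel 11 [1, 5, 1, 2, 2, 1, 3, 1, 5, 5, 4, 3, 3, 2, 5, 5] 0 11 = true := by decide +kernel

theorem rel21 : T.rel 11 [1, 3, 1, 5, 1, 3, 2, 3, 4, 3, 1, 3, 1, 5, 1, 5, 2, 5, 4, 5] 0 11 = true := by decide +kernel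

theorem rel22 : T.rel 11 [1, 2, 1, 3, 4, 5, 2, 3, 2, 5, 5, 4, 3] 0 11 = true := by decide +kernel

theorem rel23 : T.rel 11 [1, 3, 2, 5, 5, 1, 5, 5, 4, 5, 5, 4, 3, 3, 4, 3] 0 11 = true := by decide +kernel

theorem rel24 : T.rel 11 [1, 3, 1, 3, 1, 3, 1, 3, 1, 3, 1, 3, 1, 3, 1, 3] 0 11 = true := by decide +kernel

theorem rel25 : T.rel 11 [1, 3, 1, 3, 1, 5, 1, 2, 3, 4, 1, 5, 1, 5, 1, 3, 1, 5, 1, 3, 4, 4, 3, 3] 0 11 = true := by decide +kernel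

theorem hcov : T.treeCov (ones 1755) L 1 = true := by decide +kernel

theorem hg : lall (fun z => band (memL L z) (band (sub (ones 1755) (T.let z).cl) (T.closed (ones 1755) z))) gs = true := by decide +kernel

theorem rot1_1 : T.rot 1 [1] (sel (ones 1755) ip1 1) = true := by decide +kernel

theorem rot1_1r : band (Rule.ok (2 * 1) EX RL ⟨1 :: [1], [], 25, false⟩) (lall (memL L) [1]) = true := by decide +kernel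

theorem rot1_2 : T.rot 1 [2, 1, 3, 4, 5, 2, 3, 2, 5, 5, 4, 3] (sel (ones 1755) ip1 2) = true := by decide +kernel

theorem rot1_2r : band (Rule.ok (2 * 1) EX RL ⟨1 :: [2, 1, 3, 4, 5, 2, 3, 2, 5, 5, 4, 3], [], 21, true⟩) (lall (memL L) [2, 1, 3, 4, 5, 2, 3, 2, 5, 5, 4, 3]) = true := by decide +kernel

theorem rot1_3 : T.rot 1 [3, 4, 5, 2, 3, 2, 5, 5, 4, 3, 1, 2] (sel (ones 1755) ip1 3) = true := by decide +kernel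

theorem rot1_3r : band (Rule.ok (2 * 1) EX RL ⟨1 :: [3, 4, 5, 2, 3, 2, 5, 5, 4, 3, 1, 2], [0, 3], 21, true⟩) (lall (memL L) [3, 4, 5, 2, 3, 2, 5, 5, 4, 3, 1, 2]) = true := by decide +kernel

theorem rot1_4 : T.rot 1 [4, 1, 5, 2, 3, 3, 4, 5, 4, 3, 2, 5] (sel (ones 1755) ip1 4) = true := by decide +kernel

theorem rot1_4r : band (Rule.ok (2 * 1) EX RL ⟨1 :: [4, 1, 5, 2, 3, 3, 4, 5, 4, 3, 2, 5], [0, 3, 0], 21, false⟩) (lall (memL L) [4, 1, 5, 2, 3, 3, 4, 5, 4, 3, 2, 5]) = true := by decide +kernel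

theorem rot1_5 : T.rot 1 [5, 2, 3, 3, 4, 5, 4, 3, 2, 5, 1, 4] (sel (ones 1755) ip1 5) = true := by decide +kernel

theorem rot1_5r : band (Rule.ok (2 * 1) EX RL ⟨1 :: [5, 2, 3, 3, 4, 5, 4, 3, 2, 5, 1, 4], [0], 21, false⟩) (lall (memL L) [5, 2, 3, 3, 4, 5, 4, 3, 2, 5, 1, 4]) = true := by decide +kernel

theorem rot1_6 : T.rot 1 [5, 1, 2, 2, 1, 3, 1, 5, 5, 4, 3, 3, 2, 5, 5] (sel (ones 1755) ip1 6) = true := by decide +kernel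

theorem rot1_6r : band (Rule.ok (2 * 1) EX RL ⟨1 :: [5, 1, 2, 2, 1, 3, 1, 5, 5, 4, 3, 3, 2, 5, 5], [], 19, true⟩) (lall (memL L) [5, 1, 2, 2, 1, 3, 1, 5, 5, 4, 3, 3, 2, 5, 5]) = true := by decide +kernel

theorem rot1_7 : T.rot 1 [2, 2, 1, 3, 1, 5, 5, 4, 3, 3, 2, 5, 5, 1, 5] (sel (ones 1755) ip1 7) = true := by decide +kernel

theorem rot1_7r : band (Rule.ok (2 * 1) EX RL ⟨1 :: [2, 2, 1, 3, 1, 5, 5, 4, 3, 3, 2, 5, 5, 1, 5], [0, 4], 19, true⟩) (lall (memL L) [2, 2, 1, 3, 1, 5, 5, 4, 3, 3, 2, 5, 5, 1, 5]) = true := by decide +kernel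

theorem rot1_8 : T.rot 1 [3, 1, 5, 5, 4, 3, 3, 2, 5, 5, 1, 5, 1, 2, 2] (sel (ones 1755) ip1 8) = true := by decide +kernel

theorem rot1_8r : band (Rule.ok (2 * 1) EX RL ⟨1 :: [3, 1, 5, 5, 4, 3, 3, 2, 5, 5, 1, 5, 1, 2, 2], [0, 4, 0, 3, 3], 19, true⟩) (lall (memL L) [3, 1, 5, 5, 4, 3, 3, 2, 5, 5, 1, 5, 1, 2, 2]) = true := by decide +kernel

theorem rot1_9 : T.rot 1 [5, 5, 4, 3, 3, 2, 5, 5, 1, 5, 1, 2, 2, 1, 3] (sel (ones 1755) ip1 9) = true := by decide +kernel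

theorem rot1_9r : band (Rule.ok (2 * 1) EX RL ⟨1 :: [5, 5, 4, 3, 3, 2, 5, 5, 1, 5, 1, 2, 2, 1, 3], [0, 4, 0, 3, 3, 0, 5], 19, true⟩) (lall (memL L) [5, 5, 4, 3, 3, 2, 5, 5, 1, 5, 1, 2, 2, 1, 3]) = true := by decide +kernel

theorem rot1_10 : T.rot 1 [5, 1, 4, 4, 1, 3, 1, 3, 3, 4, 5, 5, 2, 3, 3] (sel (ones 1755) ip1 10) = true := by decide +kernel

theorem rot1_10r : band (Rule.ok (2 * 1) EX RL ⟨1 :: [5, 1, 4, 4, 1, 3, 1, 3, 3, 4, 5, 5, 2, 3, 3], [0, 4, 0, 3, 3, 0, 5, 0], 19, false⟩) (lall (memL L) [5, 1, 4, 4, 1, 3, 1, 3, 3, 4, 5, 5, 2, 3, 3]) = true := by decide +kernel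

theorem rot1_11 : T.rot 1 [4, 4, 1, 3, 1, 3, 3, 4, 5, 5, 2, 3, 3, 1, 5] (sel (ones 1755) ip1 11) = true := by decide +kernel

theorem rot1_11r : band (Rule.ok (2 * 1) EX RL ⟨1 :: [4, 4, 1, 3, 1, 3, 3, 4, 5, 5, 2, 3, 3, 1, 5], [0, 4, 0, 3, 3, 0], 19, false⟩) (lall (memL L) [4, 4, 1, 3, 1, 3, 3, 4, 5, 5, 2, 3, 3, 1, 5]) = true := by decide +kernel

theorem rot1_12 : T.rot 1 [3, 1, 3, 3, 4, 5, 5, 2, 3, 3, 1, 5, 1, 4, 4] (sel (ones 1755) ip1 12) = true := by decide +kernel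

theorem rot1_12r : band (Rule.ok (2 * 1) EX RL ⟨1 :: [3, 1, 3, 3, 4, 5, 5, 2, 3, 3, 1, 5, 1, 4, 4], [0, 4, 0], 19, false⟩) (lall (memL L) [3, 1, 3, 3, 4, 5, 5, 2, 3, 3, 1, 5, 1, 4, 4]) = true := by decide +kernel

theorem rot1_13 : T.rot 1 [3, 3, 4, 5, 5, 2, 3, 3, 1, 5, 1, 4, 4, 1, 3] (sel (ones 1755) ip1 13) = true := by decide +kernel

theorem rot1_13r : band (Rule.ok (2 * 1) EX RL ⟨1 :: [3, 3, 4, 5, 5, 2, 3, 3, 1, 5, 1, 4, 4, 1, 3], [0], 19, false⟩) (lall (memL L) [3, 3, 4, 5, 5, 2, 3, 3, 1, 5, 1, 4, 4, 1, 3]) = true := by decide +kernel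

theorem rot1_14 : T.rot 1 [3, 2, 5, 5, 1, 5, 5, 4, 5, 5, 4, 3, 3, 4, 3] (sel (ones 1755) ip1 14) = true := by decide +kernel

theorem rot1_14r : band (Rule.ok (2 * 1) EX RL ⟨1 :: [3, 2, 5, 5, 1, 5, 5, 4, 5, 5, 4, 3, 3, 4, 3], [], 22, true⟩) (lall (memL L) [3, 2, 5, 5, 1, 5, 5, 4, 5, 5, 4, 3, 3, 4, 3]) = true := by decide +kernel

theorem rot1_15 : T.rot 1 [5, 5, 4, 5, 5, 4, 3, 3, 4, 3, 1, 3, 2, 5, 5] (sel (ones 1755) ip1 15) = true := by decide +kernel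

theorem rot1_15r : band (Rule.ok (2 * 1) EX RL ⟨1 :: [5, 5, 4, 5, 5, 4, 3, 3, 4, 3, 1, 3, 2, 5, 5], [0, 5, 3, 4, 4], 22, true⟩) (lall (memL L) [5, 5, 4, 5, 5, 4, 3, 3, 4, 3, 1, 3, 2, 5, 5]) = true := by decide +kernel

theorem rot1_16 : T.rot 1 [3, 3, 4, 5, 1, 5, 2, 5, 5, 2, 3, 3, 2, 3, 3] (sel (ones 1755) ip1 16) = true := by decide +kernel

theorem rot1_16r : band (Rule.ok (2 * 1) EX RL ⟨1 :: [3, 3, 4, 5, 1, 5, 2, 5, 5, 2, 3, 3, 2, 3, 3], [0, 5, 3, 4, 4, 0], 22, false⟩) (lall (memL L) [3, 3, 4, 5, 1, 5, 2, 5, 5, 2, 3, 3, 2, 3, 3]) = true := by decide +kernel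

theorem rot1_17 : T.rot 1 [5, 2, 5, 5, 2, 3, 3, 2, 3, 3, 1, 3, 3, 4, 5] (sel (ones 1755) ip1 17) = true := by decide +kernel

theorem rot1_17r : band (Rule.ok (2 * 1) EX RL ⟨1 :: [5, 2, 5, 5, 2, 3, 3, 2, 3, 3, 1, 3, 3, 4, 5], [0], 22, false⟩) (lall (memL L) [5, 2, 5, 5, 2, 3, 3, 2, 3, 3, 1, 3, 3, 4, 5]) = true := by decide +kernel

theorem rot1_18 : T.rot 1 [3, 1, 3, 1, 3, 1, 3, 1, 3, 1, 3, 1, 3, 1, 3] (sel (ones 1755) ip1 18) = true := by decide +kernel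

theorem rot1_18r : band (Rule.ok (2 * 1) EX RL ⟨1 :: [3, 1, 3, 1, 3, 1, 3, 1, 3, 1, 3, 1, 3, 1, 3], [], 23, true⟩) (lall (memL L) [3, 1, 3, 1, 3, 1, 3, 1, 3, 1, 3, 1, 3, 1, 3]) = true := by decide +kernel

theorem rot1_19 : T.rot 1 [5, 1, 5, 1, 5, 1, 5, 1, 5, 1, 5, 1, 5, 1, 5] (sel (ones 1755) ip1 19) = true := by decide +kernel

theorem rot1_19r : band (Rule.ok (2 * 1) EX RL ⟨1 :: [5, 1, 5, 1, 5, 1, 5, 1, 5, 1, 5, 1, 5, 1, 5], [0], 23, false⟩) (lall (memL L) [5, 1, 5, 1, 5, 1, 5, 1, 5, 1, 5, 1, 5, 1, 5]) = true := by decide +kernel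

theorem rot1_20 : T.rot 1 [5, 1, 2, 3, 4, 3, 4, 4, 5, 1, 3, 1, 5, 2, 5, 4, 5] (sel (ones 1755) ip1 20) = true := by decide +kernel

theorem rot1_20r : band (Rule.ok (2 * 1) EX RL ⟨1 :: [5, 1, 2, 3, 4, 3, 4, 4, 5, 1, 3, 1, 5, 2, 5, 4, 5], [], 17, true⟩) (lall (memL L) [5, 1, 2, 3, 4, 3, 4, 4, 5, 1, 3, 1, 5, 2, 5, 4, 5]) = true := by decide +kernel

theorem rot1_21 : T.rot 1 [2, 3, 4, 3, 4, 4, 5, 1, 3, 1, 5, 2, 5, 4, 5, 1, 5] (sel (ones 1755) ip1 21) = true := by decide +kernel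

theorem rot1_21r : band (Rule.ok (2 * 1) EX RL ⟨1 :: [2, 3, 4, 3, 4, 4, 5, 1, 3, 1, 5, 2, 5, 4, 5, 1, 5], [0, 4], 17, true⟩) (lall (memL L) [2, 3, 4, 3, 4, 4, 5, 1, 3, 1, 5, 2, 5, 4, 5, 1, 5]) = true := by decide +kernel

theorem rot1_22 : T.rot 1 [3, 1, 5, 2, 5, 4, 5, 1, 5, 1, 2, 3, 4, 3, 4, 4, 5] (sel (ones 1755) ip1 22) = true := by decide +kernel

theorem rot1_22r : band (Rule.ok (2 * 1) EX RL ⟨1 :: [3, 1, 5, 2, 5, 4, 5, 1, 5, 1, 2, 3, 4, 3, 4, 4, 5], [5, 3, 5, 2, 5, 0, 4, 0], 17, true⟩) (lall (memL L) [3, 1, 5, 2, 5, 4, 5, 1, 5, 1, 2, 3, 4, 3, 4, 4, 5]) = true := by decide +kernel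

theorem rot1_23 : T.rot 1 [5, 2, 5, 4, 5, 1, 5, 1, 2, 3, 4, 3, 4, 4, 5, 1, 3] (sel (ones 1755) ip1 23) = true := by decide +kernel

theorem rot1_23r : band (Rule.ok (2 * 1) EX RL ⟨1 :: [5, 2, 5, 4, 5, 1, 5, 1, 2, 3, 4, 3, 4, 4, 5, 1, 3], [5, 3, 5, 2, 5, 0], 17, true⟩) (lall (memL L) [5, 2, 5, 4, 5, 1, 5, 1, 2, 3, 4, 3, 4, 4, 5, 1, 3]) = true := by decide +kernel

theorem rot1_24 : T.rot 1 [5, 1, 3, 2, 2, 5, 2, 5, 4, 1, 3, 1, 3, 2, 3, 4, 3] (sel (ones 1755) ip1 24) = true := by decide +kernel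

theorem rot1_24r : band (Rule.ok (2 * 1) EX RL ⟨1 :: [5, 1, 3, 2, 2, 5, 2, 5, 4, 1, 3, 1, 3, 2, 3, 4, 3], [5, 3, 5, 2, 5], 17, false⟩) (lall (memL L) [5, 1, 3, 2, 2, 5, 2, 5, 4, 1, 3, 1, 3, 2, 3, 4, 3]) = true := by decide +kernel

theorem rot1_25 : T.rot 1 [3, 2, 2, 5, 2, 5, 4, 1, 3, 1, 3, 2, 3, 4, 3, 1, 5] (sel (ones 1755) ip1 25) = true := by decide +kernel

theorem rot1_25r : band (Rule.ok (2 * 1) EX RL ⟨1 :: [3, 2, 2, 5, 2, 5, 4, 1, 3, 1, 3, 2, 3, 4, 3, 1, 5], [5, 3, 5, 2, 5, 0, 4], 17, false⟩) (lall (memL L) [3, 2, 2, 5, 2, 5, 4, 1, 3, 1, 3, 2, 3, 4, 3, 1, 5]) = true := by decide +kernel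

theorem rot1_26 : T.rot 1 [3, 1, 3, 2, 3, 4, 3, 1, 5, 1, 3, 2, 2, 5, 2, 5, 4] (sel (ones 1755) ip1 26) = true := by decide +kernel

theorem rot1_26r : band (Rule.ok (2 * 1) EX RL ⟨1 :: [3, 1, 3, 2, 3, 4, 3, 1, 5, 1, 3, 2, 2, 5, 2, 5, 4], [0, 4, 0], 17, false⟩) (lall (memL L) [3, 1, 3, 2, 3, 4, 3, 1, 5, 1, 3, 2, 2, 5, 2, 5, 4]) = true := by decide +kernel

theorem rot1_27 : T.rot 1 [3, 2, 3, 4, 3, 1, 5, 1, 3, 2, 2, 5, 2, 5, 4, 1, 3] (sel (ones 1755) ip1 27) = true := by decide +kernel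

theorem rot1_27r : band (Rule.ok (2 * 1) EX RL ⟨1 :: [3, 2, 3, 4, 3, 1, 5, 1, 3, 2, 2, 5, 2, 5, 4, 1, 3], [0], 17, false⟩) (lall (memL L) [3, 2, 3, 4, 3, 1, 5, 1, 3, 2, 2, 5, 2, 5, 4, 1, 3]) = true := by decide +kernel

theorem rot1_28 : T.rot 1 [3, 1, 2, 1, 5, 1, 4, 4, 3, 3, 2, 5, 4, 4, 5, 5, 4] (sel (ones 1755) ip1 28) = true := by decide +kernel

theorem rot1_28r : band (Rule.ok (2 * 1) EX RL ⟨1 :: [3, 1, 2, 1, 5, 1, 4, 4, 3, 3, 2, 5, 4, 4, 5, 5, 4], [], 18, true⟩) (lall (memL L) [3, 1, 2, 1, 5, 1, 4, 4, 3, 3, 2, 5, 4, 4, 5, 5, 4]) = true := by decide +kernel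

theorem rot1_29 : T.rot 1 [2, 1, 5, 1, 4, 4, 3, 3, 2, 5, 4, 4, 5, 5, 4, 1, 3] (sel (ones 1755) ip1 29) = true := by decide +kernel

theorem rot1_29r : band (Rule.ok (2 * 1) EX RL ⟨1 :: [2, 1, 5, 1, 4, 4, 3, 3, 2, 5, 4, 4, 5, 5, 4, 1, 3], [0, 5], 18, true⟩) (lall (memL L) [2, 1, 5, 1, 4, 4, 3, 3, 2, 5, 4, 4, 5, 5, 4, 1, 3]) = true := by decide +kernel

theorem rot1_30 : T.rot 1 [5, 1, 4, 4, 3, 3, 2, 5, 4, 4, 5, 5, 4, 1, 3, 1, 2] (sel (ones 1755) ip1 30) = true := by decide +kernel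

theorem rot1_30r : band (Rule.ok (2 * 1) EX RL ⟨1 :: [5, 1, 4, 4, 3, 3, 2, 5, 4, 4, 5, 5, 4, 1, 3, 1, 2], [0, 5, 0, 3], 18, true⟩) (lall (memL L) [5, 1, 4, 4, 3, 3, 2, 5, 4, 4, 5, 5, 4, 1, 3, 1, 2]) = true := by decide +kernel

theorem rot1_31 : T.rot 1 [4, 4, 3, 3, 2, 5, 4, 4, 5, 5, 4, 1, 3, 1, 2, 1, 5] (sel (ones 1755) ip1 31) = true := by decide +kernel

theorem rot1_31r : band (Rule.ok (2 * 1) EX RL ⟨1 :: [4, 4, 3, 3, 2, 5, 4, 4, 5, 5, 4, 1, 3, 1, 2, 1, 5], [0, 5, 0, 3, 0, 4], 18, true⟩) (lall (memL L) [4, 4, 3, 3, 2, 5, 4, 4, 5, 5, 4, 1, 3, 1, 2, 1, 5]) = true := by decide +kernel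

theorem rot1_32 : T.rot 1 [3, 1, 4, 1, 5, 1, 2, 3, 3, 2, 2, 3, 4, 5, 5, 2, 2] (sel (ones 1755) ip1 32) = true := by decide +kernel

theorem rot1_32r : band (Rule.ok (2 * 1) EX RL ⟨1 :: [3, 1, 4, 1, 5, 1, 2, 3, 3, 2, 2, 3, 4, 5, 5, 2, 2], [0, 5, 0, 3, 0, 4, 0], 18, false⟩) (lall (memL L) [3, 1, 4, 1, 5, 1, 2, 3, 3, 2, 2, 3, 4, 5, 5, 2, 2]) = true := by decide +kernel

theorem rot1_33 : T.rot 1 [4, 1, 5, 1, 2, 3, 3, 2, 2, 3, 4, 5, 5, 2, 2, 1, 3] (sel (ones 1755) ip1 33) = true := by decide +kernel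

theorem rot1_33r : band (Rule.ok (2 * 1) EX RL ⟨1 :: [4, 1, 5, 1, 2, 3, 3, 2, 2, 3, 4, 5, 5, 2, 2, 1, 3], [0, 5, 0, 3, 0], 18, false⟩) (lall (memL L) [4, 1, 5, 1, 2, 3, 3, 2, 2, 3, 4, 5, 5, 2, 2, 1, 3]) = true := by decide +kernel

theorem rot1_34 : T.rot 1 [5, 1, 2, 3, 3, 2, 2, 3, 4, 5, 5, 2, 2, 1, 3, 1, 4] (sel (ones 1755) ip1 34) = true := by decide +kernel

theorem rot1_34r : band (Rule.ok (2 * 1) EX RL ⟨1 :: [5, 1, 2, 3, 3, 2, 2, 3, 4, 5, 5, 2, 2, 1, 3, 1, 4], [0, 5, 0], 18, false⟩) (lall (memL L) [5, 1, 2, 3, 3, 2, 2, 3, 4, 5, 5, 2, 2, 1, 3, 1, 4]) = true := by decide +kernel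

theorem rot1_35 : T.rot 1 [2, 3, 3, 2, 2, 3, 4, 5, 5, 2, 2, 1, 3, 1, 4, 1, 5] (sel (ones 1755) ip1 35) = true := by decide +kernel

theorem rot1_35r : band (Rule.ok (2 * 1) EX RL ⟨1 :: [2, 3, 3, 2, 2, 3, 4, 5, 5, 2, 2, 1, 3, 1, 4, 1, 5], [0], 18, false⟩) (lall (memL L) [2, 3, 3, 2, 2, 3, 4, 5, 5, 2, 2, 1, 3, 1, 4, 1, 5]) = true := by decide +kernel

theorem rot1_36 : T.rot 1 [3, 1, 5, 1, 3, 2, 3, 4, 3, 1, 3, 1, 5, 1, 5, 2, 5, 4, 5] (sel (ones 1755) ip1 36) = true := by decide +kernel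

theorem rot1_36r : band (Rule.ok (2 * 1) EX RL ⟨1 :: [3, 1, 5, 1, 3, 2, 3, 4, 3, 1, 3, 1, 5, 1, 5, 2, 5, 4, 5], [], 20, true⟩) (lall (memL L) [3, 1, 5, 1, 3, 2, 3, 4, 3, 1, 3, 1, 5, 1, 5, 2, 5, 4, 5]) = true := by decide +kernel

theorem rot1_37 : T.rot 1 [5, 1, 3, 2, 3, 4, 3, 1, 3, 1, 5, 1, 5, 2, 5, 4, 5, 1, 3] (sel (ones 1755) ip1 37) = true := by decide +kernel

theorem rot1_37r : band (Rule.ok (2 * 1) EX RL ⟨1 :: [5, 1, 3, 2, 3, 4, 3, 1, 3, 1, 5, 1, 5, 2, 5, 4, 5, 1, 3], [0, 5], 20, true⟩) (lall (memL L) [5, 1, 3, 2, 3, 4, 3, 1, 3, 1, 5, 1, 5, 2, 5, 4, 5, 1, 3]) = true := by decide +kernel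

theorem rot1_38 : T.rot 1 [3, 2, 3, 4, 3, 1, 3, 1, 5, 1, 5, 2, 5, 4, 5, 1, 3, 1, 5] (sel (ones 1755) ip1 38) = true := by decide +kernel

theorem rot1_38r : band (Rule.ok (2 * 1) EX RL ⟨1 :: [3, 2, 3, 4, 3, 1, 3, 1, 5, 1, 5, 2, 5, 4, 5, 1, 3, 1, 5], [0], 20, false⟩) (lall (memL L) [3, 2, 3, 4, 3, 1, 3, 1, 5, 1, 5, 2, 5, 4, 5, 1, 3, 1, 5]) = true := by decide +kernel

theorem rot1_39 : T.rot 1 [3, 1, 5, 1, 5, 2, 5, 4, 5, 1, 3, 1, 5, 1, 3, 2, 3, 4, 3] (sel (ones 1755) ip1 39) = true := by decide +kernel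

theorem rot1_39r : band (Rule.ok (2 * 1) EX RL ⟨1 :: [3, 1, 5, 1, 5, 2, 5, 4, 5, 1, 3, 1, 5, 1, 3, 2, 3, 4, 3], [5, 3, 5, 2, 5], 20, false⟩) (lall (memL L) [3, 1, 5, 1, 5, 2, 5, 4, 5, 1, 3, 1, 5, 1, 3, 2, 3, 4, 3]) = true := by decide +kernel

theorem rot1_40 : T.rot 1 [5, 1, 5, 2, 5, 4, 5, 1, 3, 1, 5, 1, 3, 2, 3, 4, 3, 1, 3] (sel (ones 1755) ip1 40) = true := by decide +kernel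

theorem rot1_40r : band (Rule.ok (2 * 1) EX RL ⟨1 :: [5, 1, 5, 2, 5, 4, 5, 1, 3, 1, 5, 1, 3, 2, 3, 4, 3, 1, 3], [5, 3, 5, 2, 5, 0, 5], 20, false⟩) (lall (memL L) [5, 1, 5, 2, 5, 4, 5, 1, 3, 1, 5, 1, 3, 2, 3, 4, 3, 1, 3]) = true := by decide +kernel

theorem rot1_41 : T.rot 1 [5, 2, 5, 4, 5, 1, 3, 1, 5, 1, 3, 2, 3, 4, 3, 1, 3, 1, 5] (sel (ones 1755) ip1 41) = true := by decide +kernel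

theorem rot1_41r : band (Rule.ok (2 * 1) EX RL ⟨1 :: [5, 2, 5, 4, 5, 1, 3, 1, 5, 1, 3, 2, 3, 4, 3, 1, 3, 1, 5], [5, 3, 5, 2, 5, 0], 20, true⟩) (lall (memL L) [5, 2, 5, 4, 5, 1, 3, 1, 5, 1, 3, 2, 3, 4, 3, 1, 3, 1, 5]) = true := by decide +kernel

theorem rot1_42 : T.rot 1 [3, 1, 3, 1, 5, 1, 2, 3, 4, 1, 5, 1, 5, 1, 3, 1, 5, 1, 3, 4, 4, 3, 3] (sel (ones 1755) ip1 42) = true := by decide +kernel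

theorem rot1_42r : band (Rule.ok (2 * 1) EX RL ⟨1 :: [3, 1, 3, 1, 5, 1, 2, 3, 4, 1, 5, 1, 5, 1, 3, 1, 5, 1, 3, 4, 4, 3, 3], [], 24, true⟩) (lall (memL L) [3, 1, 3, 1, 5, 1, 2, 3, 4, 1, 5, 1, 5, 1, 3, 1, 5, 1, 3, 4, 4, 3, 3]) = true := by decide +kernel

theorem rot1_43 : T.rot 1 [3, 1, 5, 1, 2, 3, 4, 1, 5, 1, 5, 1, 3, 1, 5, 1, 3, 4, 4, 3, 3, 1, 3] (sel (ones 1755) ip1 43) = true := by decide +kernel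

theorem rot1_43r : band (Rule.ok (2 * 1) EX RL ⟨1 :: [3, 1, 5, 1, 2, 3, 4, 1, 5, 1, 5, 1, 3, 1, 5, 1, 3, 4, 4, 3, 3, 1, 3], [0, 5], 24, true⟩) (lall (memL L) [3, 1, 5, 1, 2, 3, 4, 1, 5, 1, 5, 1, 3, 1, 5, 1, 3, 4, 4, 3, 3, 1, 3]) = true := by decide +kernel

theorem rot1_44 : T.rot 1 [5, 1, 2, 3, 4, 1, 5, 1, 5, 1, 3, 1, 5, 1, 3, 4, 4, 3, 3, 1, 3, 1, 3] (sel (ones 1755) ip1 44) = true := by decide +kernel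

theorem rot1_44r : band (Rule.ok (2 * 1) EX RL ⟨1 :: [5, 1, 2, 3, 4, 1, 5, 1, 5, 1, 3, 1, 5, 1, 3, 4, 4, 3, 3, 1, 3, 1, 3], [0, 5, 0, 5], 24, true⟩) (lall (memL L) [5, 1, 2, 3, 4, 1, 5, 1, 5, 1, 3, 1, 5, 1, 3, 4, 4, 3, 3, 1, 3, 1, 3]) = true := by decide +kernel

theorem rot1_45 : T.rot 1 [2, 3, 4, 1, 5, 1, 5, 1, 3, 1, 5, 1, 3, 4, 4, 3, 3, 1, 3, 1, 3, 1, 5] (sel (ones 1755) ip1 45) = true := by decide +kernel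

theorem rot1_45r : band (Rule.ok (2 * 1) EX RL ⟨1 :: [2, 3, 4, 1, 5, 1, 5, 1, 3, 1, 5, 1, 3, 4, 4, 3, 3, 1, 3, 1, 3, 1, 5], [0, 5, 0, 5, 0, 4], 24, true⟩) (lall (memL L) [2, 3, 4, 1, 5, 1, 5, 1, 3, 1, 5, 1, 3, 4, 4, 3, 3, 1, 3, 1, 3, 1, 5]) = true := by decide +kernel

theorem rot1_46 : T.rot 1 [5, 1, 5, 1, 3, 1, 5, 1, 3, 4, 4, 3, 3, 1, 3, 1, 3, 1, 5, 1, 2, 3, 4] (sel (ones 1755) ip1 46) = true := by decide +kernel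

theorem rot1_46r : band (Rule.ok (2 * 1) EX RL ⟨1 :: [5, 1, 5, 1, 3, 1, 5, 1, 3, 4, 4, 3, 3, 1, 3, 1, 3, 1, 5, 1, 2, 3, 4], [0, 5, 0, 5, 0, 4, 0, 3, 5, 2], 24, true⟩) (lall (memL L) [5, 1, 5, 1, 3, 1, 5, 1, 3, 4, 4, 3, 3, 1, 3, 1, 3, 1, 5, 1, 2, 3, 4]) = true := by decide +kernel

theorem rot1_47 : T.rot 1 [5, 1, 3, 1, 5, 1, 3, 4, 4, 3, 3, 1, 3, 1, 3, 1, 5, 1, 2, 3, 4, 1, 5] (sel (ones 1755) ip1 47) = true := by decide +kernel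

theorem rot1_47r : band (Rule.ok (2 * 1) EX RL ⟨1 :: [5, 1, 3, 1, 5, 1, 3, 4, 4, 3, 3, 1, 3, 1, 3, 1, 5, 1, 2, 3, 4, 1, 5], [4, 4, 3, 3, 4, 0, 5, 0, 4, 0, 5, 0], 24, true⟩) (lall (memL L) [5, 1, 3, 1, 5, 1, 3, 4, 4, 3, 3, 1, 3, 1, 3, 1, 5, 1, 2, 3, 4, 1, 5]) = true := by decide +kernel

theorem rot1_48 : T.rot 1 [3, 1, 5, 1, 3, 4, 4, 3, 3, 1, 3, 1, 3, 1, 5, 1, 2, 3, 4, 1, 5, 1, 5] (sel (ones 1755) ip1 48) = true := by decide +kernel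

theorem rot1_48r : band (Rule.ok (2 * 1) EX RL ⟨1 :: [3, 1, 5, 1, 3, 4, 4, 3, 3, 1, 3, 1, 3, 1, 5, 1, 2, 3, 4, 1, 5, 1, 5], [4, 4, 3, 3, 4, 0, 5, 0, 4, 0], 24, true⟩) (lall (memL L) [3, 1, 5, 1, 3, 4, 4, 3, 3, 1, 3, 1, 3, 1, 5, 1, 2, 3, 4, 1, 5, 1, 5]) = true := by decide +kernel

theorem rot1_49 : T.rot 1 [5, 1, 3, 4, 4, 3, 3, 1, 3, 1, 3, 1, 5, 1, 2, 3, 4, 1, 5, 1, 5, 1, 3] (sel (ones 1755) ip1 49) = true := by decide +kernel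

theorem rot1_49r : band (Rule.ok (2 * 1) EX RL ⟨1 :: [5, 1, 3, 4, 4, 3, 3, 1, 3, 1, 3, 1, 5, 1, 2, 3, 4, 1, 5, 1, 5, 1, 3], [4, 4, 3, 3, 4, 0, 5, 0], 24, true⟩) (lall (memL L) [5, 1, 3, 4, 4, 3, 3, 1, 3, 1, 3, 1, 5, 1, 2, 3, 4, 1, 5, 1, 5, 1, 3]) = true := by decide +kernel

theorem rot1_50 : T.rot 1 [3, 4, 4, 3, 3, 1, 3, 1, 3, 1, 5, 1, 2, 3, 4, 1, 5, 1, 5, 1, 3, 1, 5] (sel (ones 1755) ip1 50) = true := by decide +kernel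

theorem rot1_50r : band (Rule.ok (2 * 1) EX RL ⟨1 :: [3, 4, 4, 3, 3, 1, 3, 1, 3, 1, 5, 1, 2, 3, 4, 1, 5, 1, 5, 1, 3, 1, 5], [4, 4, 3, 3, 4, 0], 24, true⟩) (lall (memL L) [3, 4, 4, 3, 3, 1, 3, 1, 3, 1, 5, 1, 2, 3, 4, 1, 5, 1, 5, 1, 3, 1, 5]) = true := by decide +kernel

theorem rot1_51 : T.rot 1 [3, 1, 5, 1, 3, 1, 3, 1, 2, 5, 4, 1, 3, 1, 5, 1, 5, 1, 5, 5, 2, 2, 5] (sel (ones 1755) ip1 51) = true := by decide +kernel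

theorem rot1_51r : band (Rule.ok (2 * 1) EX RL ⟨1 :: [3, 1, 5, 1, 3, 1, 3, 1, 2, 5, 4, 1, 3, 1, 5, 1, 5, 1, 5, 5, 2, 2, 5], [4, 4, 3, 3, 4], 24, false⟩) (lall (memL L) [3, 1, 5, 1, 3, 1, 3, 1, 2, 5, 4, 1, 3, 1, 5, 1, 5, 1, 5, 5, 2, 2, 5]) = true := by decide +kernel

theorem rot1_52 : T.rot 1 [5, 1, 3, 1, 3, 1, 2, 5, 4, 1, 3, 1, 5, 1, 5, 1, 5, 5, 2, 2, 5, 1, 3] (sel (ones 1755) ip1 52) = true := by decide +kernel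

theorem rot1_52r : band (Rule.ok (2 * 1) EX RL ⟨1 :: [5, 1, 3, 1, 3, 1, 2, 5, 4, 1, 3, 1, 5, 1, 5, 1, 5, 5, 2, 2, 5, 1, 3], [4, 4, 3, 3, 4, 0, 5], 24, false⟩) (lall (memL L) [5, 1, 3, 1, 3, 1, 2, 5, 4, 1, 3, 1, 5, 1, 5, 1, 5, 5, 2, 2, 5, 1, 3]) = true := by decide +kernel

theorem rot1_53 : T.rot 1 [3, 1, 3, 1, 2, 5, 4, 1, 3, 1, 5, 1, 5, 1, 5, 5, 2, 2, 5, 1, 3, 1, 5] (sel (ones 1755) ip1 53) = true := by decide +kernel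

theorem rot1_53r : band (Rule.ok (2 * 1) EX RL ⟨1 :: [3, 1, 3, 1, 2, 5, 4, 1, 3, 1, 5, 1, 5, 1, 5, 5, 2, 2, 5, 1, 3, 1, 5], [4, 4, 3, 3, 4, 0, 5, 0, 4], 24, false⟩) (lall (memL L) [3, 1, 3, 1, 2, 5, 4, 1, 3, 1, 5, 1, 5, 1, 5, 5, 2, 2, 5, 1, 3, 1, 5]) = true := by decide +kernel

theorem rot1_54 : T.rot 1 [3, 1, 2, 5, 4, 1, 3, 1, 5, 1, 5, 1, 5, 5, 2, 2, 5, 1, 3, 1, 5, 1, 3] (sel (ones 1755) ip1 54) = true := by decide +kernel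

theorem rot1_54r : band (Rule.ok (2 * 1) EX RL ⟨1 :: [3, 1, 2, 5, 4, 1, 3, 1, 5, 1, 5, 1, 5, 5, 2, 2, 5, 1, 3, 1, 5, 1, 3], [4, 4, 3, 3, 4, 0, 5, 0, 4, 0, 5], 24, false⟩) (lall (memL L) [3, 1, 2, 5, 4, 1, 3, 1, 5, 1, 5, 1, 5, 5, 2, 2, 5, 1, 3, 1, 5, 1, 3]) = true := by decide +kernel

theorem rot1_55 : T.rot 1 [2, 5, 4, 1, 3, 1, 5, 1, 5, 1, 5, 5, 2, 2, 5, 1, 3, 1, 5, 1, 3, 1, 3] (sel (ones 1755) ip1 55) = true := by decide +kernel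

theorem rot1_55r : band (Rule.ok (2 * 1) EX RL ⟨1 :: [2, 5, 4, 1, 3, 1, 5, 1, 5, 1, 5, 5, 2, 2, 5, 1, 3, 1, 5, 1, 3, 1, 3], [0, 5, 0, 5, 0, 4, 0, 3, 5, 2, 0], 24, false⟩) (lall (memL L) [2, 5, 4, 1, 3, 1, 5, 1, 5, 1, 5, 5, 2, 2, 5, 1, 3, 1, 5, 1, 3, 1, 3]) = true := by decide +kernel

theorem rot1_56 : T.rot 1 [3, 1, 5, 1, 5, 1, 5, 5, 2, 2, 5, 1, 3, 1, 5, 1, 3, 1, 3, 1, 2, 5, 4] (sel (ones 1755) ip1 56) = true := by decide +kernel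

theorem rot1_56r : band (Rule.ok (2 * 1) EX RL ⟨1 :: [3, 1, 5, 1, 5, 1, 5, 5, 2, 2, 5, 1, 3, 1, 5, 1, 3, 1, 3, 1, 2, 5, 4], [0, 5, 0, 5, 0, 4, 0], 24, false⟩) (lall (memL L) [3, 1, 5, 1, 5, 1, 5, 5, 2, 2, 5, 1, 3, 1, 5, 1, 3, 1, 3, 1, 2, 5, 4]) = true := by decide +kernel

theorem rot1_57 : T.rot 1 [5, 1, 5, 1, 5, 5, 2, 2, 5, 1, 3, 1, 5, 1, 3, 1, 3, 1, 2, 5, 4, 1, 3] (sel (ones 1755) ip1 57) = true := by decide +kernel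

theorem rot1_57r : band (Rule.ok (2 * 1) EX RL ⟨1 :: [5, 1, 5, 1, 5, 5, 2, 2, 5, 1, 3, 1, 5, 1, 3, 1, 3, 1, 2, 5, 4, 1, 3], [0, 5, 0, 5, 0], 24, false⟩) (lall (memL L) [5, 1, 5, 1, 5, 5, 2, 2, 5, 1, 3, 1, 5, 1, 3, 1, 3, 1, 2, 5, 4, 1, 3]) = true := by decide +kernel

theorem rot1_58 : T.rot 1 [5, 1, 5, 5, 2, 2, 5, 1, 3, 1, 5, 1, 3, 1, 3, 1, 2, 5, 4, 1, 3, 1, 5] (sel (ones 1755) ip1 58) = true := by decide +kernel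

theorem rot1_58r : band (Rule.ok (2 * 1) EX RL ⟨1 :: [5, 1, 5, 5, 2, 2, 5, 1, 3, 1, 5, 1, 3, 1, 3, 1, 2, 5, 4, 1, 3, 1, 5], [0, 5, 0], 24, false⟩) (lall (memL L) [5, 1, 5, 5, 2, 2, 5, 1, 3, 1, 5, 1, 3, 1, 3, 1, 2, 5, 4, 1, 3, 1, 5]) = true := by decide +kernel

theorem rot1_59 : T.rot 1 [5, 5, 2, 2, 5, 1, 3, 1, 5, 1, 3, 1, 3, 1, 2, 5, 4, 1, 3, 1, 5, 1, 5] (sel (ones 1755) ip1 59) = true := by decide +kernel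

theorem rot1_59r : band (Rule.ok (2 * 1) EX RL ⟨1 :: [5, 5, 2, 2, 5, 1, 3, 1, 5, 1, 3, 1, 3, 1, 2, 5, 4, 1, 3, 1, 5, 1, 5], [0], 24, false⟩) (lall (memL L) [5, 5, 2, 2, 5, 1, 3, 1, 5, 1, 3, 1, 3, 1, 2, 5, 4, 1, 3, 1, 5, 1, 5]) = true := by decide +kernel

theorem cov1 : T.cover 1 [(sel (ones 1755) ip1 1), (sel (ones 1755) ip1 2), (sel (ones 1755) ip1 3), (sel (ones 1755) ip1 4), (sel (ones 1755) ip1 5), (sel (ones 1755) ip1 6), (sel (ones 1755) ip1 7), (sel (ones 1755) ip1 8), (sel (ones 1755) ip1 9), (sel (ones 1755) ip1 10), (sel (ones 1755) ip1 11), (sel (ones 1755) ip1 12), (sel (ones 1755) ip1 13), (sel (ones 1755) ip1 14), (sel (ones 1755) ip1 15), (sel (ones 1755) ip1 16), (sel (ones 1755) ip1 17), (sel (ones 1755) ip1 18), (sel (ones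 1755) ip1 19), (sel (ones 1755) ip1 20), (sel (ones 1755) ip1 21), (sel (ones 1755) ip1 22), (sel (ones 1755) ip1 23), (sel (ones 1755) ip1 24), (sel (ones 1755) ip1 25), (sel (ones 1755) ip1 26), (sel (ones 1755) ip1 27), (sel (ones 1755) ip1 28), (sel (ones 1755) ip1 29), (sel (ones 1755) ip1 30), (sel (ones 1755) ip1 31), (sel (ones 1755) ip1 32), (sel (ones 1755) ip1 33), (sel (ones 1755) ip1 34), (sel (ones 1755) ip1 35), (sel (ones 1755) ip1 36), (sel (ones 1755) ip1 37), (sel (ones 1755) ip1 38), (sel (ones 1755) ip1 39), (sel (ones 1755) ip1 40), (sel (ones 1755) ip1 41), (sel (ones 1755) ip1 42), (sel (ones 1755) ip1 43), (sel (ones 1755) ip1 44), (sel (ones 1755) ip1 45), (sel (ones 1755) ip1 46), (sel (ones 1755) ip1 47), (sel (ones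 1755) ip1 48), (sel (ones 1755) ip1 49), (sel (ones 1755) ip1 50), (sel (ones 1755) ip1 51), (sel (ones 1755) ip1 52), (sel (ones 1755) ip1 53), (sel (ones 1755) ip1 54), (sel (ones 1755) ip1 55), (sel (ones 1755) ip1 56), (sel (ones 1755) ip1 57), (sel (ones 1755) ip1 58), (sel (ones 1755) ip1 59)] = true := by decide +kernel

theorem tl1 : T.treeLt 11 1 = true := by decide +kernel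

theorem rot2_1 : T.rot 2 [4] (sel (ones 1755) ip2 1) = true := by decide +kernel

theorem rot2_1r : band (Rule.ok (2 * 1) EX RL ⟨2 :: [4], [], 25, false⟩) (lall (memL L) [4]) = true := by decide +kernel

theorem rot2_2 : T.rot 2 [2, 2, 2] (sel (ones 1755) ip2 2) = true := by decide +kernel

theorem rot2_2r : band (Rule.ok (2 * 1) EX RL ⟨2 :: [2, 2, 2], [], 9, true⟩) (lall (memL L) [2, 2, 2]) = true := by decide +kernel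

theorem rot2_3 : T.rot 2 [5, 2, 5, 2, 5, 2, 5] (sel (ones 1755) ip2 3) = true := by decide +kernel

theorem rot2_3r : band (Rule.ok (2 * 1) EX RL ⟨2 :: [5, 2, 5, 2, 5, 2, 5], [5], 10, false⟩) (lall (memL L) [5, 2, 5, 2, 5, 2, 5]) = true := by decide +kernel

theorem rot2_4 : T.rot 2 [3, 2, 3, 2, 3, 2, 3] (sel (ones 1755) ip2 4) = true := by decide +kernel

theorem rot2_4r : band (Rule.ok (2 * 1) EX RL ⟨2 :: [3, 2, 3, 2, 3, 2, 3], [2], 16, true⟩) (lall (memL L) [3, 2, 3, 2, 3, 2, 3]) = true := by decide +kernel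

theorem rot2_5 : T.rot 2 [5, 4, 5, 5, 2, 5, 4, 5, 5] (sel (ones 1755) ip2 5) = true := by decide +kernel

theorem rot2_5r : band (Rule.ok (2 * 1) EX RL ⟨2 :: [5, 4, 5, 5, 2, 5, 4, 5, 5], [], 15, true⟩) (lall (memL L) [5, 4, 5, 5, 2, 5, 4, 5, 5]) = true := by decide +kernel

theorem rot2_6 : T.rot 2 [3, 4, 3, 3, 2, 3, 4, 3, 3] (sel (ones 1755) ip2 6) = true := by decide +kernel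

theorem rot2_6r : band (Rule.ok (2 * 1) EX RL ⟨2 :: [3, 4, 3, 3, 2, 3, 4, 3, 3], [5, 5], 15, false⟩) (lall (memL L) [3, 4, 3, 3, 2, 3, 4, 3, 3]) = true := by decide +kernel

theorem rot2_7 : T.rot 2 [1, 3, 4, 5, 2, 3, 2, 5, 5, 4, 3, 1] (sel (ones 1755) ip2 7) = true := by decide +kernel

theorem rot2_7r : band (Rule.ok (2 * 1) EX RL ⟨2 :: [1, 3, 4, 5, 2, 3, 2, 5, 5, 4, 3, 1], [0], 21, true⟩) (lall (memL L) [1, 3, 4, 5, 2, 3, 2, 5, 5, 4, 3, 1]) = true := by decide +kernel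

theorem rot2_8 : T.rot 2 [3, 2, 5, 5, 4, 3, 1, 2, 1, 3, 4, 5] (sel (ones 1755) ip2 8) = true := by decide +kernel

theorem rot2_8r : band (Rule.ok (2 * 1) EX RL ⟨2 :: [3, 2, 5, 5, 4, 3, 1, 2, 1, 3, 4, 5], [0, 3, 0, 5, 2, 4], 21, true⟩) (lall (memL L) [3, 2, 5, 5, 4, 3, 1, 2, 1, 3, 4, 5]) = true := by decide +kernel

theorem rot2_9 : T.rot 2 [5, 5, 4, 3, 1, 2, 1, 3, 4, 5, 2, 3] (sel (ones 1755) ip2 9) = true := by decide +kernel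

theorem rot2_9r : band (Rule.ok (2 * 1) EX RL ⟨2 :: [5, 5, 4, 3, 1, 2, 1, 3, 4, 5, 2, 3], [4, 3, 5, 5, 2], 21, true⟩) (lall (memL L) [5, 5, 4, 3, 1, 2, 1, 3, 4, 5, 2, 3]) = true := by decide +kernel

theorem rot2_10 : T.rot 2 [3, 3, 4, 5, 4, 3, 2, 5, 1, 4, 1, 5] (sel (ones 1755) ip2 10) = true := by decide +kernel

theorem rot2_10r : band (Rule.ok (2 * 1) EX RL ⟨2 :: [3, 3, 4, 5, 4, 3, 2, 5, 1, 4, 1, 5], [4], 21, false⟩) (lall (memL L) [3, 3, 4, 5, 4, 3, 2, 5, 1, 4, 1, 5]) = true := by decide +kernel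

theorem rot2_11 : T.rot 2 [5, 1, 4, 1, 5, 2, 3, 3, 4, 5, 4, 3] (sel (ones 1755) ip2 11) = true := by decide +kernel

theorem rot2_11r : band (Rule.ok (2 * 1) EX RL ⟨2 :: [5, 1, 4, 1, 5, 2, 3, 3, 4, 5, 4, 3], [0, 3, 0, 5, 2], 21, false⟩) (lall (memL L) [5, 1, 4, 1, 5, 2, 3, 3, 4, 5, 4, 3]) = true := by decide +kernel

theorem rot2_12 : T.rot 2 [3, 3, 3, 4, 5, 4, 4, 3, 3, 4, 5, 3, 4, 5] (sel (ones 1755) ip2 12) = true := by decide +kernel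

theorem rot2_12r : band (Rule.ok (2 * 1) EX RL ⟨2 :: [3, 3, 3, 4, 5, 4, 4, 3, 3, 4, 5, 3, 4, 5], [5, 2, 4], 11, true⟩) (lall (memL L) [3, 3, 3, 4, 5, 4, 4, 3, 3, 4, 5, 3, 4, 5]) = true := by decide +kernel

theorem rot2_13 : T.rot 2 [5, 5, 2, 2, 3, 2, 5, 5, 5, 4, 3, 2, 5, 3] (sel (ones 1755) ip2 13) = true := by decide +kernel

theorem rot2_13r : band (Rule.ok (2 * 1) EX RL ⟨2 :: [5, 5, 2, 2, 3, 2, 5, 5, 5, 4, 3, 2, 5, 3], [5], 11, false⟩) (lall (memL L) [5, 5, 2, 2, 3, 2, 5, 5, 5, 4, 3, 2, 5, 3]) = true := by decide +kernel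

theorem rot2_14 : T.rot 2 [2, 3, 2, 5, 5, 5, 4, 3, 2, 5, 3, 2, 5, 5] (sel (ones 1755) ip2 14) = true := by decide +kernel

theorem rot2_14r : band (Rule.ok (2 * 1) EX RL ⟨2 :: [2, 3, 2, 5, 5, 5, 4, 3, 2, 5, 3, 2, 5, 5], [5, 3, 4, 4], 11, false⟩) (lall (memL L) [2, 3, 2, 5, 5, 5, 4, 3, 2, 5, 3, 2, 5, 5]) = true := by decide +kernel

theorem rot2_15 : T.rot 2 [3, 2, 5, 5, 5, 4, 3, 2, 5, 3, 2, 5, 5, 2] (sel (ones 1755) ip2 15) = true := by decide +kernel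

theorem rot2_15r : band (Rule.ok (2 * 1) EX RL ⟨2 :: [3, 2, 5, 5, 5, 4, 3, 2, 5, 3, 2, 5, 5, 2], [5, 3, 4, 4, 3], 11, false⟩) (lall (memL L) [3, 2, 5, 5, 5, 4, 3, 2, 5, 3, 2, 5, 5, 2]) = true := by decide +kernel

theorem rot2_16 : T.rot 2 [5, 5, 5, 4, 3, 2, 5, 3, 2, 5, 5, 2, 2, 3] (sel (ones 1755) ip2 16) = true := by decide +kernel

theorem rot2_16r : band (Rule.ok (2 * 1) EX RL ⟨2 :: [5, 5, 5, 4, 3, 2, 5, 3, 2, 5, 5, 2, 2, 3], [5, 3, 4, 4, 3, 3, 5], 11, false⟩) (lall (memL L) [5, 5, 5, 4, 3, 2, 5, 3, 2, 5, 5, 2, 2, 3]) = true := by decide +kernel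

theorem rot2_17 : T.rot 2 [5, 3, 2, 5, 5, 2, 2, 3, 2, 5, 5, 5, 4, 3] (sel (ones 1755) ip2 17) = true := by decide +kernel

theorem rot2_17r : band (Rule.ok (2 * 1) EX RL ⟨2 :: [5, 3, 2, 5, 5, 2, 2, 3, 2, 5, 5, 5, 4, 3], [5, 2], 11, false⟩) (lall (memL L) [5, 3, 2, 5, 5, 2, 2, 3, 2, 5, 5, 5, 4, 3]) = true := by decide +kernel

theorem rot2_18 : T.rot 2 [5, 5, 3, 2, 5, 5, 3, 2, 5, 5, 3, 2, 5, 5, 3] (sel (ones 1755) ip2 18) = true := by decide +kernel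

theorem rot2_18r : band (Rule.ok (2 * 1) EX RL ⟨2 :: [5, 5, 3, 2, 5, 5, 3, 2, 5, 5, 3, 2, 5, 5, 3], [5], 10, false⟩) (lall (memL L) [5, 5, 3, 2, 5, 5, 3, 2, 5, 5, 3, 2, 5, 5, 3]) = true := by decide +kernel

theorem rot2_19 : T.rot 2 [2, 1, 3, 1, 5, 5, 4, 3, 3, 2, 5, 5, 1, 5, 1] (sel (ones 1755) ip2 19) = true := by decide +kernel

theorem rot2_19r : band (Rule.ok (2 * 1) EX RL ⟨2 :: [2, 1, 3, 1, 5, 5, 4, 3, 3, 2, 5, 5, 1, 5, 1], [0, 4, 0], 19, true⟩) (lall (memL L) [2, 1, 3, 1, 5, 5, 4, 3, 3, 2, 5, 5, 1, 5, 1]) = true := by decide +kernel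

theorem rot2_20 : T.rot 2 [1, 3, 1, 5, 5, 4, 3, 3, 2, 5, 5, 1, 5, 1, 2] (sel (ones 1755) ip2 20) = true := by decide +kernel

theorem rot2_20r : band (Rule.ok (2 * 1) EX RL ⟨2 :: [1, 3, 1, 5, 5, 4, 3, 3, 2, 5, 5, 1, 5, 1, 2], [0, 4, 0, 3], 19, true⟩) (lall (memL L) [1, 3, 1, 5, 5, 4, 3, 3, 2, 5, 5, 1, 5, 1, 2]) = true := by decide +kernel

theorem rot2_21 : T.rot 2 [5, 5, 1, 5, 1, 2, 2, 1, 3, 1, 5, 5, 4, 3, 3] (sel (ones 1755) ip2 21) = true := by decide +kernel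

theorem rot2_21r : band (Rule.ok (2 * 1) EX RL ⟨2 :: [5, 5, 1, 5, 1, 2, 2, 1, 3, 1, 5, 5, 4, 3, 3], [5, 5, 2], 19, true⟩) (lall (memL L) [5, 5, 1, 5, 1, 2, 2, 1, 3, 1, 5, 5, 4, 3, 3]) = true := by decide +kernel

theorem rot2_22 : T.rot 2 [3, 3, 1, 5, 1, 4, 4, 1, 3, 1, 3, 3, 4, 5, 5] (sel (ones 1755) ip2 22) = true := by decide +kernel

theorem rot2_22r : band (Rule.ok (2 * 1) EX RL ⟨2 :: [3, 3, 1, 5, 1, 4, 4, 1, 3, 1, 3, 3, 4, 5, 5], [5, 5, 2, 4, 4], 19, false⟩) (lall (memL L) [3, 3, 1, 5, 1, 4, 4, 1, 3, 1, 3, 3, 4, 5, 5]) = true := by decide +kernel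

theorem rot2_23 : T.rot 2 [5, 5, 1, 5, 5, 4, 5, 5, 4, 3, 3, 4, 3, 1, 3] (sel (ones 1755) ip2 23) = true := by decide +kernel

theorem rot2_23r : band (Rule.ok (2 * 1) EX RL ⟨2 :: [5, 5, 1, 5, 5, 4, 5, 5, 4, 3, 3, 4, 3, 1, 3], [0, 5], 22, true⟩) (lall (memL L) [5, 5, 1, 5, 5, 4, 5, 5, 4, 3, 3, 4, 3, 1, 3]) = true := by decide +kernel

theorem rot2_24 : T.rot 2 [5, 5, 2, 3, 3, 2, 3, 3, 1, 3, 3, 4, 5, 1, 5] (sel (ones 1755) ip2 24) = true := by decide +kernel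

theorem rot2_24r : band (Rule.ok (2 * 1) EX RL ⟨2 :: [5, 5, 2, 3, 3, 2, 3, 3, 1, 3, 3, 4, 5, 1, 5], [4], 22, false⟩) (lall (memL L) [5, 5, 2, 3, 3, 2, 3, 3, 1, 3, 3, 4, 5, 1, 5]) = true := by decide +kernel

theorem rot2_25 : T.rot 2 [3, 3, 2, 3, 3, 1, 3, 3, 4, 5, 1, 5, 2, 5, 5] (sel (ones 1755) ip2 25) = true := by decide +kernel

theorem rot2_25r : band (Rule.ok (2 * 1) EX RL ⟨2 :: [3, 3, 2, 3, 3, 1, 3, 3, 4, 5, 1, 5, 2, 5, 5], [4, 3, 4, 4], 22, false⟩) (lall (memL L) [3, 3, 2, 3, 3, 1, 3, 3, 4, 5, 1, 5, 2, 5, 5]) = true := by decide +kernel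

theorem rot2_26 : T.rot 2 [3, 3, 1, 3, 3, 4, 5, 1, 5, 2, 5, 5, 2, 3, 3] (sel (ones 1755) ip2 26) = true := by decide +kernel

theorem rot2_26r : band (Rule.ok (2 * 1) EX RL ⟨2 :: [3, 3, 1, 3, 3, 4, 5, 1, 5, 2, 5, 5, 2, 3, 3], [4, 3, 4, 4, 3, 5, 5], 22, false⟩) (lall (memL L) [3, 3, 1, 3, 3, 4, 5, 1, 5, 2, 5, 5, 2, 3, 3]) = true := by decide +kernel

theorem rot2_27 : T.rot 2 [2, 5, 2, 5, 3, 3, 4, 5, 4, 4, 3, 2, 5, 5, 4, 3] (sel (ones 1755) ip2 27) = true := by decide +kernel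

theorem rot2_27r : band (Rule.ok (2 * 1) EX RL ⟨2 :: [2, 5, 2, 5, 3, 3, 4, 5, 4, 4, 3, 2, 5, 5, 4, 3], [5], 12, true⟩) (lall (memL L) [2, 5, 2, 5, 3, 3, 4, 5, 4, 4, 3, 2, 5, 5, 4, 3]) = true := by decide +kernel

theorem rot2_28 : T.rot 2 [5, 2, 5, 3, 3, 4, 5, 4, 4, 3, 2, 5, 5, 4, 3, 2] (sel (ones 1755) ip2 28) = true := by decide +kernel

theorem rot2_28r : band (Rule.ok (2 * 1) EX RL ⟨2 :: [5, 2, 5, 3, 3, 4, 5, 4, 4, 3, 2, 5, 5, 4, 3, 2], [5, 3], 12, true⟩) (lall (memL L) [5, 2, 5, 3, 3, 4, 5, 4, 4, 3, 2, 5, 5, 4, 3, 2]) = true := by decide +kernel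

theorem rot2_29 : T.rot 2 [5, 3, 3, 4, 5, 4, 4, 3, 2, 5, 5, 4, 3, 2, 2, 5] (sel (ones 1755) ip2 29) = true := by decide +kernel

theorem rot2_29r : band (Rule.ok (2 * 1) EX RL ⟨2 :: [5, 3, 3, 4, 5, 4, 4, 3, 2, 5, 5, 4, 3, 2, 2, 5], [5, 3, 3, 4], 12, true⟩) (lall (memL L) [5, 3, 3, 4, 5, 4, 4, 3, 2, 5, 5, 4, 3, 2, 2, 5]) = true := by decide +kernel

theorem rot2_30 : T.rot 2 [5, 5, 4, 3, 2, 2, 5, 2, 5, 3, 3, 4, 5, 4, 4, 3] (sel (ones 1755) ip2 30) = true := by decide +kernel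

theorem rot2_30r : band (Rule.ok (2 * 1) EX RL ⟨2 :: [5, 5, 4, 3, 2, 2, 5, 2, 5, 3, 3, 4, 5, 4, 4, 3], [3, 5, 5, 2], 12, true⟩) (lall (memL L) [5, 5, 4, 3, 2, 2, 5, 2, 5, 3, 3, 4, 5, 4, 4, 3]) = true := by decide +kernel

theorem rot2_31 : T.rot 2 [3, 3, 4, 5, 2, 2, 3, 2, 5, 5, 3, 4, 3, 4, 4, 5] (sel (ones 1755) ip2 31) = true := by decide +kernel

theorem rot2_31r : band (Rule.ok (2 * 1) EX RL ⟨2 :: [3, 3, 4, 5, 2, 2, 3, 2, 5, 5, 3, 4, 3, 4, 4, 5], [], 12, false⟩) (lall (memL L) [3, 3, 4, 5, 2, 2, 3, 2, 5, 5, 3, 4, 3, 4, 4, 5]) = true := by decide +kernel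

theorem rot2_32 : T.rot 2 [2, 3, 2, 5, 5, 3, 4, 3, 4, 4, 5, 2, 3, 3, 4, 5] (sel (ones 1755) ip2 32) = true := by decide +kernel

theorem rot2_32r : band (Rule.ok (2 * 1) EX RL ⟨2 :: [2, 3, 2, 5, 5, 3, 4, 3, 4, 4, 5, 2, 3, 3, 4, 5], [3, 5, 5, 2, 4], 12, false⟩) (lall (memL L) [2, 3, 2, 5, 5, 3, 4, 3, 4, 4, 5, 2, 3, 3, 4, 5]) = true := by decide +kernel

theorem rot2_33 : T.rot 2 [3, 2, 5, 5, 3, 4, 3, 4, 4, 5, 2, 3, 3, 4, 5, 2] (sel (ones 1755) ip2 33) = true := by decide +kernel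

theorem rot2_33r : band (Rule.ok (2 * 1) EX RL ⟨2 :: [3, 2, 5, 5, 3, 4, 3, 4, 4, 5, 2, 3, 3, 4, 5, 2], [3, 5, 5, 2, 4, 3], 12, false⟩) (lall (memL L) [3, 2, 5, 5, 3, 4, 3, 4, 4, 5, 2, 3, 3, 4, 5, 2]) = true := by decide +kernel

theorem rot2_34 : T.rot 2 [5, 5, 3, 4, 3, 4, 4, 5, 2, 3, 3, 4, 5, 2, 2, 3] (sel (ones 1755) ip2 34) = true := by decide +kernel

theorem rot2_34r : band (Rule.ok (2 * 1) EX RL ⟨2 :: [5, 5, 3, 4, 3, 4, 4, 5, 2, 3, 3, 4, 5, 2, 2, 3], [5, 3, 3, 4, 3, 5, 2], 12, false⟩) (lall (memL L) [5, 5, 3, 4, 3, 4, 4, 5, 2, 3, 3, 4, 5, 2, 2, 3]) = true := by decide +kernel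

theorem rot2_35 : T.rot 2 [3, 4, 3, 4, 4, 5, 1, 3, 1, 5, 2, 5, 4, 5, 1, 5, 1] (sel (ones 1755) ip2 35) = true := by decide +kernel

theorem rot2_35r : band (Rule.ok (2 * 1) EX RL ⟨2 :: [3, 4, 3, 4, 4, 5, 1, 3, 1, 5, 2, 5, 4, 5, 1, 5, 1], [0, 4, 0], 17, true⟩) (lall (memL L) [3, 4, 3, 4, 4, 5, 1, 3, 1, 5, 2, 5, 4, 5, 1, 5, 1]) = true := by decide +kernel

theorem rot2_36 : T.rot 2 [5, 4, 5, 1, 5, 1, 2, 3, 4, 3, 4, 4, 5, 1, 3, 1, 5] (sel (ones 1755) ip2 36) = true := by decide +kernel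

theorem rot2_36r : band (Rule.ok (2 * 1) EX RL ⟨2 :: [5, 4, 5, 1, 5, 1, 2, 3, 4, 3, 4, 4, 5, 1, 3, 1, 5], [5, 3, 5, 2], 17, true⟩) (lall (memL L) [5, 4, 5, 1, 5, 1, 2, 3, 4, 3, 4, 4, 5, 1, 3, 1, 5]) = true := by decide +kernel

theorem rot2_37 : T.rot 2 [3, 4, 3, 1, 5, 1, 3, 2, 2, 5, 2, 5, 4, 1, 3, 1, 3] (sel (ones 1755) ip2 37) = true := by decide +kernel

theorem rot2_37r : band (Rule.ok (2 * 1) EX RL ⟨2 :: [3, 4, 3, 1, 5, 1, 3, 2, 2, 5, 2, 5, 4, 1, 3, 1, 3], [5], 17, false⟩) (lall (memL L) [3, 4, 3, 1, 5, 1, 3, 2, 2, 5, 2, 5, 4, 1, 3, 1, 3]) = true := by decide +kernel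

theorem rot2_38 : T.rot 2 [2, 5, 2, 5, 4, 1, 3, 1, 3, 2, 3, 4, 3, 1, 5, 1, 3] (sel (ones 1755) ip2 38) = true := by decide +kernel

theorem rot2_38r : band (Rule.ok (2 * 1) EX RL ⟨2 :: [2, 5, 2, 5, 4, 1, 3, 1, 3, 2, 3, 4, 3, 1, 5, 1, 3], [0, 4, 0, 3, 5, 2, 5, 2, 2], 17, false⟩) (lall (memL L) [2, 5, 2, 5, 4, 1, 3, 1, 3, 2, 3, 4, 3, 1, 5, 1, 3]) = true := by decide +kernel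

theorem rot2_39 : T.rot 2 [5, 2, 5, 4, 1, 3, 1, 3, 2, 3, 4, 3, 1, 5, 1, 3, 2] (sel (ones 1755) ip2 39) = true := by decide +kernel

theorem rot2_39r : band (Rule.ok (2 * 1) EX RL ⟨2 :: [5, 2, 5, 4, 1, 3, 1, 3, 2, 3, 4, 3, 1, 5, 1, 3, 2], [0, 4, 0, 3, 5, 2, 5, 2], 17, false⟩) (lall (memL L) [5, 2, 5, 4, 1, 3, 1, 3, 2, 3, 4, 3, 1, 5, 1, 3, 2]) = true := by decide +kernel

theorem rot2_40 : T.rot 2 [5, 4, 1, 3, 1, 3, 2, 3, 4, 3, 1, 5, 1, 3, 2, 2, 5] (sel (ones 1755) ip2 40) = true := by decide +kernel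

theorem rot2_40r : band (Rule.ok (2 * 1) EX RL ⟨2 :: [5, 4, 1, 3, 1, 3, 2, 3, 4, 3, 1, 5, 1, 3, 2, 2, 5], [0, 4, 0, 3, 5, 2], 17, false⟩) (lall (memL L) [5, 4, 1, 3, 1, 3, 2, 3, 4, 3, 1, 5, 1, 3, 2, 2, 5]) = true := by decide +kernel

theorem rot2_41 : T.rot 2 [1, 5, 1, 4, 4, 3, 3, 2, 5, 4, 4, 5, 5, 4, 1, 3, 1] (sel (ones 1755) ip2 41) = true := by decide +kernel

theorem rot2_41r : band (Rule.ok (2 * 1) EX RL ⟨2 :: [1, 5, 1, 4, 4, 3, 3, 2, 5, 4, 4, 5, 5, 4, 1, 3, 1], [0, 5, 0], 18, true⟩) (lall (memL L) [1, 5, 1, 4, 4, 3, 3, 2, 5, 4, 4, 5, 5, 4, 1, 3, 1]) = true := by decide +kernel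

theorem rot2_42 : T.rot 2 [5, 4, 4, 5, 5, 4, 1, 3, 1, 2, 1, 5, 1, 4, 4, 3, 3] (sel (ones 1755) ip2 42) = true := by decide +kernel

theorem rot2_42r : band (Rule.ok (2 * 1) EX RL ⟨2 :: [5, 4, 4, 5, 5, 4, 1, 3, 1, 2, 1, 5, 1, 4, 4, 3, 3], [3, 5, 5, 3, 3, 5, 2], 18, true⟩) (lall (memL L) [5, 4, 4, 5, 5, 4, 1, 3, 1, 2, 1, 5, 1, 4, 4, 3, 3]) = true := by decide +kernel

theorem rot2_43 : T.rot 2 [3, 3, 2, 2, 3, 4, 5, 5, 2, 2, 1, 3, 1, 4, 1, 5, 1] (sel (ones 1755) ip2 43) = true := by decide +kernel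

theorem rot2_43r : band (Rule.ok (2 * 1) EX RL ⟨2 :: [3, 3, 2, 2, 3, 4, 5, 5, 2, 2, 1, 3, 1, 4, 1, 5, 1], [], 18, false⟩) (lall (memL L) [3, 3, 2, 2, 3, 4, 5, 5, 2, 2, 1, 3, 1, 4, 1, 5, 1]) = true := by decide +kernel

theorem rot2_44 : T.rot 2 [2, 3, 4, 5, 5, 2, 2, 1, 3, 1, 4, 1, 5, 1, 2, 3, 3] (sel (ones 1755) ip2 44) = true := by decide +kernel

theorem rot2_44r : band (Rule.ok (2 * 1) EX RL ⟨2 :: [2, 3, 4, 5, 5, 2, 2, 1, 3, 1, 4, 1, 5, 1, 2, 3, 3], [3, 5, 5], 18, false⟩) (lall (memL L) [2, 3, 4, 5, 5, 2, 2, 1, 3, 1, 4, 1, 5, 1, 2, 3, 3]) = true := by decide +kernel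

theorem rot2_45 : T.rot 2 [3, 4, 5, 5, 2, 2, 1, 3, 1, 4, 1, 5, 1, 2, 3, 3, 2] (sel (ones 1755) ip2 45) = true := by decide +kernel

theorem rot2_45r : band (Rule.ok (2 * 1) EX RL ⟨2 :: [3, 4, 5, 5, 2, 2, 1, 3, 1, 4, 1, 5, 1, 2, 3, 3, 2], [3, 5, 5, 3], 18, false⟩) (lall (memL L) [3, 4, 5, 5, 2, 2, 1, 3, 1, 4, 1, 5, 1, 2, 3, 3, 2]) = true := by decide +kernel

theorem rot2_46 : T.rot 2 [2, 1, 3, 1, 4, 1, 5, 1, 2, 3, 3, 2, 2, 3, 4, 5, 5] (sel (ones 1755) ip2 46) = true := by decide +kernel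

theorem rot2_46r : band (Rule.ok (2 * 1) EX RL ⟨2 :: [2, 1, 3, 1, 4, 1, 5, 1, 2, 3, 3, 2, 2, 3, 4, 5, 5], [0, 5, 0, 3, 0, 4, 0, 2, 2], 18, false⟩) (lall (memL L) [2, 1, 3, 1, 4, 1, 5, 1, 2, 3, 3, 2, 2, 3, 4, 5, 5]) = true := by decide +kernel

theorem rot2_47 : T.rot 2 [1, 3, 1, 4, 1, 5, 1, 2, 3, 3, 2, 2, 3, 4, 5, 5, 2] (sel (ones 1755) ip2 47) = true := by decide +kernel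

theorem rot2_47r : band (Rule.ok (2 * 1) EX RL ⟨2 :: [1, 3, 1, 4, 1, 5, 1, 2, 3, 3, 2, 2, 3, 4, 5, 5, 2], [0, 5, 0, 3, 0, 4, 0, 2], 18, false⟩) (lall (memL L) [1, 3, 1, 4, 1, 5, 1, 2, 3, 3, 2, 2, 3, 4, 5, 5, 2]) = true := by decide +kernel

theorem rot2_48 : T.rot 2 [3, 4, 3, 1, 3, 1, 5, 1, 5, 2, 5, 4, 5, 1, 3, 1, 5, 1, 3] (sel (ones 1755) ip2 48) = true := by decide +kernel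

theorem rot2_48r : band (Rule.ok (2 * 1) EX RL ⟨2 :: [3, 4, 3, 1, 3, 1, 5, 1, 5, 2, 5, 4, 5, 1, 3, 1, 5, 1, 3], [5], 20, false⟩) (lall (memL L) [3, 4, 3, 1, 3, 1, 5, 1, 5, 2, 5, 4, 5, 1, 3, 1, 5, 1, 3]) = true := by decide +kernel

theorem rot2_49 : T.rot 2 [5, 4, 5, 1, 3, 1, 5, 1, 3, 2, 3, 4, 3, 1, 3, 1, 5, 1, 5] (sel (ones 1755) ip2 49) = true := by decide +kernel

theorem rot2_49r : band (Rule.ok (2 * 1) EX RL ⟨2 :: [5, 4, 5, 1, 3, 1, 5, 1, 3, 2, 3, 4, 3, 1, 3, 1, 5, 1, 5], [5, 3, 5, 2], 20, true⟩) (lall (memL L) [5, 4, 5, 1, 3, 1, 5, 1, 3, 2, 3, 4, 3, 1, 3, 1, 5, 1, 5]) = true := by decide +kernel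

theorem rot2_50 : T.rot 2 [3, 4, 1, 5, 1, 5, 1, 3, 1, 5, 1, 3, 4, 4, 3, 3, 1, 3, 1, 3, 1, 5, 1] (sel (ones 1755) ip2 50) = true := by decide +kernel

theorem rot2_50r : band (Rule.ok (2 * 1) EX RL ⟨2 :: [3, 4, 1, 5, 1, 5, 1, 3, 1, 5, 1, 3, 4, 4, 3, 3, 1, 3, 1, 3, 1, 5, 1], [0, 5, 0, 5, 0, 4, 0], 24, true⟩) (lall (memL L) [3, 4, 1, 5, 1, 5, 1, 3, 1, 5, 1, 3, 4, 4, 3, 3, 1, 3, 1, 3, 1, 5, 1]) = true := by decide +kernel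

theorem rot2_51 : T.rot 2 [2, 5, 1, 3, 1, 5, 1, 3, 1, 3, 1, 2, 5, 4, 1, 3, 1, 5, 1, 5, 1, 5, 5] (sel (ones 1755) ip2 51) = true := by decide +kernel

theorem rot2_51r : band (Rule.ok (2 * 1) EX RL ⟨2 :: [2, 5, 1, 3, 1, 5, 1, 3, 1, 3, 1, 2, 5, 4, 1, 3, 1, 5, 1, 5, 1, 5, 5], [4, 4], 24, false⟩) (lall (memL L) [2, 5, 1, 3, 1, 5, 1, 3, 1, 3, 1, 2, 5, 4, 1, 3, 1, 5, 1, 5, 1, 5, 5]) = true := by decide +kernel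

theorem rot2_52 : T.rot 2 [5, 1, 3, 1, 5, 1, 3, 1, 3, 1, 2, 5, 4, 1, 3, 1, 5, 1, 5, 1, 5, 5, 2] (sel (ones 1755) ip2 52) = true := by decide +kernel

theorem rot2_52r : band (Rule.ok (2 * 1) EX RL ⟨2 :: [5, 1, 3, 1, 5, 1, 3, 1, 3, 1, 2, 5, 4, 1, 3, 1, 5, 1, 5, 1, 5, 5, 2], [4, 4, 3], 24, false⟩) (lall (memL L) [5, 1, 3, 1, 5, 1, 3, 1, 3, 1, 2, 5, 4, 1, 3, 1, 5, 1, 5, 1, 5, 5, 2]) = true := by decide +kernel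

theorem rot2_53 : T.rot 2 [5, 4, 1, 3, 1, 5, 1, 5, 1, 5, 5, 2, 2, 5, 1, 3, 1, 5, 1, 3, 1, 3, 1] (sel (ones 1755) ip2 53) = true := by decide +kernel

theorem rot2_53r : band (Rule.ok (2 * 1) EX RL ⟨2 :: [5, 4, 1, 3, 1, 5, 1, 5, 1, 5, 5, 2, 2, 5, 1, 3, 1, 5, 1, 3, 1, 3, 1], [0, 5, 0, 5, 0, 4, 0, 3, 5, 2], 24, false⟩) (lall (memL L) [5, 4, 1, 3, 1, 5, 1, 5, 1, 5, 5, 2, 2, 5, 1, 3, 1, 5, 1, 3, 1, 3, 1]) = true := by decide +kernel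

theorem rot2_54 : T.rot 2 [5, 5, 4, 4, 2, 3, 2, 5, 5, 4, 4, 2, 3, 2, 5, 5, 4, 4, 2, 3, 2, 5, 5, 4, 4, 2, 3] (sel (ones 1755) ip2 54) = true := by decide +kernel

theorem rot2_54r : band (Rule.ok (2 * 1) EX RL ⟨2 :: [5, 5, 4, 4, 2, 3, 2, 5, 5, 4, 4, 2, 3, 2, 5, 5, 4, 4, 2, 3, 2, 5, 5, 4, 4, 2, 3], [3, 5], 0, true⟩) (lall (memL L) [5, 5, 4, 4, 2, 3, 2, 5, 5, 4, 4, 2, 3, 2, 5, 5, 4, 4, 2, 3, 2, 5, 5, 4, 4, 2, 3]) = true := by decide +kernel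

theorem rot2_55 : T.rot 2 [3, 3, 4, 5, 4, 2, 2, 3, 3, 4, 5, 4, 2, 2, 3, 3, 4, 5, 4, 2, 2, 3, 3, 4, 5, 4, 2] (sel (ones 1755) ip2 55) = true := by decide +kernel

theorem rot2_55r : band (Rule.ok (2 * 1) EX RL ⟨2 :: [3, 3, 4, 5, 4, 2, 2, 3, 3, 4, 5, 4, 2, 2, 3, 3, 4, 5, 4, 2, 2, 3, 3, 4, 5, 4, 2], [3], 0, false⟩) (lall (memL L) [3, 3, 4, 5, 4, 2, 2, 3, 3, 4, 5, 4, 2, 2, 3, 3, 4, 5, 4, 2, 2, 3, 3, 4, 5, 4, 2]) = true := by decide +kernel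

theorem rot2_56 : T.rot 2 [3, 2, 5, 5, 4, 3, 3, 4, 5, 2, 3, 2, 5, 5, 4, 3, 3, 4, 5, 2, 3, 2, 5, 5, 4, 3, 3, 4, 5, 2, 3, 2, 5, 5, 4, 3, 3, 4, 5] (sel (ones 1755) ip2 56) = true := by decide +kernel

theorem rot2_56r : band (Rule.ok (2 * 1) EX RL ⟨2 :: [3, 2, 5, 5, 4, 3, 3, 4, 5, 2, 3, 2, 5, 5, 4, 3, 3, 4, 5, 2, 3, 2, 5, 5, 4, 3, 3, 4, 5, 2, 3, 2, 5, 5, 4, 3, 3, 4, 5], [5, 5, 2, 4], 4, true⟩) (lall (memL L) [3, 2, 5, 5, 4, 3, 3, 4, 5, 2, 3, 2, 5, 5, 4, 3, 3, 4, 5, 2, 3, 2, 5, 5, 4, 3, 3, 4, 5, 2, 3, 2, 5, 5, 4, 3, 3, 4, 5]) = true := by decide +kernel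

theorem rot2_57 : T.rot 2 [3, 3, 4, 5, 4, 3, 2, 5, 5, 2, 3, 3, 4, 5, 4, 3, 2, 5, 5, 2, 3, 3, 4, 5, 4, 3, 2, 5, 5, 2, 3, 3, 4, 5, 4, 3, 2, 5, 5] (sel (ones 1755) ip2 57) = true := by decide +kernel

theorem rot2_57r : band (Rule.ok (2 * 1) EX RL ⟨2 :: [3, 3, 4, 5, 4, 3, 2, 5, 5, 2, 3, 3, 4, 5, 4, 3, 2, 5, 5, 2, 3, 3, 4, 5, 4, 3, 2, 5, 5, 2, 3, 3, 4, 5, 4, 3, 2, 5, 5], [], 4, false⟩) (lall (memL L) [3, 3, 4, 5, 4, 3, 2, 5, 5, 2, 3, 3, 4, 5, 4, 3, 2, 5, 5, 2, 3, 3, 4, 5, 4, 3, 2, 5, 5, 2, 3, 3, 4, 5, 4, 3, 2, 5, 5]) = true := by decide +kernel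

theorem rot2_58 : T.rot 2 [5, 5, 2, 3, 3, 4, 5, 4, 3, 2, 5, 5, 2, 3, 3, 4, 5, 4, 3, 2, 5, 5, 2, 3, 3, 4, 5, 4, 3, 2, 5, 5, 2, 3, 3, 4, 5, 4, 3] (sel (ones 1755) ip2 58) = true := by decide +kernel

theorem rot2_58r : band (Rule.ok (2 * 1) EX RL ⟨2 :: [5, 5, 2, 3, 3, 4, 5, 4, 3, 2, 5, 5, 2, 3, 3, 4, 5, 4, 3, 2, 5, 5, 2, 3, 3, 4, 5, 4, 3, 2, 5, 5, 2, 3, 3, 4, 5, 4, 3], [5, 5, 2], 4, false⟩) (lall (memL L) [5, 5, 2, 3, 3, 4, 5, 4, 3, 2, 5, 5, 2, 3, 3, 4, 5, 4, 3, 2, 5, 5, 2, 3, 3, 4, 5, 4, 3, 2, 5, 5, 2, 3, 3, 4, 5, 4, 3]) = true := by decide +kernel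

theorem rot2_59 : T.rot 2 [3, 2, 5, 5, 4, 3, 3, 4, 5, 4, 3, 2, 5, 5, 3, 2, 5, 5, 3, 3, 4, 5, 2, 3, 2, 5, 5, 4, 4, 3, 3, 4, 5, 4, 4, 3, 3, 4, 5] (sel (ones 1755) ip2 59) = true := by decide +kernel

theorem rot2_59r : band (Rule.ok (2 * 1) EX RL ⟨2 :: [3, 2, 5, 5, 4, 3, 3, 4, 5, 4, 3, 2, 5, 5, 3, 2, 5, 5, 3, 3, 4, 5, 2, 3, 2, 5, 5, 4, 4, 3, 3, 4, 5, 4, 4, 3, 3, 4, 5], [2, 5, 5, 2, 4, 2, 2, 5, 5, 2, 4], 8, true⟩) (lall (memL L) [3, 2, 5, 5, 4, 3, 3, 4, 5, 4, 3, 2, 5, 5, 3, 2, 5, 5, 3, 3, 4, 5, 2, 3, 2, 5, 5, 4, 4, 3, 3, 4, 5, 4, 4, 3, 3, 4, 5]) = true := by decide +kernel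

theorem rot2_60 : T.rot 2 [5, 5, 4, 4, 3, 3, 4, 5, 4, 4, 3, 3, 4, 5, 2, 3, 2, 5, 5, 4, 3, 3, 4, 5, 4, 3, 2, 5, 5, 3, 2, 5, 5, 3, 3, 4, 5, 2, 3] (sel (ones 1755) ip2 60) = true := by decide +kernel

theorem rot2_60r : band (Rule.ok (2 * 1) EX RL ⟨2 :: [5, 5, 4, 4, 3, 3, 4, 5, 4, 4, 3, 3, 4, 5, 2, 3, 2, 5, 5, 4, 3, 3, 4, 5, 4, 3, 2, 5, 5, 3, 2, 5, 5, 3, 3, 4, 5, 2, 3], [3, 5, 5, 2], 8, true⟩) (lall (memL L) [5, 5, 4, 4, 3, 3, 4, 5, 4, 4, 3, 3, 4, 5, 2, 3, 2, 5, 5, 4, 3, 3, 4, 5, 4, 3, 2, 5, 5, 3, 2, 5, 5, 3, 3, 4, 5, 2, 3]) = true := by decide +kernel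

theorem rot2_61 : T.rot 2 [3, 3, 4, 5, 4, 3, 2, 5, 5, 3, 3, 4, 5, 3, 3, 4, 5, 2, 3, 2, 5, 5, 2, 3, 3, 4, 5, 4, 3, 2, 5, 5, 2, 2, 3, 2, 5, 5, 2] (sel (ones 1755) ip2 61) = true := by decide +kernel

theorem rot2_61r : band (Rule.ok (2 * 1) EX RL ⟨2 :: [3, 3, 4, 5, 4, 3, 2, 5, 5, 3, 3, 4, 5, 3, 3, 4, 5, 2, 3, 2, 5, 5, 2, 3, 3, 4, 5, 4, 3, 2, 5, 5, 2, 2, 3, 2, 5, 5, 2], [], 8, false⟩) (lall (memL L) [3, 3, 4, 5, 4, 3, 2, 5, 5, 3, 3, 4, 5, 3, 3, 4, 5, 2, 3, 2, 5, 5, 2, 3, 3, 4, 5, 4, 3, 2, 5, 5, 2, 2, 3, 2, 5, 5, 2]) = true := by decide +kernel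

theorem rot2_62 : T.rot 2 [3, 2, 5, 5, 2, 3, 3, 4, 5, 4, 3, 2, 5, 5, 2, 2, 3, 2, 5, 5, 2, 2, 3, 3, 4, 5, 4, 3, 2, 5, 5, 3, 3, 4, 5, 3, 3, 4, 5] (sel (ones 1755) ip2 62) = true := by decide +kernel

theorem rot2_62r : band (Rule.ok (2 * 1) EX RL ⟨2 :: [3, 2, 5, 5, 2, 3, 3, 4, 5, 4, 3, 2, 5, 5, 2, 2, 3, 2, 5, 5, 2, 2, 3, 3, 4, 5, 4, 3, 2, 5, 5, 3, 3, 4, 5, 3, 3, 4, 5], [3, 5, 5, 2, 4, 2, 5, 5, 2, 4], 8, false⟩) (lall (memL L) [3, 2, 5, 5, 2, 3, 3, 4, 5, 4, 3, 2, 5, 5, 2, 2, 3, 2, 5, 5, 2, 2, 3, 3, 4, 5, 4, 3, 2, 5, 5, 3, 3, 4, 5, 3, 3, 4, 5]) = true := by decide +kernel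

theorem rot2_63 : T.rot 2 [5, 5, 2, 3, 3, 4, 5, 4, 3, 2, 5, 5, 2, 2, 3, 2, 5, 5, 2, 2, 3, 3, 4, 5, 4, 3, 2, 5, 5, 3, 3, 4, 5, 3, 3, 4, 5, 2, 3] (sel (ones 1755) ip2 63) = true := by decide +kernel

theorem rot2_63r : band (Rule.ok (2 * 1) EX RL ⟨2 :: [5, 5, 2, 3, 3, 4, 5, 4, 3, 2, 5, 5, 2, 2, 3, 2, 5, 5, 2, 2, 3, 3, 4, 5, 4, 3, 2, 5, 5, 3, 3, 4, 5, 3, 3, 4, 5, 2, 3], [3, 5, 5, 2, 4, 2, 5, 5, 2, 4, 3, 5], 8, false⟩) (lall (memL L) [5, 5, 2, 3, 3, 4, 5, 4, 3, 2, 5, 5, 2, 2, 3, 2, 5, 5, 2, 2, 3, 3, 4, 5, 4, 3, 2, 5, 5, 3, 3, 4, 5, 3, 3, 4, 5, 2, 3]) = true := by decide +kernel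

theorem rot2_64 : T.rot 2 [5, 5, 2, 2, 3, 2, 5, 5, 2, 2, 3, 3, 4, 5, 4, 3, 2, 5, 5, 3, 3, 4, 5, 3, 3, 4, 5, 2, 3, 2, 5, 5, 2, 3, 3, 4, 5, 4, 3] (sel (ones 1755) ip2 64) = true := by decide +kernel

theorem rot2_64r : band (Rule.ok (2 * 1) EX RL ⟨2 :: [5, 5, 2, 2, 3, 2, 5, 5, 2, 2, 3, 3, 4, 5, 4, 3, 2, 5, 5, 3, 3, 4, 5, 3, 3, 4, 5, 2, 3, 2, 5, 5, 2, 3, 3, 4, 5, 4, 3], [2, 5, 5, 2, 4, 2, 2, 5, 5, 2], 8, false⟩) (lall (memL L) [5, 5, 2, 2, 3, 2, 5, 5, 2, 2, 3, 3, 4, 5, 4, 3, 2, 5, 5, 3, 3, 4, 5, 3, 3, 4, 5, 2, 3, 2, 5, 5, 2, 3, 3, 4, 5, 4, 3]) = true := by decide +kernel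

theorem rot2_65 : T.rot 2 [2, 3, 2, 5, 5, 2, 2, 3, 3, 4, 5, 4, 3, 2, 5, 5, 3, 3, 4, 5, 3, 3, 4, 5, 2, 3, 2, 5, 5, 2, 3, 3, 4, 5, 4, 3, 2, 5, 5] (sel (ones 1755) ip2 65) = true := by decide +kernel

theorem rot2_65r : band (Rule.ok (2 * 1) EX RL ⟨2 :: [2, 3, 2, 5, 5, 2, 2, 3, 3, 4, 5, 4, 3, 2, 5, 5, 3, 3, 4, 5, 3, 3, 4, 5, 2, 3, 2, 5, 5, 2, 3, 3, 4, 5, 4, 3, 2, 5, 5], [2, 5, 5, 2, 4, 2, 2], 8, false⟩) (lall (memL L) [2, 3, 2, 5, 5, 2, 2, 3, 3, 4, 5, 4, 3, 2, 5, 5, 3, 3, 4, 5, 3, 3, 4, 5, 2, 3, 2, 5, 5, 2, 3, 3, 4, 5, 4, 3, 2, 5, 5]) = true := by decide +kernel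

theorem rot2_66 : T.rot 2 [3, 2, 5, 5, 2, 2, 3, 3, 4, 5, 4, 3, 2, 5, 5, 3, 3, 4, 5, 3, 3, 4, 5, 2, 3, 2, 5, 5, 2, 3, 3, 4, 5, 4, 3, 2, 5, 5, 2] (sel (ones 1755) ip2 66) = true := by decide +kernel

theorem rot2_66r : band (Rule.ok (2 * 1) EX RL ⟨2 :: [3, 2, 5, 5, 2, 2, 3, 3, 4, 5, 4, 3, 2, 5, 5, 3, 3, 4, 5, 3, 3, 4, 5, 2, 3, 2, 5, 5, 2, 3, 3, 4, 5, 4, 3, 2, 5, 5, 2], [2, 5, 5, 2, 4, 2], 8, false⟩) (lall (memL L) [3, 2, 5, 5, 2, 2, 3, 3, 4, 5, 4, 3, 2, 5, 5, 3, 3, 4, 5, 3, 3, 4, 5, 2, 3, 2, 5, 5, 2, 3, 3, 4, 5, 4, 3, 2, 5, 5, 2]) = true := by decide +kernel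

theorem rot2_67 : T.rot 2 [5, 5, 2, 2, 3, 3, 4, 5, 4, 3, 2, 5, 5, 3, 3, 4, 5, 3, 3, 4, 5, 2, 3, 2, 5, 5, 2, 3, 3, 4, 5, 4, 3, 2, 5, 5, 2, 2, 3] (sel (ones 1755) ip2 67) = true := by decide +kernel

theorem rot2_67r : band (Rule.ok (2 * 1) EX RL ⟨2 :: [5, 5, 2, 2, 3, 3, 4, 5, 4, 3, 2, 5, 5, 3, 3, 4, 5, 3, 3, 4, 5, 2, 3, 2, 5, 5, 2, 3, 3, 4, 5, 4, 3, 2, 5, 5, 2, 2, 3], [2, 5, 5, 2], 8, false⟩) (lall (memL L) [5, 5, 2, 2, 3, 3, 4, 5, 4, 3, 2, 5, 5, 3, 3, 4, 5, 3, 3, 4, 5, 2, 3, 2, 5, 5, 2, 3, 3, 4, 5, 4, 3, 2, 5, 5, 2, 2, 3]) = true := by decide +kernel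

theorem rot2_68 : T.rot 2 [2, 3, 3, 4, 5, 4, 3, 2, 5, 5, 3, 3, 4, 5, 3, 3, 4, 5, 2, 3, 2, 5, 5, 2, 3, 3, 4, 5, 4, 3, 2, 5, 5, 2, 2, 3, 2, 5, 5] (sel (ones 1755) ip2 68) = true := by decide +kernel

theorem rot2_68r : band (Rule.ok (2 * 1) EX RL ⟨2 :: [2, 3, 3, 4, 5, 4, 3, 2, 5, 5, 3, 3, 4, 5, 3, 3, 4, 5, 2, 3, 2, 5, 5, 2, 3, 3, 4, 5, 4, 3, 2, 5, 5, 2, 2, 3, 2, 5, 5], [2], 8, false⟩) (lall (memL L) [2, 3, 3, 4, 5, 4, 3, 2, 5, 5, 3, 3, 4, 5, 3, 3, 4, 5, 2, 3, 2, 5, 5, 2, 3, 3, 4, 5, 4, 3, 2, 5, 5, 2, 2, 3, 2, 5, 5]) = true := by decide +kernel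

theorem rot2_69 : T.rot 2 [5, 5, 3, 2, 5, 5, 3, 3, 4, 5, 4, 3, 2, 5, 5, 3, 2, 5, 5, 3, 3, 4, 5, 4, 3, 2, 5, 5, 3, 2, 5, 5, 3, 3, 4, 5, 4, 3, 2, 5, 5, 3, 2, 5, 5, 3, 3, 4, 5, 4, 3] (sel (ones 1755) ip2 69) = true := by decide +kernel

theorem rot2_69r : band (Rule.ok (2 * 1) EX RL ⟨2 :: [5, 5, 3, 2, 5, 5, 3, 3, 4, 5, 4, 3, 2, 5, 5, 3, 2, 5, 5, 3, 3, 4, 5, 4, 3, 2, 5, 5, 3, 2, 5, 5, 3, 3, 4, 5, 4, 3, 2, 5, 5, 3, 2, 5, 5, 3, 3, 4, 5, 4, 3], [3, 5], 0, true⟩) (lall (memL L) [5, 5, 3, 2, 5, 5, 3, 3, 4, 5, 4, 3, 2, 5, 5, 3, 2, 5, 5, 3, 3, 4, 5, 4, 3, 2, 5, 5, 3, 2, 5, 5, 3, 3, 4, 5, 4, 3, 2, 5, 5, 3, 2, 5, 5, 3, 3, 4, 5, 4, 3]) = true := by decide +kernel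

theorem rot2_70 : T.rot 2 [3, 2, 5, 5, 3, 3, 4, 5, 3, 3, 4, 5, 2, 3, 2, 5, 5, 3, 3, 4, 5, 3, 3, 4, 5, 2, 3, 2, 5, 5, 3, 3, 4, 5, 3, 3, 4, 5, 2, 3, 2, 5, 5, 3, 3, 4, 5, 3, 3, 4, 5] (sel (ones 1755) ip2 70) = true := by decide +kernel

theorem rot2_70r : band (Rule.ok (2 * 1) EX RL ⟨2 :: [3, 2, 5, 5, 3, 3, 4, 5, 3, 3, 4, 5, 2, 3, 2, 5, 5, 3, 3, 4, 5, 3, 3, 4, 5, 2, 3, 2, 5, 5, 3, 3, 4, 5, 3, 3, 4, 5, 2, 3, 2, 5, 5, 3, 3, 4, 5, 3, 3, 4, 5], [3], 0, false⟩) (lall (memL L) [3, 2, 5, 5, 3, 3, 4, 5, 3, 3, 4, 5, 2, 3, 2, 5, 5, 3, 3, 4, 5, 3, 3, 4, 5, 2, 3, 2, 5, 5, 3, 3, 4, 5, 3, 3, 4, 5, 2, 3, 2, 5, 5, 3, 3, 4, 5, 3, 3, 4, 5]) = true := by decide +kernel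

theorem rot2_71 : T.rot 2 [3, 2, 5, 5, 4, 4, 2, 3, 2, 5, 5, 4, 4, 3, 3, 4, 5, 2, 3, 2, 5, 5, 4, 3, 3, 4, 5, 4, 3, 2, 5, 5, 3, 2, 5, 5, 3, 3, 4, 5, 2, 3, 2, 5, 5, 4, 3, 3, 4, 5, 4, 3, 2, 5, 5, 3, 2, 5, 5] (sel (ones 1755) ip2 71) = true := by decide +kernel

theorem rot2_71r : band (Rule.ok (2 * 1) EX RL ⟨2 :: [3, 2, 5, 5, 4, 4, 2, 3, 2, 5, 5, 4, 4, 3, 3, 4, 5, 2, 3, 2, 5, 5, 4, 3, 3, 4, 5, 4, 3, 2, 5, 5, 3, 2, 5, 5, 3, 3, 4, 5, 2, 3, 2, 5, 5, 4, 3, 3, 4, 5, 4, 3, 2, 5, 5, 3, 2, 5, 5], [], 1, true⟩) (lall (memL L) [3, 2, 5, 5, 4, 4, 2, 3, 2, 5, 5, 4, 4, 3, 3, 4, 5, 2, 3, 2, 5, 5, 4, 3, 3, 4, 5, 4, 3, 2, 5, 5, 3, 2, 5, 5, 3, 3, 4, 5, 2, 3, 2, 5, 5, 4, 3, 3, 4, 5, 4, 3, 2, 5, 5, 3, 2, 5, 5]) = true := by decide +kernel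

theorem rot2_72 : T.rot 2 [3, 2, 5, 5, 4, 3, 3, 4, 5, 4, 3, 2, 5, 5, 3, 2, 5, 5, 3, 3, 4, 5, 2, 3, 2, 5, 5, 4, 3, 3, 4, 5, 4, 3, 2, 5, 5, 3, 2, 5, 5, 2, 3, 2, 5, 5, 4, 4, 2, 3, 2, 5, 5, 4, 4, 3, 3, 4, 5] (sel (ones 1755) ip2 72) = true := by decide +kernel

theorem rot2_72r : band (Rule.ok (2 * 1) EX RL ⟨2 :: [3, 2, 5, 5, 4, 3, 3, 4, 5, 4, 3, 2, 5, 5, 3, 2, 5, 5, 3, 3, 4, 5, 2, 3, 2, 5, 5, 4, 3, 3, 4, 5, 4, 3, 2, 5, 5, 3, 2, 5, 5, 2, 3, 2, 5, 5, 4, 4, 2, 3, 2, 5, 5, 4, 4, 3, 3, 4, 5], [3, 5, 3, 4, 4, 2, 5, 3, 4, 4, 2, 2, 5, 5, 2, 4], 1, true⟩) (lall (memL L) [3, 2, 5, 5, 4, 3, 3, 4, 5, 4, 3, 2, 5, 5, 3, 2, 5, 5, 3, 3, 4, 5, 2, 3, 2, 5, 5, 4, 3, 3, 4, 5, 4, 3, 2, 5, 5, 3, 2, 5, 5, 2, 3, 2, 5, 5, 4, 4, 2, 3, 2, 5, 5, 4, 4, 3, 3, 4, 5]) = true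 := by decide +kernel

theorem rot2_73 : T.rot 2 [5, 5, 2, 3, 3, 4, 5, 4, 3, 2, 5, 5, 3, 3, 4, 5, 3, 3, 4, 5, 2, 3, 2, 5, 5, 2, 3, 3, 4, 5, 4, 3, 2, 5, 5, 2, 2, 3, 3, 4, 5, 4, 2, 2, 3, 3, 4, 5, 4, 3, 3, 4, 5, 3, 3, 4, 5, 2, 3] (sel (ones 1755) ip2 73) = true := by decide +kernel

theorem rot2_73r : band (Rule.ok (2 * 1) EX RL ⟨2 :: [5, 5, 2, 3, 3, 4, 5, 4, 3, 2, 5, 5, 3, 3, 4, 5, 3, 3, 4, 5, 2, 3, 2, 5, 5, 2, 3, 3, 4, 5, 4, 3, 2, 5, 5, 2, 2, 3, 3, 4, 5, 4, 2, 2, 3, 3, 4, 5, 4, 3, 3, 4, 5, 3, 3, 4, 5, 2, 3], [5, 5, 2, 5, 2, 4, 3, 5], 1, false⟩) (lall (memL L) [5, 5, 2, 3, 3, 4, 5, 4, 3, 2, 5, 5, 3, 3, 4, 5, 3, 3, 4, 5, 2, 3, 2, 5, 5, 2, 3, 3, 4, 5, 4, 3, 2, 5, 5, 2, 2, 3, 3, 4, 5, 4, 2, 2, 3, 3, 4, 5, 4, 3, 3, 4, 5, 3, 3, 4, 5, 2, 3]) = true :=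 by decide +kernel

theorem rot2_74 : T.rot 2 [3, 2, 5, 5, 2, 3, 3, 4, 5, 4, 3, 2, 5, 5, 2, 2, 3, 3, 4, 5, 4, 2, 2, 3, 3, 4, 5, 4, 3, 3, 4, 5, 3, 3, 4, 5, 2, 3, 2, 5, 5, 2, 3, 3, 4, 5, 4, 3, 2, 5, 5, 3, 3, 4, 5, 3, 3, 4, 5] (sel (ones 1755) ip2 74) = true := by decide +kernel

theorem rot2_74r : band (Rule.ok (2 * 1) EX RL ⟨2 :: [3, 2, 5, 5, 2, 3, 3, 4, 5, 4, 3, 2, 5, 5, 2, 2, 3, 3, 4, 5, 4, 2, 2, 3, 3, 4, 5, 4, 3, 3, 4, 5, 3, 3, 4, 5, 2, 3, 2, 5, 5, 2, 3, 3, 4, 5, 4, 3, 2, 5, 5, 3, 3, 4, 5, 3, 3, 4, 5], [5, 5, 2, 5, 2, 4, 3, 5, 3, 4, 4, 3, 5, 5, 2, 4, 2, 5, 5, 2, 4], 1, false⟩) (lall (memL L) [3, 2, 5, 5, 2, 3, 3, 4, 5, 4, 3, 2, 5, 5, 2, 2, 3, 3, 4, 5, 4, 2, 2, 3, 3, 4, 5, 4, 3, 3, 4, 5, 3, 3, 4, 5, 2, 3, 2, 5, 5, 2, 3, 3, 4, 5, 4, 3, 2, 5,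 5, 3, 3, 4, 5, 3, 3, 4, 5]) = true := by decide +kernel

theorem rot2_75 : T.rot 2 [3, 2, 5, 5, 4, 4, 2, 3, 2, 5, 5, 4, 4, 3, 3, 4, 5, 2, 3, 2, 5, 5, 4, 3, 3, 4, 5, 3, 3, 4, 5, 2, 3, 2, 5, 5, 3, 3, 4, 5, 2, 3, 2, 5, 5, 4, 3, 3, 4, 5, 3, 3, 4, 5, 2, 3, 2, 5, 5] (sel (ones 1755) ip2 75) = true := by decide +kernel

theorem rot2_75r : band (Rule.ok (2 * 1) EX RL ⟨2 :: [3, 2, 5, 5, 4, 4, 2, 3, 2, 5, 5, 4, 4, 3, 3, 4, 5, 2, 3, 2, 5, 5, 4, 3, 3, 4, 5, 3, 3, 4, 5, 2, 3, 2, 5, 5, 3, 3, 4, 5, 2, 3, 2, 5, 5, 4, 3, 3, 4, 5, 3, 3, 4, 5, 2, 3, 2, 5, 5], [], 2, true⟩) (lall (memL L) [3, 2, 5, 5, 4, 4, 2, 3, 2, 5, 5, 4, 4, 3, 3, 4, 5, 2, 3, 2, 5, 5, 4, 3, 3, 4, 5, 3, 3, 4, 5, 2, 3, 2, 5, 5, 3, 3, 4, 5, 2, 3, 2, 5, 5, 4, 3, 3, 4, 5, 3, 3, 4, 5, 2, 3, 2, 5,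 5]) = true := by decide +kernel

theorem rot2_76 : T.rot 2 [5, 5, 4, 4, 2, 3, 2, 5, 5, 4, 4, 3, 3, 4, 5, 2, 3, 2, 5, 5, 4, 3, 3, 4, 5, 3, 3, 4, 5, 2, 3, 2, 5, 5, 3, 3, 4, 5, 2, 3, 2, 5, 5, 4, 3, 3, 4, 5, 3, 3, 4, 5, 2, 3, 2, 5, 5, 2, 3] (sel (ones 1755) ip2 76) = true := by decide +kernel

theorem rot2_76r : band (Rule.ok (2 * 1) EX RL ⟨2 :: [5, 5, 4, 4, 2, 3, 2, 5, 5, 4, 4, 3, 3, 4, 5, 2, 3, 2, 5, 5, 4, 3, 3, 4, 5, 3, 3, 4, 5, 2, 3, 2, 5, 5, 3, 3, 4, 5, 2, 3, 2, 5, 5, 4, 3, 3, 4, 5, 3, 3, 4, 5, 2, 3, 2, 5, 5, 2, 3], [3, 5], 2, true⟩) (lall (memL L) [5, 5, 4, 4, 2, 3, 2, 5, 5, 4, 4, 3, 3, 4, 5, 2, 3, 2, 5, 5, 4, 3, 3, 4, 5, 3, 3, 4, 5, 2, 3, 2, 5, 5, 3, 3, 4, 5, 2, 3, 2, 5, 5, 4, 3, 3, 4, 5, 3, 3, 4, 5, 2, 3, 2, 5, 5, 2, 3]) = true := by decide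 +kernel

theorem rot2_77 : T.rot 2 [3, 2, 5, 5, 4, 3, 3, 4, 5, 3, 3, 4, 5, 2, 3, 2, 5, 5, 2, 3, 2, 5, 5, 4, 4, 2, 3, 2, 5, 5, 4, 4, 3, 3, 4, 5, 2, 3, 2, 5, 5, 4, 3, 3, 4, 5, 3, 3, 4, 5, 2, 3, 2, 5, 5, 3, 3, 4, 5] (sel (ones 1755) ip2 77) = true := by decide +kernel

theorem rot2_77r : band (Rule.ok (2 * 1) EX RL ⟨2 :: [3, 2, 5, 5, 4, 3, 3, 4, 5, 3, 3, 4, 5, 2, 3, 2, 5, 5, 2, 3, 2, 5, 5, 4, 4, 2, 3, 2, 5, 5, 4, 4, 3, 3, 4, 5, 2, 3, 2, 5, 5, 4, 3, 3, 4, 5, 3, 3, 4, 5, 2, 3, 2, 5, 5, 3, 3, 4, 5], [5, 5, 2, 4, 2, 5, 3, 4, 3, 4, 4, 3, 5, 5, 2, 4, 2], 2, true⟩) (lall (memL L) [3, 2, 5, 5, 4, 3, 3, 4, 5, 3, 3, 4, 5, 2, 3, 2, 5, 5, 2, 3, 2, 5, 5, 4, 4, 2, 3, 2, 5, 5, 4, 4, 3, 3, 4, 5, 2, 3, 2, 5, 5, 4, 3, 3, 4, 5, 3, 3, 4, 5, 2, 3, 2, 5, 5, 3, 3, 4,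 5]) = true := by decide +kernel

theorem rot2_78 : T.rot 2 [5, 5, 3, 2, 5, 5, 2, 3, 3, 4, 5, 4, 3, 2, 5, 5, 3, 3, 4, 5, 4, 3, 2, 5, 5, 3, 2, 5, 5, 2, 3, 3, 4, 5, 4, 3, 2, 5, 5, 2, 2, 3, 3, 4, 5, 4, 2, 2, 3, 3, 4, 5, 4, 3, 3, 4, 5, 4, 3] (sel (ones 1755) ip2 78) = true := by decide +kernel

theorem rot2_78r : band (Rule.ok (2 * 1) EX RL ⟨2 :: [5, 5, 3, 2, 5, 5, 2, 3, 3, 4, 5, 4, 3, 2, 5, 5, 3, 3, 4, 5, 4, 3, 2, 5, 5, 3, 2, 5, 5, 2, 3, 3, 4, 5, 4, 3, 2, 5, 5, 2, 2, 3, 3, 4, 5, 4, 2, 2, 3, 3, 4, 5, 4, 3, 3, 4, 5, 4, 3], [5, 5, 2, 4, 2, 5], 2, false⟩) (lall (memL L) [5, 5, 3, 2, 5, 5, 2, 3, 3, 4, 5, 4, 3, 2, 5, 5, 3, 3, 4, 5, 4, 3, 2, 5, 5, 3, 2, 5, 5, 2, 3, 3, 4, 5, 4, 3, 2, 5, 5, 2, 2, 3, 3, 4, 5, 4, 2, 2, 3, 3, 4, 5, 4, 3, 3, 4, 5, 4, 3]) = true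 := by decide +kernel

theorem rot2_79 : T.rot 2 [5, 5, 2, 3, 3, 4, 5, 4, 3, 2, 5, 5, 3, 3, 4, 5, 4, 3, 2, 5, 5, 3, 2, 5, 5, 2, 3, 3, 4, 5, 4, 3, 2, 5, 5, 2, 2, 3, 3, 4, 5, 4, 2, 2, 3, 3, 4, 5, 4, 3, 3, 4, 5, 4, 3, 2, 5, 5, 3] (sel (ones 1755) ip2 79) = true := by decide +kernel

theorem rot2_79r : band (Rule.ok (2 * 1) EX RL ⟨2 :: [5, 5, 2, 3, 3, 4, 5, 4, 3, 2, 5, 5, 3, 3, 4, 5, 4, 3, 2, 5, 5, 3, 2, 5, 5, 2, 3, 3, 4, 5, 4, 3, 2, 5, 5, 2, 2, 3, 3, 4, 5, 4, 2, 2, 3, 3, 4, 5, 4, 3, 3, 4, 5, 4, 3, 2, 5, 5, 3], [5, 5, 2, 4, 2, 5, 3, 4], 2, false⟩) (lall (memL L) [5, 5, 2, 3, 3, 4, 5, 4, 3, 2, 5, 5, 3, 3, 4, 5, 4, 3, 2, 5, 5, 3, 2, 5, 5, 2, 3, 3, 4, 5, 4, 3, 2, 5, 5, 2, 2, 3, 3, 4, 5, 4, 2, 2, 3, 3, 4, 5, 4, 3, 3, 4, 5, 4, 3, 2, 5, 5, 3]) = true :=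 by decide +kernel

theorem rot2_80 : T.rot 2 [5, 5, 3, 2, 5, 5, 2, 3, 3, 4, 5, 4, 3, 2, 5, 5, 2, 2, 3, 3, 4, 5, 4, 2, 2, 3, 3, 4, 5, 4, 3, 3, 4, 5, 4, 3, 2, 5, 5, 3, 2, 5, 5, 2, 3, 3, 4, 5, 4, 3, 2, 5, 5, 3, 3, 4, 5, 4, 3] (sel (ones 1755) ip2 80) = true := by decide +kernel

theorem rot2_80r : band (Rule.ok (2 * 1) EX RL ⟨2 :: [5, 5, 3, 2, 5, 5, 2, 3, 3, 4, 5, 4, 3, 2, 5, 5, 2, 2, 3, 3, 4, 5, 4, 2, 2, 3, 3, 4, 5, 4, 3, 3, 4, 5, 4, 3, 2, 5, 5, 3, 2, 5, 5, 2, 3, 3, 4, 5, 4, 3, 2, 5, 5, 3, 3, 4, 5, 4, 3], [5, 5, 2, 4, 2, 5, 3, 4, 3, 4, 4, 3, 5, 5, 2, 4, 2, 2, 5], 2, false⟩) (lall (memL L) [5, 5, 3, 2, 5, 5, 2, 3, 3, 4, 5, 4, 3, 2, 5, 5, 2, 2, 3, 3, 4, 5, 4, 2, 2, 3, 3, 4, 5, 4, 3, 3, 4, 5, 4, 3, 2, 5, 5, 3, 2, 5, 5, 2, 3, 3, 4, 5, 4, 3, 2, 5,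 5, 3, 3, 4, 5, 4, 3]) = true := by decide +kernel

theorem rot2_81 : T.rot 2 [5, 5, 2, 3, 3, 4, 5, 4, 3, 2, 5, 5, 2, 2, 3, 3, 4, 5, 4, 2, 2, 3, 3, 4, 5, 4, 3, 3, 4, 5, 4, 3, 2, 5, 5, 3, 2, 5, 5, 2, 3, 3, 4, 5, 4, 3, 2, 5, 5, 3, 3, 4, 5, 4, 3, 2, 5, 5, 3] (sel (ones 1755) ip2 81) = true := by decide +kernel

theorem rot2_81r : band (Rule.ok (2 * 1) EX RL ⟨2 :: [5, 5, 2, 3, 3, 4, 5, 4, 3, 2, 5, 5, 2, 2, 3, 3, 4, 5, 4, 2, 2, 3, 3, 4, 5, 4, 3, 3, 4, 5, 4, 3, 2, 5, 5, 3, 2, 5, 5, 2, 3, 3, 4, 5, 4, 3, 2, 5, 5, 3, 3, 4, 5, 4, 3, 2, 5, 5, 3], [5, 5, 2, 4, 2, 5, 3, 4, 3, 4, 4, 3, 5, 5, 2, 4, 2, 2, 5, 3, 4], 2, false⟩) (lall (memL L) [5, 5, 2, 3, 3, 4, 5, 4, 3, 2, 5, 5, 2, 2, 3, 3, 4, 5, 4, 2, 2, 3, 3, 4, 5, 4, 3, 3, 4, 5, 4, 3, 2, 5, 5, 3, 2, 5, 5, 2,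 3, 3, 4, 5, 4, 3, 2, 5, 5, 3, 3, 4, 5, 4, 3, 2, 5, 5, 3]) = true := by decide +kernel

theorem rot2_82 : T.rot 2 [5, 5, 2, 2, 3, 3, 4, 5, 4, 2, 2, 3, 3, 4, 5, 4, 3, 3, 4, 5, 4, 3, 2, 5, 5, 3, 2, 5, 5, 2, 3, 3, 4, 5, 4, 3, 2, 5, 5, 3, 3, 4, 5, 4, 3, 2, 5, 5, 3, 2, 5, 5, 2, 3, 3, 4, 5, 4, 3] (sel (ones 1755) ip2 82) = true := by decide +kernel

theorem rot2_82r : band (Rule.ok (2 * 1) EX RL ⟨2 :: [5, 5, 2, 2, 3, 3, 4, 5, 4, 2, 2, 3, 3, 4, 5, 4, 3, 3, 4, 5, 4, 3, 2, 5, 5, 3, 2, 5, 5, 2, 3, 3, 4, 5, 4, 3, 2, 5, 5, 3, 3, 4, 5, 4, 3, 2, 5, 5, 3, 2, 5, 5, 2, 3, 3, 4, 5, 4, 3], [3, 5, 3, 4, 4, 2, 5, 3, 4, 4, 2, 2, 5, 5, 2], 2, false⟩) (lall (memL L) [5, 5, 2, 2, 3, 3, 4, 5, 4, 2, 2, 3, 3, 4, 5, 4, 3, 3, 4, 5, 4, 3, 2, 5, 5, 3, 2, 5, 5, 2, 3, 3, 4, 5,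 4, 3, 2, 5, 5, 3, 3, 4, 5, 4, 3, 2, 5, 5, 3, 2, 5, 5, 2, 3, 3, 4, 5, 4, 3]) = true := by decide +kernel

theorem rot2_83 : T.rot 2 [5, 5, 4, 4, 3, 3, 4, 5, 4, 3, 2, 5, 5, 3, 2, 5, 5, 2, 2, 3, 3, 4, 5, 4, 3, 3, 4, 5, 2, 3, 2, 5, 5, 4, 3, 3, 4, 5, 3, 3, 4, 5, 2, 3, 2, 5, 5, 2, 3, 3, 4, 5, 4, 3, 2, 5, 5, 2, 3] (sel (ones 1755) ip2 83) = true := by decide +kernel

theorem rot2_83r : band (Rule.ok (2 * 1) EX RL ⟨2 :: [5, 5, 4, 4, 3, 3, 4, 5, 4, 3, 2, 5, 5, 3, 2, 5, 5, 2, 2, 3, 3, 4, 5, 4, 3, 3, 4, 5, 2, 3, 2, 5, 5, 4, 3, 3, 4, 5, 3, 3, 4, 5, 2, 3, 2, 5, 5, 2, 3, 3, 4, 5, 4, 3, 2, 5, 5, 2, 3], [3, 5], 3, true⟩) (lall (memL L) [5, 5, 4, 4, 3, 3, 4, 5, 4, 3, 2, 5, 5, 3, 2, 5, 5, 2, 2, 3, 3, 4, 5, 4, 3, 3, 4, 5, 2, 3, 2, 5, 5, 4, 3, 3, 4, 5, 3, 3, 4,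 5, 2, 3, 2, 5, 5, 2, 3, 3, 4, 5, 4, 3, 2, 5, 5, 2, 3]) = true := by decide +kernel

theorem rot2_84 : T.rot 2 [5, 5, 2, 2, 3, 3, 4, 5, 4, 3, 3, 4, 5, 2, 3, 2, 5, 5, 4, 3, 3, 4, 5, 3, 3, 4, 5, 2, 3, 2, 5, 5, 2, 3, 3, 4, 5, 4, 3, 2, 5, 5, 2, 3, 2, 5, 5, 4, 4, 3, 3, 4, 5, 4, 3, 2, 5, 5, 3] (sel (ones 1755) ip2 84) = true := by decide +kernel

theorem rot2_84r : band (Rule.ok (2 * 1) EX RL ⟨2 :: [5, 5, 2, 2, 3, 3, 4, 5, 4, 3, 3, 4, 5, 2, 3, 2, 5, 5, 4, 3, 3, 4, 5, 3, 3, 4, 5, 2, 3, 2, 5, 5, 2, 3, 3, 4, 5, 4, 3, 2, 5, 5, 2, 3, 2, 5, 5, 4, 4, 3, 3, 4, 5, 4, 3, 2, 5, 5, 3], [3, 5, 3, 4, 4, 2, 2, 5, 5, 2, 4, 2, 5, 3, 4], 3, true⟩) (lall (memL L) [5, 5, 2, 2, 3, 3, 4, 5, 4, 3, 3, 4, 5, 2, 3, 2, 5, 5, 4, 3, 3, 4, 5, 3, 3, 4, 5, 2, 3, 2, 5, 5, 2, 3, 3,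 4, 5, 4, 3, 2, 5, 5, 2, 3, 2, 5, 5, 4, 4, 3, 3, 4, 5, 4, 3, 2, 5, 5, 3]) = true := by decide +kernel

theorem rot2_85 : T.rot 2 [3, 3, 4, 5, 4, 3, 3, 4, 5, 2, 3, 2, 5, 5, 4, 3, 3, 4, 5, 3, 3, 4, 5, 2, 3, 2, 5, 5, 2, 3, 3, 4, 5, 4, 3, 2, 5, 5, 2, 3, 2, 5, 5, 4, 4, 3, 3, 4, 5, 4, 3, 2, 5, 5, 3, 2, 5, 5, 2] (sel (ones 1755) ip2 85) = true := by decide +kernel

theorem rot2_85r : band (Rule.ok (2 * 1) EX RL ⟨2 :: [3, 3, 4, 5, 4, 3, 3, 4, 5, 2, 3, 2, 5, 5, 4, 3, 3, 4, 5, 3, 3, 4, 5, 2, 3, 2, 5, 5, 2, 3, 3, 4, 5, 4, 3, 2, 5, 5, 2, 3, 2, 5, 5, 4, 4, 3, 3, 4, 5, 4, 3, 2, 5, 5, 3, 2, 5, 5, 2], [3, 5, 3, 4, 4, 2, 2, 5, 5, 2, 4, 2, 5, 3, 4, 3, 4, 4, 3], 3, true⟩) (lall (memL L) [3, 3, 4, 5, 4, 3, 3, 4, 5, 2, 3, 2, 5, 5, 4, 3, 3, 4, 5, 3, 3, 4, 5, 2, 3,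 2, 5, 5, 2, 3, 3, 4, 5, 4, 3, 2, 5, 5, 2, 3, 2, 5, 5, 4, 4, 3, 3, 4, 5, 4, 3, 2, 5, 5, 3, 2, 5, 5, 2]) = true := by decide +kernel

theorem rot2_86 : T.rot 2 [5, 5, 2, 3, 3, 4, 5, 4, 3, 2, 5, 5, 2, 3, 2, 5, 5, 4, 4, 3, 3, 4, 5, 4, 3, 2, 5, 5, 3, 2, 5, 5, 2, 2, 3, 3, 4, 5, 4, 3, 3, 4, 5, 2, 3, 2, 5, 5, 4, 3, 3, 4, 5, 3, 3, 4, 5, 2, 3] (sel (ones 1755) ip2 86) = true := by decide +kernel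

theorem rot2_86r : band (Rule.ok (2 * 1) EX RL ⟨2 :: [5, 5, 2, 3, 3, 4, 5, 4, 3, 2, 5, 5, 2, 3, 2, 5, 5, 4, 4, 3, 3, 4, 5, 4, 3, 2, 5, 5, 3, 2, 5, 5, 2, 2, 3, 3, 4, 5, 4, 3, 3, 4, 5, 2, 3, 2, 5, 5, 4, 3, 3, 4, 5, 3, 3, 4, 5, 2, 3], [5, 5, 2, 4, 3, 5, 3, 4, 4, 2, 5, 5, 2], 3, true⟩) (lall (memL L) [5, 5, 2, 3, 3, 4, 5, 4, 3, 2, 5, 5, 2, 3, 2, 5, 5, 4, 4, 3, 3, 4, 5, 4, 3, 2, 5, 5, 3, 2, 5, 5, 2, 2, 3, 3, 4, 5, 4, 3, 3, 4, 5, 2, 3, 2, 5, 5, 4, 3, 3, 4, 5, 3, 3, 4, 5, 2, 3]) = true := by decide +kernel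

theorem rot2_87 : T.rot 2 [5, 5, 2, 3, 2, 5, 5, 4, 4, 3, 3, 4, 5, 4, 3, 2, 5, 5, 3, 2, 5, 5, 2, 2, 3, 3, 4, 5, 4, 3, 3, 4, 5, 2, 3, 2, 5, 5, 4, 3, 3, 4, 5, 3, 3, 4, 5, 2, 3, 2, 5, 5, 2, 3, 3, 4, 5, 4, 3] (sel (ones 1755) ip2 87) = true := by decide +kernel

theorem rot2_87r : band (Rule.ok (2 * 1) EX RL ⟨2 :: [5, 5, 2, 3, 2, 5, 5, 4, 4, 3, 3, 4, 5, 4, 3, 2, 5, 5, 3, 2, 5, 5, 2, 2, 3, 3, 4, 5, 4, 3, 3, 4, 5, 2, 3, 2, 5, 5, 4, 3, 3, 4, 5, 3, 3, 4, 5, 2, 3, 2, 5, 5, 2, 3, 3, 4, 5, 4, 3], [5, 5, 2], 3, true⟩) (lall (memL L) [5, 5, 2, 3, 2, 5, 5, 4, 4, 3, 3, 4, 5, 4, 3, 2, 5, 5, 3, 2, 5, 5, 2, 2, 3, 3, 4, 5, 4, 3, 3, 4, 5, 2, 3, 2, 5, 5, 4, 3, 3, 4, 5, 3, 3, 4, 5, 2, 3, 2, 5, 5, 2, 3, 3, 4, 5, 4, 3]) = true := by decide +kernel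

theorem rot2_88 : T.rot 2 [5, 5, 2, 3, 3, 4, 5, 4, 3, 2, 5, 5, 2, 3, 2, 5, 5, 4, 4, 3, 3, 4, 5, 3, 3, 4, 5, 2, 3, 2, 5, 5, 2, 2, 3, 3, 4, 5, 4, 3, 3, 4, 5, 2, 3, 2, 5, 5, 4, 3, 3, 4, 5, 4, 3, 2, 5, 5, 3] (sel (ones 1755) ip2 88) = true := by decide +kernel

theorem rot2_88r : band (Rule.ok (2 * 1) EX RL ⟨2 :: [5, 5, 2, 3, 3, 4, 5, 4, 3, 2, 5, 5, 2, 3, 2, 5, 5, 4, 4, 3, 3, 4, 5, 3, 3, 4, 5, 2, 3, 2, 5, 5, 2, 2, 3, 3, 4, 5, 4, 3, 3, 4, 5, 2, 3, 2, 5, 5, 4, 3, 3, 4, 5, 4, 3, 2, 5, 5, 3], [5, 5, 2, 4, 3, 5, 3, 4, 4, 2, 5, 5, 2, 4, 2, 5, 3, 4], 3, false⟩) (lall (memL L) [5, 5, 2, 3, 3, 4, 5, 4, 3, 2, 5, 5, 2, 3, 2, 5, 5, 4, 4, 3, 3, 4, 5, 3, 3, 4, 5, 2, 3, 2, 5, 5, 2, 2, 3, 3, 4, 5, 4, 3, 3, 4, 5, 2, 3, 2, 5, 5, 4, 3, 3, 4, 5, 4, 3, 2, 5, 5, 3])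 = true := by decide +kernel

theorem rot2_89 : T.rot 2 [5, 5, 2, 3, 2, 5, 5, 4, 4, 3, 3, 4, 5, 3, 3, 4, 5, 2, 3, 2, 5, 5, 2, 2, 3, 3, 4, 5, 4, 3, 3, 4, 5, 2, 3, 2, 5, 5, 4, 3, 3, 4, 5, 4, 3, 2, 5, 5, 3, 2, 5, 5, 2, 3, 3, 4, 5, 4, 3] (sel (ones 1755) ip2 89) = true := by decide +kernel

theorem rot2_89r : band (Rule.ok (2 * 1) EX RL ⟨2 :: [5, 5, 2, 3, 2, 5, 5, 4, 4, 3, 3, 4, 5, 3, 3, 4, 5, 2, 3, 2, 5, 5, 2, 2, 3, 3, 4, 5, 4, 3, 3, 4, 5, 2, 3, 2, 5, 5, 4, 3, 3, 4, 5, 4, 3, 2, 5, 5, 3, 2, 5, 5, 2, 3, 3, 4, 5, 4, 3], [3, 5, 3, 4, 4, 2, 2, 5, 5, 2, 4, 2, 5, 3, 4, 3, 4, 4, 3, 3, 5, 5, 2, 4, 2, 5, 5, 2], 3, false⟩) (lall (memL L) [5, 5, 2, 3, 2, 5, 5, 4, 4, 3, 3, 4, 5, 3, 3, 4, 5, 2, 3, 2, 5, 5, 2, 2, 3, 3, 4, 5, 4, 3, 3, 4, 5, 2, 3, 2, 5, 5, 4, 3,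 3, 4, 5, 4, 3, 2, 5, 5, 3, 2, 5, 5, 2, 3, 3, 4, 5, 4, 3]) = true := by decide +kernel

theorem rot2_90 : T.rot 2 [5, 5, 4, 4, 3, 3, 4, 5, 3, 3, 4, 5, 2, 3, 2, 5, 5, 2, 2, 3, 3, 4, 5, 4, 3, 3, 4, 5, 2, 3, 2, 5, 5, 4, 3, 3, 4, 5, 4, 3, 2, 5, 5, 3, 2, 5, 5, 2, 3, 3, 4, 5, 4, 3, 2, 5, 5, 2, 3] (sel (ones 1755) ip2 90) = true := by decide +kernel

theorem rot2_90r : band (Rule.ok (2 * 1) EX RL ⟨2 :: [5, 5, 4, 4, 3, 3, 4, 5, 3, 3, 4, 5, 2, 3, 2, 5, 5, 2, 2, 3, 3, 4, 5, 4, 3, 3, 4, 5, 2, 3, 2, 5, 5, 4, 3, 3, 4, 5, 4, 3, 2, 5, 5, 3, 2, 5, 5, 2, 3, 3, 4, 5, 4, 3, 2, 5, 5, 2, 3], [3, 5, 3, 4, 4, 2, 2, 5, 5, 2, 4, 2, 5, 3, 4, 3, 4, 4, 3, 3, 5, 5, 2], 3, false⟩) (lall (memL L) [5, 5, 4, 4, 3, 3, 4, 5, 3, 3, 4, 5, 2, 3, 2, 5, 5, 2, 2, 3, 3, 4, 5, 4, 3, 3,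 4, 5, 2, 3, 2, 5, 5, 4, 3, 3, 4, 5, 4, 3, 2, 5, 5, 3, 2, 5, 5, 2, 3, 3, 4, 5, 4, 3, 2, 5, 5, 2, 3]) = true := by decide +kernel

theorem rot2_91 : T.rot 2 [5, 5, 4, 4, 2, 3, 3, 4, 5, 4, 3, 2, 5, 5, 3, 3, 4, 5, 4, 3, 2, 5, 5, 3, 2, 5, 5, 3, 3, 4, 5, 2, 3, 2, 5, 5, 4, 2, 2, 3, 3, 4, 5, 4, 3, 3, 4, 5, 3, 3, 4, 5, 2, 3, 2, 5, 5, 2, 3] (sel (ones 1755) ip2 91) = true := by decide +kernel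

theorem rot2_91r : band (Rule.ok (2 * 1) EX RL ⟨2 :: [5, 5, 4, 4, 2, 3, 3, 4, 5, 4, 3, 2, 5, 5, 3, 3, 4, 5, 4, 3, 2, 5, 5, 3, 2, 5, 5, 3, 3, 4, 5, 2, 3, 2, 5, 5, 4, 2, 2, 3, 3, 4, 5, 4, 3, 3, 4, 5, 3, 3, 4, 5, 2, 3, 2, 5, 5, 2, 3], [3, 5], 5, true⟩) (lall (memL L) [5, 5, 4, 4, 2, 3, 3, 4, 5, 4, 3, 2, 5, 5, 3, 3, 4, 5, 4, 3, 2, 5, 5, 3, 2, 5, 5, 3, 3, 4, 5, 2, 3, 2, 5, 5, 4, 2, 2, 3, 3, 4, 5, 4, 3, 3, 4, 5, 3, 3, 4, 5, 2, 3, 2, 5, 5, 2, 3]) = true := by decide +kernel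

theorem rot2_92 : T.rot 2 [3, 2, 5, 5, 4, 2, 2, 3, 3, 4, 5, 4, 3, 3, 4, 5, 3, 3, 4, 5, 2, 3, 2, 5, 5, 2, 3, 2, 5, 5, 4, 4, 2, 3, 3, 4, 5, 4, 3, 2, 5, 5, 3, 3, 4, 5, 4, 3, 2, 5, 5, 3, 2, 5, 5, 3, 3, 4, 5] (sel (ones 1755) ip2 92) = true := by decide +kernel

theorem rot2_92r : band (Rule.ok (2 * 1) EX RL ⟨2 :: [3, 2, 5, 5, 4, 2, 2, 3, 3, 4, 5, 4, 3, 3, 4, 5, 3, 3, 4, 5, 2, 3, 2, 5, 5, 2, 3, 2, 5, 5, 4, 4, 2, 3, 3, 4, 5, 4, 3, 2, 5, 5, 3, 3, 4, 5, 4, 3, 2, 5, 5, 3, 2, 5, 5, 3, 3, 4, 5], [3, 5, 3, 4, 4, 2, 5, 5, 2, 4, 2, 2, 5, 3, 4, 4], 5, true⟩) (lall (memL L) [3, 2, 5, 5, 4, 2, 2, 3, 3, 4, 5, 4, 3, 3, 4, 5, 3, 3, 4, 5, 2, 3, 2, 5, 5, 2, 3, 2, 5, 5, 4, 4, 2, 3, 3, 4, 5, 4, 3, 2, 5, 5, 3, 3, 4, 5, 4, 3, 2, 5, 5, 3, 2, 5, 5, 3, 3, 4, 5]) = true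 := by decide +kernel

theorem rot2_93 : T.rot 2 [5, 5, 4, 2, 2, 3, 3, 4, 5, 4, 3, 3, 4, 5, 3, 3, 4, 5, 2, 3, 2, 5, 5, 2, 3, 2, 5, 5, 4, 4, 2, 3, 3, 4, 5, 4, 3, 2, 5, 5, 3, 3, 4, 5, 4, 3, 2, 5, 5, 3, 2, 5, 5, 3, 3, 4, 5, 2, 3] (sel (ones 1755) ip2 93) = true := by decide +kernel

theorem rot2_93r : band (Rule.ok (2 * 1) EX RL ⟨2 :: [5, 5, 4, 2, 2, 3, 3, 4, 5, 4, 3, 3, 4, 5, 3, 3, 4, 5, 2, 3, 2, 5, 5, 2, 3, 2, 5, 5, 4, 4, 2, 3, 3, 4, 5, 4, 3, 2, 5, 5, 3, 3, 4, 5, 4, 3, 2, 5, 5, 3, 2, 5, 5, 3, 3, 4, 5, 2, 3], [3, 5, 3, 4, 4, 2, 5, 5, 2, 4, 2, 2, 5, 3, 4, 4, 3, 5], 5, true⟩) (lall (memL L) [5, 5, 4, 2, 2, 3, 3, 4, 5, 4, 3, 3, 4, 5, 3, 3, 4, 5, 2, 3, 2, 5, 5, 2, 3, 2, 5, 5, 4, 4, 2, 3, 3, 4, 5, 4, 3, 2, 5, 5, 3, 3, 4, 5, 4, 3, 2, 5, 5, 3, 2, 5, 5,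 3, 3, 4, 5, 2, 3]) = true := by decide +kernel

theorem rot2_94 : T.rot 2 [3, 3, 4, 5, 4, 3, 3, 4, 5, 3, 3, 4, 5, 2, 3, 2, 5, 5, 2, 3, 2, 5, 5, 4, 4, 2, 3, 3, 4, 5, 4, 3, 2, 5, 5, 3, 3, 4, 5, 4, 3, 2, 5, 5, 3, 2, 5, 5, 3, 3, 4, 5, 2, 3, 2, 5, 5, 4, 2] (sel (ones 1755) ip2 94) = true := by decide +kernel

theorem rot2_94r : band (Rule.ok (2 * 1) EX RL ⟨2 :: [3, 3, 4, 5, 4, 3, 3, 4, 5, 3, 3, 4, 5, 2, 3, 2, 5, 5, 2, 3, 2, 5, 5, 4, 4, 2, 3, 3, 4, 5, 4, 3, 2, 5, 5, 3, 3, 4, 5, 4, 3, 2, 5, 5, 3, 2, 5, 5, 3, 3, 4, 5, 2, 3, 2, 5, 5, 4, 2], [5, 5, 2, 4, 2, 5, 3, 4, 3, 4, 4, 3, 5, 3, 4, 4, 2], 5, true⟩) (lall (memL L) [3, 3, 4, 5, 4, 3, 3, 4, 5, 3, 3, 4, 5, 2, 3, 2, 5, 5, 2, 3, 2, 5, 5, 4, 4, 2, 3, 3, 4, 5, 4, 3, 2, 5, 5, 3, 3, 4, 5, 4, 3, 2, 5, 5, 3,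 2, 5, 5, 3, 3, 4, 5, 2, 3, 2, 5, 5, 4, 2]) = true := by decide +kernel

theorem rot2_95 : T.rot 2 [3, 2, 5, 5, 2, 3, 2, 5, 5, 4, 4, 2, 3, 3, 4, 5, 4, 3, 2, 5, 5, 3, 3, 4, 5, 4, 3, 2, 5, 5, 3, 2, 5, 5, 3, 3, 4, 5, 2, 3, 2, 5, 5, 4, 2, 2, 3, 3, 4, 5, 4, 3, 3, 4, 5, 3, 3, 4, 5] (sel (ones 1755) ip2 95) = true := by decide +kernel

theorem rot2_95r : band (Rule.ok (2 * 1) EX RL ⟨2 :: [3, 2, 5, 5, 2, 3, 2, 5, 5, 4, 4, 2, 3, 3, 4, 5, 4, 3, 2, 5, 5, 3, 3, 4, 5, 4, 3, 2, 5, 5, 3, 2, 5, 5, 3, 3, 4, 5, 2, 3, 2, 5, 5, 4, 2, 2, 3, 3, 4, 5, 4, 3, 3, 4, 5, 3, 3, 4, 5], [5, 5, 2, 4, 2], 5, true⟩) (lall (memL L) [3, 2, 5, 5, 2, 3, 2, 5, 5, 4, 4, 2, 3, 3, 4, 5, 4, 3, 2, 5, 5, 3, 3, 4, 5, 4, 3, 2, 5, 5, 3, 2, 5, 5, 3, 3, 4, 5, 2, 3, 2, 5, 5, 4, 2, 2, 3, 3, 4,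 5, 4, 3, 3, 4, 5, 3, 3, 4, 5]) = true := by decide +kernel

theorem rot2_96 : T.rot 2 [5, 5, 2, 3, 2, 5, 5, 4, 4, 2, 3, 3, 4, 5, 4, 3, 2, 5, 5, 3, 3, 4, 5, 3, 3, 4, 5, 2, 3, 2, 5, 5, 3, 3, 4, 5, 2, 3, 2, 5, 5, 4, 2, 2, 3, 3, 4, 5, 4, 3, 3, 4, 5, 4, 3, 2, 5, 5, 3] (sel (ones 1755) ip2 96) = true := by decide +kernel

theorem rot2_96r : band (Rule.ok (2 * 1) EX RL ⟨2 :: [5, 5, 2, 3, 2, 5, 5, 4, 4, 2, 3, 3, 4, 5, 4, 3, 2, 5, 5, 3, 3, 4, 5, 3, 3, 4, 5, 2, 3, 2, 5, 5, 3, 3, 4, 5, 2, 3, 2, 5, 5, 4, 2, 2, 3, 3, 4, 5, 4, 3, 3, 4, 5, 4, 3, 2, 5, 5, 3], [5, 5, 2, 4, 2, 5, 3, 4], 5, false⟩) (lall (memL L) [5, 5, 2, 3, 2, 5, 5, 4, 4, 2, 3, 3, 4, 5, 4, 3, 2, 5, 5, 3, 3, 4, 5, 3, 3, 4, 5, 2, 3, 2, 5, 5, 3, 3, 4, 5, 2, 3, 2, 5, 5, 4, 2, 2, 3, 3, 4, 5, 4, 3,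 3, 4, 5, 4, 3, 2, 5, 5, 3]) = true := by decide +kernel

theorem rot2_97 : T.rot 2 [3, 2, 5, 5, 4, 2, 2, 3, 3, 4, 5, 4, 3, 3, 4, 5, 4, 3, 2, 5, 5, 3, 2, 5, 5, 2, 3, 2, 5, 5, 4, 4, 2, 3, 3, 4, 5, 4, 3, 2, 5, 5, 3, 3, 4, 5, 3, 3, 4, 5, 2, 3, 2, 5, 5, 3, 3, 4, 5] (sel (ones 1755) ip2 97) = true := by decide +kernel

theorem rot2_97r : band (Rule.ok (2 * 1) EX RL ⟨2 :: [3, 2, 5, 5, 4, 2, 2, 3, 3, 4, 5, 4, 3, 3, 4, 5, 4, 3, 2, 5, 5, 3, 2, 5, 5, 2, 3, 2, 5, 5, 4, 4, 2, 3, 3, 4, 5, 4, 3, 2, 5, 5, 3, 3, 4, 5, 3, 3, 4, 5, 2, 3, 2, 5, 5, 3, 3, 4, 5], [3, 5, 3, 4, 4, 2, 5, 5, 2, 4, 2], 5, false⟩) (lall (memL L) [3, 2, 5, 5, 4, 2, 2, 3, 3, 4, 5, 4, 3, 3, 4, 5, 4, 3, 2, 5, 5, 3, 2, 5, 5, 2, 3, 2, 5, 5, 4, 4, 2, 3, 3, 4, 5, 4, 3, 2, 5, 5, 3, 3, 4, 5, 3, 3,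 4, 5, 2, 3, 2, 5, 5, 3, 3, 4, 5]) = true := by decide +kernel

theorem rot2_98 : T.rot 2 [5, 5, 4, 2, 2, 3, 3, 4, 5, 4, 3, 3, 4, 5, 4, 3, 2, 5, 5, 3, 2, 5, 5, 2, 3, 2, 5, 5, 4, 4, 2, 3, 3, 4, 5, 4, 3, 2, 5, 5, 3, 3, 4, 5, 3, 3, 4, 5, 2, 3, 2, 5, 5, 3, 3, 4, 5, 2, 3] (sel (ones 1755) ip2 98) = true := by decide +kernel

theorem rot2_98r : band (Rule.ok (2 * 1) EX RL ⟨2 :: [5, 5, 4, 2, 2, 3, 3, 4, 5, 4, 3, 3, 4, 5, 4, 3, 2, 5, 5, 3, 2, 5, 5, 2, 3, 2, 5, 5, 4, 4, 2, 3, 3, 4, 5, 4, 3, 2, 5, 5, 3, 3, 4, 5, 3, 3, 4, 5, 2, 3, 2, 5, 5, 3, 3, 4, 5, 2, 3], [3, 5, 3, 4, 4, 2, 5, 5, 2], 5, false⟩) (lall (memL L) [5, 5, 4, 2, 2, 3, 3, 4, 5, 4, 3, 3, 4, 5, 4, 3, 2, 5, 5, 3, 2, 5, 5, 2, 3, 2, 5, 5, 4, 4, 2, 3, 3, 4, 5, 4, 3, 2, 5, 5, 3, 3, 4, 5, 3, 3, 4, 5,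 2, 3, 2, 5, 5, 3, 3, 4, 5, 2, 3]) = true := by decide +kernel

theorem rot2_99 : T.rot 2 [5, 5, 4, 3, 3, 4, 5, 3, 3, 4, 5, 2, 3, 2, 5, 5, 2, 3, 2, 5, 5, 4, 4, 3, 3, 4, 5, 2, 3, 2, 5, 5, 4, 3, 3, 4, 5, 3, 3, 4, 5, 2, 3, 2, 5, 5, 2, 3, 2, 5, 5, 4, 4, 3, 3, 4, 5, 2, 3] (sel (ones 1755) ip2 99) = true := by decide +kernel

theorem rot2_99r : band (Rule.ok (2 * 1) EX RL ⟨2 :: [5, 5, 4, 3, 3, 4, 5, 3, 3, 4, 5, 2, 3, 2, 5, 5, 2, 3, 2, 5, 5, 4, 4, 3, 3, 4, 5, 2, 3, 2, 5, 5, 4, 3, 3, 4, 5, 3, 3, 4, 5, 2, 3, 2, 5, 5, 2, 3, 2, 5, 5, 4, 4, 3, 3, 4, 5, 2, 3], [3, 5, 3, 4, 4, 2, 2, 5, 5, 2, 4, 3, 5], 6, true⟩) (lall (memL L) [5, 5, 4, 3, 3, 4, 5, 3, 3, 4, 5, 2, 3, 2, 5, 5, 2, 3, 2, 5, 5, 4, 4, 3, 3, 4, 5, 2, 3, 2, 5, 5, 4, 3, 3, 4, 5, 3, 3, 4, 5, 2, 3, 2,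 5, 5, 2, 3, 2, 5, 5, 4, 4, 3, 3, 4, 5, 2, 3]) = true := by decide +kernel

theorem rot2_100 : T.rot 2 [3, 2, 5, 5, 2, 3, 2, 5, 5, 4, 4, 3, 3, 4, 5, 2, 3, 2, 5, 5, 4, 3, 3, 4, 5, 3, 3, 4, 5, 2, 3, 2, 5, 5, 2, 3, 2, 5, 5, 4, 4, 3, 3, 4, 5, 2, 3, 2, 5, 5, 4, 3, 3, 4, 5, 3, 3, 4, 5] (sel (ones 1755) ip2 100) = true := by decide +kernel

theorem rot2_100r : band (Rule.ok (2 * 1) EX RL ⟨2 :: [3, 2, 5, 5, 2, 3, 2, 5, 5, 4, 4, 3, 3, 4, 5, 2, 3, 2, 5, 5, 4, 3, 3, 4, 5, 3, 3, 4, 5, 2, 3, 2, 5, 5, 2, 3, 2, 5, 5, 4, 4, 3, 3, 4, 5, 2, 3, 2, 5, 5, 4, 3, 3, 4, 5, 3, 3, 4, 5], [5, 5, 2, 4, 2], 6, true⟩) (lall (memL L) [3, 2, 5, 5, 2, 3, 2, 5, 5, 4, 4, 3, 3, 4, 5, 2, 3, 2, 5, 5, 4, 3, 3, 4, 5, 3, 3, 4, 5, 2, 3, 2, 5, 5, 2, 3, 2, 5, 5, 4, 4, 3, 3, 4, 5, 2, 3,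 2, 5, 5, 4, 3, 3, 4, 5, 3, 3, 4, 5]) = true := by decide +kernel

theorem rot2_101 : T.rot 2 [5, 5, 2, 3, 2, 5, 5, 4, 4, 3, 3, 4, 5, 2, 3, 2, 5, 5, 4, 3, 3, 4, 5, 3, 3, 4, 5, 2, 3, 2, 5, 5, 2, 3, 2, 5, 5, 4, 4, 3, 3, 4, 5, 2, 3, 2, 5, 5, 4, 3, 3, 4, 5, 3, 3, 4, 5, 2, 3] (sel (ones 1755) ip2 101) = true := by decide +kernel

theorem rot2_101r : band (Rule.ok (2 * 1) EX RL ⟨2 :: [5, 5, 2, 3, 2, 5, 5, 4, 4, 3, 3, 4, 5, 2, 3, 2, 5, 5, 4, 3, 3, 4, 5, 3, 3, 4, 5, 2, 3, 2, 5, 5, 2, 3, 2, 5, 5, 4, 4, 3, 3, 4, 5, 2, 3, 2, 5, 5, 4, 3, 3, 4, 5, 3, 3, 4, 5, 2, 3], [5, 5, 2], 6, true⟩) (lall (memL L) [5, 5, 2, 3, 2, 5, 5, 4, 4, 3, 3, 4, 5, 2, 3, 2, 5, 5, 4, 3, 3, 4, 5, 3, 3, 4, 5, 2, 3, 2, 5, 5, 2, 3, 2, 5, 5, 4, 4, 3, 3, 4, 5, 2, 3, 2, 5, 5, 4, 3, 3, 4,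 5, 3, 3, 4, 5, 2, 3]) = true := by decide +kernel

theorem rot2_102 : T.rot 2 [5, 5, 3, 2, 5, 5, 2, 3, 3, 4, 5, 4, 3, 2, 5, 5, 2, 2, 3, 3, 4, 5, 4, 3, 3, 4, 5, 4, 3, 2, 5, 5, 3, 2, 5, 5, 2, 3, 3, 4, 5, 4, 3, 2, 5, 5, 2, 2, 3, 3, 4, 5, 4, 3, 3, 4, 5, 4, 3] (sel (ones 1755) ip2 102) = true := by decide +kernel

theorem rot2_102r : band (Rule.ok (2 * 1) EX RL ⟨2 :: [5, 5, 3, 2, 5, 5, 2, 3, 3, 4, 5, 4, 3, 2, 5, 5, 2, 2, 3, 3, 4, 5, 4, 3, 3, 4, 5, 4, 3, 2, 5, 5, 3, 2, 5, 5, 2, 3, 3, 4, 5, 4, 3, 2, 5, 5, 2, 2, 3, 3, 4, 5, 4, 3, 3, 4, 5, 4, 3], [5, 5, 2, 4, 2, 5], 6, false⟩) (lall (memL L) [5, 5, 3, 2, 5, 5, 2, 3, 3, 4, 5, 4, 3, 2, 5, 5, 2, 2, 3, 3, 4, 5, 4, 3, 3, 4, 5, 4, 3, 2, 5, 5, 3, 2, 5, 5, 2, 3, 3, 4, 5, 4, 3, 2, 5, 5, 2, 2, 3, 3, 4, 5, 4, 3,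 3, 4, 5, 4, 3]) = true := by decide +kernel

theorem rot2_103 : T.rot 2 [5, 5, 2, 3, 3, 4, 5, 4, 3, 2, 5, 5, 2, 2, 3, 3, 4, 5, 4, 3, 3, 4, 5, 4, 3, 2, 5, 5, 3, 2, 5, 5, 2, 3, 3, 4, 5, 4, 3, 2, 5, 5, 2, 2, 3, 3, 4, 5, 4, 3, 3, 4, 5, 4, 3, 2, 5, 5, 3] (sel (ones 1755) ip2 103) = true := by decide +kernel

theorem rot2_103r : band (Rule.ok (2 * 1) EX RL ⟨2 :: [5, 5, 2, 3, 3, 4, 5, 4, 3, 2, 5, 5, 2, 2, 3, 3, 4, 5, 4, 3, 3, 4, 5, 4, 3, 2, 5, 5, 3, 2, 5, 5, 2, 3, 3, 4, 5, 4, 3, 2, 5, 5, 2, 2, 3, 3, 4, 5, 4, 3, 3, 4, 5, 4, 3, 2, 5, 5, 3], [5, 5, 2, 4, 2, 5, 3, 4], 6, false⟩) (lall (memL L) [5, 5, 2, 3, 3, 4, 5, 4, 3, 2, 5, 5, 2, 2, 3, 3, 4, 5, 4, 3, 3, 4, 5, 4, 3, 2, 5, 5, 3, 2, 5, 5, 2, 3, 3, 4, 5, 4, 3, 2, 5, 5, 2, 2, 3, 3, 4, 5, 4, 3, 3, 4, 5, 4,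 3, 2, 5, 5, 3]) = true := by decide +kernel

theorem rot2_104 : T.rot 2 [3, 3, 4, 5, 4, 3, 2, 5, 5, 2, 2, 3, 3, 4, 5, 4, 3, 3, 4, 5, 4, 3, 2, 5, 5, 3, 2, 5, 5, 2, 3, 3, 4, 5, 4, 3, 2, 5, 5, 2, 2, 3, 3, 4, 5, 4, 3, 3, 4, 5, 4, 3, 2, 5, 5, 3, 2, 5, 5] (sel (ones 1755) ip2 104) = true := by decide +kernel

theorem rot2_104r : band (Rule.ok (2 * 1) EX RL ⟨2 :: [3, 3, 4, 5, 4, 3, 2, 5, 5, 2, 2, 3, 3, 4, 5, 4, 3, 3, 4, 5, 4, 3, 2, 5, 5, 3, 2, 5, 5, 2, 3, 3, 4, 5, 4, 3, 2, 5, 5, 2, 2, 3, 3, 4, 5, 4, 3, 3, 4, 5, 4, 3, 2, 5, 5, 3, 2, 5, 5], [5, 5, 2, 4, 2, 5, 3, 4, 3, 4, 4], 6, false⟩) (lall (memL L) [3, 3, 4, 5, 4, 3, 2, 5, 5, 2, 2, 3, 3, 4, 5, 4, 3, 3, 4, 5, 4, 3, 2, 5, 5, 3, 2, 5, 5, 2, 3, 3, 4, 5, 4, 3, 2, 5, 5, 2, 2, 3, 3, 4, 5, 4, 3, 3, 4, 5, 4,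 3, 2, 5, 5, 3, 2, 5, 5]) = true := by decide +kernel

theorem rot2_105 : T.rot 2 [3, 3, 4, 5, 4, 3, 3, 4, 5, 4, 3, 2, 5, 5, 3, 2, 5, 5, 2, 3, 3, 4, 5, 4, 3, 2, 5, 5, 2, 2, 3, 3, 4, 5, 4, 3, 3, 4, 5, 4, 3, 2, 5, 5, 3, 2, 5, 5, 2, 3, 3, 4, 5, 4, 3, 2, 5, 5, 2] (sel (ones 1755) ip2 105) = true := by decide +kernel

theorem rot2_105r : band (Rule.ok (2 * 1) EX RL ⟨2 :: [3, 3, 4, 5, 4, 3, 3, 4, 5, 4, 3, 2, 5, 5, 3, 2, 5, 5, 2, 3, 3, 4, 5, 4, 3, 2, 5, 5, 2, 2, 3, 3, 4, 5, 4, 3, 3, 4, 5, 4, 3, 2, 5, 5, 3, 2, 5, 5, 2, 3, 3, 4, 5, 4, 3, 2, 5, 5, 2], [3, 5, 3, 4, 4, 2], 6, false⟩) (lall (memL L) [3, 3, 4, 5, 4, 3, 3, 4, 5, 4, 3, 2, 5, 5, 3, 2, 5, 5, 2, 3, 3, 4, 5, 4, 3, 2, 5, 5, 2, 2, 3, 3, 4, 5, 4, 3, 3, 4, 5, 4, 3, 2, 5, 5, 3, 2, 5, 5, 2, 3, 3, 4, 5,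 4, 3, 2, 5, 5, 2]) = true := by decide +kernel

theorem cov2 : T.cover 2 [(sel (ones 1755) ip2 1), (sel (ones 1755) ip2 2), (sel (ones 1755) ip2 3), (sel (ones 1755) ip2 4), (sel (ones 1755) ip2 5), (sel (ones 1755) ip2 6), (sel (ones 1755) ip2 7), (sel (ones 1755) ip2 8), (sel (ones 1755) ip2 9), (sel (ones 1755) ip2 10), (sel (ones 1755) ip2 11), (sel (ones 1755) ip2 12), (sel (ones 1755) ip2 13), (sel (ones 1755) ip2 14), (sel (ones 1755) ip2 15), (sel (ones 1755) ip2 16), (sel (ones 1755) ip2 17), (sel (ones 1755) ip2 18), (sel (ones 1755) ip2 19), (sel (ones 1755) ip2 20), (sel (ones 1755) ip2 21), (sel (ones 1755) ip2 22), (sel (ones 1755) ip2 23), (sel (ones 1755) ip2 24), (sel (ones 1755) ip2 25), (sel (ones 1755) ip2 26), (sel (ones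 1755) ip2 27), (sel (ones 1755) ip2 28), (sel (ones 1755) ip2 29), (sel (ones 1755) ip2 30), (sel (ones 1755) ip2 31), (sel (ones 1755) ip2 32), (sel (ones 1755) ip2 33), (sel (ones 1755) ip2 34), (sel (ones 1755) ip2 35), (sel (ones 1755) ip2 36), (sel (ones 1755) ip2 37), (sel (ones 1755) ip2 38), (sel (ones 1755) ip2 39), (sel (ones 1755) ip2 40), (sel (ones 1755) ip2 41), (sel (ones 1755) ip2 42), (sel (ones 1755) ip2 43), (sel (ones 1755) ip2 44), (sel (ones 1755) ip2 45), (sel (ones 1755) ip2 46), (sel (ones 1755) ip2 47), (sel (ones 1755) ip2 48), (sel (ones 1755) ip2 49), (sel (ones 1755) ip2 50), (sel (ones 1755) ip2 51), (sel (ones 1755) ip2 52), (sel (ones 1755) ip2 53), (sel (ones 1755) ip2 54), (sel (ones 1755) ip2 55), (sel (ones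 1755) ip2 56), (sel (ones 1755) ip2 57), (sel (ones 1755) ip2 58), (sel (ones 1755) ip2 59), (sel (ones 1755) ip2 60), (sel (ones 1755) ip2 61), (sel (ones 1755) ip2 62), (sel (ones 1755) ip2 63), (sel (ones 1755) ip2 64), (sel (ones 1755) ip2 65), (sel (ones 1755) ip2 66), (sel (ones 1755) ip2 67), (sel (ones 1755) ip2 68), (sel (ones 1755) ip2 69), (sel (ones 1755) ip2 70), (sel (ones 1755) ip2 71), (sel (ones 1755) ip2 72), (sel (ones 1755) ip2 73), (sel (ones 1755) ip2 74), (sel (ones 1755) ip2 75), (sel (ones 1755) ip2 76), (sel (ones 1755) ip2 77), (sel (ones 1755) ip2 78), (sel (ones 1755) ip2 79), (sel (ones 1755) ip2 80), (sel (ones 1755) ip2 81), (sel (ones 1755) ip2 82), (sel (ones 1755) ip2 83), (sel (ones 1755) ip2 84), (sel (ones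 1755) ip2 85), (sel (ones 1755) ip2 86), (sel (ones 1755) ip2 87), (sel (ones 1755) ip2 88), (sel (ones 1755) ip2 89), (sel (ones 1755) ip2 90), (sel (ones 1755) ip2 91), (sel (ones 1755) ip2 92), (sel (ones 1755) ip2 93), (sel (ones 1755) ip2 94), (sel (ones 1755) ip2 95), (sel (ones 1755) ip2 96), (sel (ones 1755) ip2 97), (sel (ones 1755) ip2 98), (sel (ones 1755) ip2 99), (sel (ones 1755) ip2 100), (sel (ones 1755) ip2 101), (sel (ones 1755) ip2 102), (sel (ones 1755) ip2 103), (sel (ones 1755) ip2 104), (sel (ones 1755) ip2 105), 1] = true := by decide +kernel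

theorem tl2 : T.treeLt 11 2 = true := by decide +kernel

theorem rot3_1 : T.rot 3 [5] (sel (ones 1755) ip3 1) = true := by decide +kernel

theorem rot3_1r : band (Rule.ok (2 * 1) EX RL ⟨3 :: [5], [], 25, false⟩) (lall (memL L) [5]) = true := by decide +kernel

theorem rot3_2 : T.rot 3 [3, 3, 3, 3] (sel (ones 1755) ip3 2) = true := by decide +kernel

theorem rot3_2r : band (Rule.ok (2 * 1) EX RL ⟨3 :: [3, 3, 3, 3], [], 13, true⟩) (lall (memL L) [3, 3, 3, 3]) = true := by decide +kernel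

theorem rot3_3 : T.rot 3 [4, 3, 4, 3, 4, 3, 4] (sel (ones 1755) ip3 3) = true := by decide +kernel

theorem rot3_3r : band (Rule.ok (2 * 1) EX RL ⟨3 :: [4, 3, 4, 3, 4, 3, 4], [5], 10, true⟩) (lall (memL L) [4, 3, 4, 3, 4, 3, 4]) = true := by decide +kernel

theorem rot3_4 : T.rot 3 [2, 3, 2, 3, 2, 3, 2] (sel (ones 1755) ip3 4) = true := by decide +kernel

theorem rot3_4r : band (Rule.ok (2 * 1) EX RL ⟨3 :: [2, 3, 2, 3, 2, 3, 2], [], 16, true⟩) (lall (memL L) [2, 3, 2, 3, 2, 3, 2]) = true := by decide +kernel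

theorem rot3_5 : T.rot 3 [3, 2, 3, 4, 3, 3, 2, 3, 4] (sel (ones 1755) ip3 5) = true := by decide +kernel

theorem rot3_5r : band (Rule.ok (2 * 1) EX RL ⟨3 :: [3, 2, 3, 4, 3, 3, 2, 3, 4], [], 15, false⟩) (lall (memL L) [3, 2, 3, 4, 3, 3, 2, 3, 4]) = true := by decide +kernel

theorem rot3_6 : T.rot 3 [2, 3, 4, 3, 3, 2, 3, 4, 3] (sel (ones 1755) ip3 6) = true := by decide +kernel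

theorem rot3_6r : band (Rule.ok (2 * 1) EX RL ⟨3 :: [2, 3, 4, 3, 3, 2, 3, 4, 3], [5], 15, false⟩) (lall (memL L) [2, 3, 4, 3, 3, 2, 3, 4, 3]) = true := by decide +kernel

theorem rot3_7 : T.rot 3 [4, 3, 3, 2, 3, 4, 3, 3, 2] (sel (ones 1755) ip3 7) = true := by decide +kernel

theorem rot3_7r : band (Rule.ok (2 * 1) EX RL ⟨3 :: [4, 3, 3, 2, 3, 4, 3, 3, 2], [3, 4], 15, false⟩) (lall (memL L) [4, 3, 3, 2, 3, 4, 3, 3, 2]) = true := by decide +kernel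

theorem rot3_8 : T.rot 3 [4, 5, 2, 3, 2, 5, 5, 4, 3, 1, 2, 1] (sel (ones 1755) ip3 8) = true := by decide +kernel

theorem rot3_8r : band (Rule.ok (2 * 1) EX RL ⟨3 :: [4, 5, 2, 3, 2, 5, 5, 4, 3, 1, 2, 1], [0, 3, 0], 21, true⟩) (lall (memL L) [4, 5, 2, 3, 2, 5, 5, 4, 3, 1, 2, 1]) = true := by decide +kernel

theorem rot3_9 : T.rot 3 [2, 5, 5, 4, 3, 1, 2, 1, 3, 4, 5, 2] (sel (ones 1755) ip3 9) = true := by decide +kernel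

theorem rot3_9r : band (Rule.ok (2 * 1) EX RL ⟨3 :: [2, 5, 5, 4, 3, 1, 2, 1, 3, 4, 5, 2], [4, 3, 5, 5, 2, 4], 21, true⟩) (lall (memL L) [2, 5, 5, 4, 3, 1, 2, 1, 3, 4, 5, 2]) = true := by decide +kernel

theorem rot3_10 : T.rot 3 [1, 2, 1, 3, 4, 5, 2, 3, 2, 5, 5, 4] (sel (ones 1755) ip3 10) = true := by decide +kernel

theorem rot3_10r : band (Rule.ok (2 * 1) EX RL ⟨3 :: [1, 2, 1, 3, 4, 5, 2, 3, 2, 5, 5, 4], [4], 21, true⟩) (lall (memL L) [1, 2, 1, 3, 4, 5, 2, 3, 2, 5, 5, 4]) = true := by decide +kernel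

theorem rot3_11 : T.rot 3 [3, 4, 5, 4, 3, 2, 5, 1, 4, 1, 5, 2] (sel (ones 1755) ip3 11) = true := by decide +kernel

theorem rot3_11r : band (Rule.ok (2 * 1) EX RL ⟨3 :: [3, 4, 5, 4, 3, 2, 5, 1, 4, 1, 5, 2], [4, 3], 21, false⟩) (lall (memL L) [3, 4, 5, 4, 3, 2, 5, 1, 4, 1, 5, 2]) = true := by decide +kernel

theorem rot3_12 : T.rot 3 [4, 5, 4, 3, 2, 5, 1, 4, 1, 5, 2, 3] (sel (ones 1755) ip3 12) = true := by decide +kernel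

theorem rot3_12r : band (Rule.ok (2 * 1) EX RL ⟨3 :: [4, 5, 4, 3, 2, 5, 1, 4, 1, 5, 2, 3], [4, 3, 5], 21, false⟩) (lall (memL L) [4, 5, 4, 3, 2, 5, 1, 4, 1, 5, 2, 3]) = true := by decide +kernel

theorem rot3_13 : T.rot 3 [2, 5, 1, 4, 1, 5, 2, 3, 3, 4, 5, 4] (sel (ones 1755) ip3 13) = true := by decide +kernel

theorem rot3_13r : band (Rule.ok (2 * 1) EX RL ⟨3 :: [2, 5, 1, 4, 1, 5, 2, 3, 3, 4, 5, 4], [0, 3, 0, 5, 2, 4], 21, false⟩) (lall (memL L) [2, 5, 1, 4, 1, 5, 2, 3, 3, 4, 5, 4]) = true := by decide +kernel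

theorem rot3_14 : T.rot 3 [3, 3, 4, 5, 4, 4, 3, 3, 4, 5, 3, 4, 5, 2] (sel (ones 1755) ip3 14) = true := by decide +kernel

theorem rot3_14r : band (Rule.ok (2 * 1) EX RL ⟨3 :: [3, 3, 4, 5, 4, 4, 3, 3, 4, 5, 3, 4, 5, 2], [5, 2, 4, 3], 11, true⟩) (lall (memL L) [3, 3, 4, 5, 4, 4, 3, 3, 4, 5, 3, 4, 5, 2]) = true := by decide +kernel

theorem rot3_15 : T.rot 3 [3, 4, 5, 4, 4, 3, 3, 4, 5, 3, 4, 5, 2, 3] (sel (ones 1755) ip3 15) = true := by decide +kernel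

theorem rot3_15r : band (Rule.ok (2 * 1) EX RL ⟨3 :: [3, 4, 5, 4, 4, 3, 3, 4, 5, 3, 4, 5, 2, 3], [5, 2, 4, 3, 5], 11, true⟩) (lall (memL L) [3, 4, 5, 4, 4, 3, 3, 4, 5, 3, 4, 5, 2, 3]) = true := by decide +kernel

theorem rot3_16 : T.rot 3 [4, 5, 4, 4, 3, 3, 4, 5, 3, 4, 5, 2, 3, 3] (sel (ones 1755) ip3 16) = true := by decide +kernel

theorem rot3_16r : band (Rule.ok (2 * 1) EX RL ⟨3 :: [4, 5, 4, 4, 3, 3, 4, 5, 3, 4, 5, 2, 3, 3], [5, 2, 4, 3, 5, 5], 11, true⟩) (lall (memL L) [4, 5, 4, 4, 3, 3, 4, 5, 3, 4, 5, 2, 3, 3]) = true := by decide +kernel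

theorem rot3_17 : T.rot 3 [3, 4, 5, 3, 4, 5, 2, 3, 3, 3, 4, 5, 4, 4] (sel (ones 1755) ip3 17) = true := by decide +kernel

theorem rot3_17r : band (Rule.ok (2 * 1) EX RL ⟨3 :: [3, 4, 5, 3, 4, 5, 2, 3, 3, 3, 4, 5, 4, 4], [5, 3, 4, 4], 11, true⟩) (lall (memL L) [3, 4, 5, 3, 4, 5, 2, 3, 3, 3, 4, 5, 4, 4]) = true := by decide +kernel

theorem rot3_18 : T.rot 3 [4, 5, 3, 4, 5, 2, 3, 3, 3, 4, 5, 4, 4, 3] (sel (ones 1755) ip3 18) = true := by decide +kernel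

theorem rot3_18r : band (Rule.ok (2 * 1) EX RL ⟨3 :: [4, 5, 3, 4, 5, 2, 3, 3, 3, 4, 5, 4, 4, 3], [5, 3, 4], 11, true⟩) (lall (memL L) [4, 5, 3, 4, 5, 2, 3, 3, 3, 4, 5, 4, 4, 3]) = true := by decide +kernel

theorem rot3_19 : T.rot 3 [2, 5, 5, 5, 4, 3, 2, 5, 3, 2, 5, 5, 2, 2] (sel (ones 1755) ip3 19) = true := by decide +kernel

theorem rot3_19r : band (Rule.ok (2 * 1) EX RL ⟨3 :: [2, 5, 5, 5, 4, 3, 2, 5, 3, 2, 5, 5, 2, 2], [5, 3, 4, 4, 3, 3], 11, false⟩) (lall (memL L) [2, 5, 5, 5, 4, 3, 2, 5, 3, 2, 5, 5, 2, 2]) = true := by decide +kernel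

theorem rot3_20 : T.rot 3 [2, 5, 3, 2, 5, 5, 2, 2, 3, 2, 5, 5, 5, 4] (sel (ones 1755) ip3 20) = true := by decide +kernel

theorem rot3_20r : band (Rule.ok (2 * 1) EX RL ⟨3 :: [2, 5, 3, 2, 5, 5, 2, 2, 3, 2, 5, 5, 5, 4], [5, 2, 4], 11, false⟩) (lall (memL L) [2, 5, 3, 2, 5, 5, 2, 2, 3, 2, 5, 5, 5, 4]) = true := by decide +kernel

theorem rot3_21 : T.rot 3 [4, 5, 3, 3, 4, 5, 3, 3, 4, 5, 3, 3, 4, 5, 3] (sel (ones 1755) ip3 21) = true := by decide +kernel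

theorem rot3_21r : band (Rule.ok (2 * 1) EX RL ⟨3 :: [4, 5, 3, 3, 4, 5, 3, 3, 4, 5, 3, 3, 4, 5, 3], [5], 10, true⟩) (lall (memL L) [4, 5, 3, 3, 4, 5, 3, 3, 4, 5, 3, 3, 4, 5, 3]) = true := by decide +kernel

theorem rot3_22 : T.rot 3 [1, 5, 5, 4, 3, 3, 2, 5, 5, 1, 5, 1, 2, 2, 1] (sel (ones 1755) ip3 22) = true := by decide +kernel

theorem rot3_22r : band (Rule.ok (2 * 1) EX RL ⟨3 :: [1, 5, 5, 4, 3, 3, 2, 5, 5, 1, 5, 1, 2, 2, 1], [0, 4, 0, 3, 3, 0], 19, true⟩) (lall (memL L) [1, 5, 5, 4, 3, 3, 2, 5, 5, 1, 5, 1, 2, 2, 1]) = true := by decide +kernel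

theorem rot3_23 : T.rot 3 [3, 2, 5, 5, 1, 5, 1, 2, 2, 1, 3, 1, 5, 5, 4] (sel (ones 1755) ip3 23) = true := by decide +kernel

theorem rot3_23r : band (Rule.ok (2 * 1) EX RL ⟨3 :: [3, 2, 5, 5, 1, 5, 1, 2, 2, 1, 3, 1, 5, 5, 4], [5, 5, 2, 4, 4], 19, true⟩) (lall (memL L) [3, 2, 5, 5, 1, 5, 1, 2, 2, 1, 3, 1, 5, 5, 4]) = true := by decide +kernel

theorem rot3_24 : T.rot 3 [2, 5, 5, 1, 5, 1, 2, 2, 1, 3, 1, 5, 5, 4, 3] (sel (ones 1755) ip3 24) = true := by decide +kernel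

theorem rot3_24r : band (Rule.ok (2 * 1) EX RL ⟨3 :: [2, 5, 5, 1, 5, 1, 2, 2, 1, 3, 1, 5, 5, 4, 3], [5, 5, 2, 4], 19, true⟩) (lall (memL L) [2, 5, 5, 1, 5, 1, 2, 2, 1, 3, 1, 5, 5, 4, 3]) = true := by decide +kernel

theorem rot3_25 : T.rot 3 [3, 4, 5, 5, 2, 3, 3, 1, 5, 1, 4, 4, 1, 3, 1] (sel (ones 1755) ip3 25) = true := by decide +kernel

theorem rot3_25r : band (Rule.ok (2 * 1) EX RL ⟨3 :: [3, 4, 5, 5, 2, 3, 3, 1, 5, 1, 4, 4, 1, 3, 1], [], 19, false⟩) (lall (memL L) [3, 4, 5, 5, 2, 3, 3, 1, 5, 1, 4, 4, 1, 3, 1]) = true := by decide +kernel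

theorem rot3_26 : T.rot 3 [4, 5, 5, 2, 3, 3, 1, 5, 1, 4, 4, 1, 3, 1, 3] (sel (ones 1755) ip3 26) = true := by decide +kernel

theorem rot3_26r : band (Rule.ok (2 * 1) EX RL ⟨3 :: [4, 5, 5, 2, 3, 3, 1, 5, 1, 4, 4, 1, 3, 1, 3], [5], 19, false⟩) (lall (memL L) [4, 5, 5, 2, 3, 3, 1, 5, 1, 4, 4, 1, 3, 1, 3]) = true := by decide +kernel

theorem rot3_27 : T.rot 3 [3, 1, 5, 1, 4, 4, 1, 3, 1, 3, 3, 4, 5, 5, 2] (sel (ones 1755) ip3 27) = true := by decide +kernel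

theorem rot3_27r : band (Rule.ok (2 * 1) EX RL ⟨3 :: [3, 1, 5, 1, 4, 4, 1, 3, 1, 3, 3, 4, 5, 5, 2], [5, 5, 2, 4, 4, 3], 19, false⟩) (lall (memL L) [3, 1, 5, 1, 4, 4, 1, 3, 1, 3, 3, 4, 5, 5, 2]) = true := by decide +kernel

theorem rot3_28 : T.rot 3 [1, 5, 1, 4, 4, 1, 3, 1, 3, 3, 4, 5, 5, 2, 3] (sel (ones 1755) ip3 28) = true := by decide +kernel

theorem rot3_28r : band (Rule.ok (2 * 1) EX RL ⟨3 :: [1, 5, 1, 4, 4, 1, 3, 1, 3, 3, 4, 5, 5, 2, 3], [5, 5, 2, 4, 4, 3, 5], 19, false⟩) (lall (memL L) [1, 5, 1, 4, 4, 1, 3, 1, 3, 3, 4, 5, 5, 2, 3]) = true := by decide +kernel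

theorem rot3_29 : T.rot 3 [1, 3, 3, 4, 5, 5, 2, 3, 3, 1, 5, 1, 4, 4, 1] (sel (ones 1755) ip3 29) = true := by decide +kernel

theorem rot3_29r : band (Rule.ok (2 * 1) EX RL ⟨3 :: [1, 3, 3, 4, 5, 5, 2, 3, 3, 1, 5, 1, 4, 4, 1], [0, 4], 19, false⟩) (lall (memL L) [1, 3, 3, 4, 5, 5, 2, 3, 3, 1, 5, 1, 4, 4, 1]) = true := by decide +kernel

theorem rot3_30 : T.rot 3 [2, 5, 5, 1, 5, 5, 4, 5, 5, 4, 3, 3, 4, 3, 1] (sel (ones 1755) ip3 30) = true := by decide +kernel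

theorem rot3_30r : band (Rule.ok (2 * 1) EX RL ⟨3 :: [2, 5, 5, 1, 5, 5, 4, 5, 5, 4, 3, 3, 4, 3, 1], [0], 22, true⟩) (lall (memL L) [2, 5, 5, 1, 5, 5, 4, 5, 5, 4, 3, 3, 4, 3, 1]) = true := by decide +kernel

theorem rot3_31 : T.rot 3 [3, 4, 3, 1, 3, 2, 5, 5, 1, 5, 5, 4, 5, 5, 4] (sel (ones 1755) ip3 31) = true := by decide +kernel

theorem rot3_31r : band (Rule.ok (2 * 1) EX RL ⟨3 :: [3, 4, 3, 1, 3, 2, 5, 5, 1, 5, 5, 4, 5, 5, 4], [4, 3, 4, 4], 22, true⟩) (lall (memL L) [3, 4, 3, 1, 3, 2, 5, 5, 1, 5, 5, 4, 5, 5, 4]) = true := by decide +kernel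

theorem rot3_32 : T.rot 3 [4, 3, 1, 3, 2, 5, 5, 1, 5, 5, 4, 5, 5, 4, 3] (sel (ones 1755) ip3 32) = true := by decide +kernel

theorem rot3_32r : band (Rule.ok (2 * 1) EX RL ⟨3 :: [4, 3, 1, 3, 2, 5, 5, 1, 5, 5, 4, 5, 5, 4, 3], [4, 3, 4], 22, true⟩) (lall (memL L) [4, 3, 1, 3, 2, 5, 5, 1, 5, 5, 4, 5, 5, 4, 3]) = true := by decide +kernel

theorem rot3_33 : T.rot 3 [1, 3, 2, 5, 5, 1, 5, 5, 4, 5, 5, 4, 3, 3, 4] (sel (ones 1755) ip3 33) = true := by decide +kernel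

theorem rot3_33r : band (Rule.ok (2 * 1) EX RL ⟨3 :: [1, 3, 2, 5, 5, 1, 5, 5, 4, 5, 5, 4, 3, 3, 4], [4], 22, true⟩) (lall (memL L) [1, 3, 2, 5, 5, 1, 5, 5, 4, 5, 5, 4, 3, 3, 4]) = true := by decide +kernel

theorem rot3_34 : T.rot 3 [3, 2, 3, 3, 1, 3, 3, 4, 5, 1, 5, 2, 5, 5, 2] (sel (ones 1755) ip3 34) = true := by decide +kernel

theorem rot3_34r : band (Rule.ok (2 * 1) EX RL ⟨3 :: [3, 2, 3, 3, 1, 3, 3, 4, 5, 1, 5, 2, 5, 5, 2], [4, 3, 4, 4, 3], 22, false⟩) (lall (memL L) [3, 2, 3, 3, 1, 3, 3, 4, 5, 1, 5, 2, 5, 5, 2]) = true := by decide +kernel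

theorem rot3_35 : T.rot 3 [2, 3, 3, 1, 3, 3, 4, 5, 1, 5, 2, 5, 5, 2, 3] (sel (ones 1755) ip3 35) = true := by decide +kernel

theorem rot3_35r : band (Rule.ok (2 * 1) EX RL ⟨3 :: [2, 3, 3, 1, 3, 3, 4, 5, 1, 5, 2, 5, 5, 2, 3], [4, 3, 4, 4, 3, 5], 22, false⟩) (lall (memL L) [2, 3, 3, 1, 3, 3, 4, 5, 1, 5, 2, 5, 5, 2, 3]) = true := by decide +kernel

theorem rot3_36 : T.rot 3 [3, 1, 3, 3, 4, 5, 1, 5, 2, 5, 5, 2, 3, 3, 2] (sel (ones 1755) ip3 36) = true := by decide +kernel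

theorem rot3_36r : band (Rule.ok (2 * 1) EX RL ⟨3 :: [3, 1, 3, 3, 4, 5, 1, 5, 2, 5, 5, 2, 3, 3, 2], [0, 5, 3, 4, 4, 0, 4, 4], 22, false⟩) (lall (memL L) [3, 1, 3, 3, 4, 5, 1, 5, 2, 5, 5, 2, 3, 3, 2]) = true := by decide +kernel

theorem rot3_37 : T.rot 3 [1, 3, 3, 4, 5, 1, 5, 2, 5, 5, 2, 3, 3, 2, 3] (sel (ones 1755) ip3 37) = true := by decide +kernel

theorem rot3_37r : band (Rule.ok (2 * 1) EX RL ⟨3 :: [1, 3, 3, 4, 5, 1, 5, 2, 5, 5, 2, 3, 3, 2, 3], [0, 5, 3, 4, 4, 0, 4], 22, false⟩) (lall (memL L) [1, 3, 3, 4, 5, 1, 5, 2, 5, 5, 2, 3, 3, 2, 3]) = true := by decide +kernel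

theorem rot3_38 : T.rot 3 [3, 4, 5, 1, 5, 2, 5, 5, 2, 3, 3, 2, 3, 3, 1] (sel (ones 1755) ip3 38) = true := by decide +kernel

theorem rot3_38r : band (Rule.ok (2 * 1) EX RL ⟨3 :: [3, 4, 5, 1, 5, 2, 5, 5, 2, 3, 3, 2, 3, 3, 1], [0, 5, 3, 4, 4], 22, false⟩) (lall (memL L) [3, 4, 5, 1, 5, 2, 5, 5, 2, 3, 3, 2, 3, 3, 1]) = true := by decide +kernel

theorem rot3_39 : T.rot 3 [4, 5, 1, 5, 2, 5, 5, 2, 3, 3, 2, 3, 3, 1, 3] (sel (ones 1755) ip3 39) = true := by decide +kernel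

theorem rot3_39r : band (Rule.ok (2 * 1) EX RL ⟨3 :: [4, 5, 1, 5, 2, 5, 5, 2, 3, 3, 2, 3, 3, 1, 3], [0, 5, 3, 4], 22, false⟩) (lall (memL L) [4, 5, 1, 5, 2, 5, 5, 2, 3, 3, 2, 3, 3, 1, 3]) = true := by decide +kernel

theorem rot3_40 : T.rot 3 [1, 3, 1, 3, 1, 3, 1, 3, 1, 3, 1, 3, 1, 3, 1] (sel (ones 1755) ip3 40) = true := by decide +kernel

theorem rot3_40r : band (Rule.ok (2 * 1) EX RL ⟨3 :: [1, 3, 1, 3, 1, 3, 1, 3, 1, 3, 1, 3, 1, 3, 1], [4], 23, true⟩) (lall (memL L) [1, 3, 1, 3, 1, 3, 1, 3, 1, 3, 1, 3, 1, 3, 1]) = true := by decide +kernel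

theorem rot3_41 : T.rot 3 [2, 2, 5, 2, 5, 3, 3, 4, 5, 4, 4, 3, 2, 5, 5, 4] (sel (ones 1755) ip3 41) = true := by decide +kernel

theorem rot3_41r : band (Rule.ok (2 * 1) EX RL ⟨3 :: [2, 2, 5, 2, 5, 3, 3, 4, 5, 4, 4, 3, 2, 5, 5, 4], [], 12, true⟩) (lall (memL L) [2, 2, 5, 2, 5, 3, 3, 4, 5, 4, 4, 3, 2, 5, 5, 4]) = true := by decide +kernel

theorem rot3_42 : T.rot 3 [4, 5, 4, 4, 3, 2, 5, 5, 4, 3, 2, 2, 5, 2, 5, 3] (sel (ones 1755) ip3 42) = true := by decide +kernel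

theorem rot3_42r : band (Rule.ok (2 * 1) EX RL ⟨3 :: [4, 5, 4, 4, 3, 2, 5, 5, 4, 3, 2, 2, 5, 2, 5, 3], [5, 3, 3, 4, 3], 12, true⟩) (lall (memL L) [4, 5, 4, 4, 3, 2, 5, 5, 4, 3, 2, 2, 5, 2, 5, 3]) = true := by decide +kernel

theorem rot3_43 : T.rot 3 [2, 5, 5, 4, 3, 2, 2, 5, 2, 5, 3, 3, 4, 5, 4, 4] (sel (ones 1755) ip3 43) = true := by decide +kernel

theorem rot3_43r : band (Rule.ok (2 * 1) EX RL ⟨3 :: [2, 5, 5, 4, 3, 2, 2, 5, 2, 5, 3, 3, 4, 5, 4, 4], [3, 5, 5, 2, 4], 12, true⟩) (lall (memL L) [2, 5, 5, 4, 3, 2, 2, 5, 2, 5, 3, 3, 4, 5, 4, 4]) = true := by decide +kernel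

theorem rot3_44 : T.rot 3 [4, 5, 2, 2, 3, 2, 5, 5, 3, 4, 3, 4, 4, 5, 2, 3] (sel (ones 1755) ip3 44) = true := by decide +kernel

theorem rot3_44r : band (Rule.ok (2 * 1) EX RL ⟨3 :: [4, 5, 2, 2, 3, 2, 5, 5, 3, 4, 3, 4, 4, 5, 2, 3], [3, 5], 12, false⟩) (lall (memL L) [4, 5, 2, 2, 3, 2, 5, 5, 3, 4, 3, 4, 4, 5, 2, 3]) = true := by decide +kernel

theorem rot3_45 : T.rot 3 [2, 5, 5, 3, 4, 3, 4, 4, 5, 2, 3, 3, 4, 5, 2, 2] (sel (ones 1755) ip3 45) = true := by decide +kernel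

theorem rot3_45r : band (Rule.ok (2 * 1) EX RL ⟨3 :: [2, 5, 5, 3, 4, 3, 4, 4, 5, 2, 3, 3, 4, 5, 2, 2], [3, 5, 5, 2, 4, 3, 3], 12, false⟩) (lall (memL L) [2, 5, 5, 3, 4, 3, 4, 4, 5, 2, 3, 3, 4, 5, 2, 2]) = true := by decide +kernel

theorem rot3_46 : T.rot 3 [4, 4, 5, 2, 3, 3, 4, 5, 2, 2, 3, 2, 5, 5, 3, 4] (sel (ones 1755) ip3 46) = true := by decide +kernel

theorem rot3_46r : band (Rule.ok (2 * 1) EX RL ⟨3 :: [4, 4, 5, 2, 3, 3, 4, 5, 2, 2, 3, 2, 5, 5, 3, 4], [5, 3, 3, 4], 12, false⟩) (lall (memL L) [4, 4, 5, 2, 3, 3, 4, 5, 2, 2, 3, 2, 5, 5, 3, 4]) = true := by decide +kernel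

theorem rot3_47 : T.rot 3 [4, 3, 4, 4, 5, 1, 3, 1, 5, 2, 5, 4, 5, 1, 5, 1, 2] (sel (ones 1755) ip3 47) = true := by decide +kernel

theorem rot3_47r : band (Rule.ok (2 * 1) EX RL ⟨3 :: [4, 3, 4, 4, 5, 1, 3, 1, 5, 2, 5, 4, 5, 1, 5, 1, 2], [0, 4, 0, 3], 17, true⟩) (lall (memL L) [4, 3, 4, 4, 5, 1, 3, 1, 5, 2, 5, 4, 5, 1, 5, 1, 2]) = true := by decide +kernel

theorem rot3_48 : T.rot 3 [4, 4, 5, 1, 3, 1, 5, 2, 5, 4, 5, 1, 5, 1, 2, 3, 4] (sel (ones 1755) ip3 48) = true := by decide +kernel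

theorem rot3_48r : band (Rule.ok (2 * 1) EX RL ⟨3 :: [4, 4, 5, 1, 3, 1, 5, 2, 5, 4, 5, 1, 5, 1, 2, 3, 4], [0, 4, 0, 3, 5, 2], 17, true⟩) (lall (memL L) [4, 4, 5, 1, 3, 1, 5, 2, 5, 4, 5, 1, 5, 1, 2, 3, 4]) = true := by decide +kernel

theorem rot3_49 : T.rot 3 [1, 5, 2, 5, 4, 5, 1, 5, 1, 2, 3, 4, 3, 4, 4, 5, 1] (sel (ones 1755) ip3 49) = true := by decide +kernel

theorem rot3_49r : band (Rule.ok (2 * 1) EX RL ⟨3 :: [1, 5, 2, 5, 4, 5, 1, 5, 1, 2, 3, 4, 3, 4, 4, 5, 1], [5, 3, 5, 2, 5, 0, 4], 17, true⟩) (lall (memL L) [1, 5, 2, 5, 4, 5, 1, 5, 1, 2, 3, 4, 3, 4, 4, 5, 1]) = true := by decide +kernel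

theorem rot3_50 : T.rot 3 [2, 3, 4, 3, 1, 5, 1, 3, 2, 2, 5, 2, 5, 4, 1, 3, 1] (sel (ones 1755) ip3 50) = true := by decide +kernel

theorem rot3_50r : band (Rule.ok (2 * 1) EX RL ⟨3 :: [2, 3, 4, 3, 1, 5, 1, 3, 2, 2, 5, 2, 5, 4, 1, 3, 1], [], 17, false⟩) (lall (memL L) [2, 3, 4, 3, 1, 5, 1, 3, 2, 2, 5, 2, 5, 4, 1, 3, 1]) = true := by decide +kernel

theorem rot3_51 : T.rot 3 [4, 3, 1, 5, 1, 3, 2, 2, 5, 2, 5, 4, 1, 3, 1, 3, 2] (sel (ones 1755) ip3 51) = true := by decide +kernel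

theorem rot3_51r : band (Rule.ok (2 * 1) EX RL ⟨3 :: [4, 3, 1, 5, 1, 3, 2, 2, 5, 2, 5, 4, 1, 3, 1, 3, 2], [5, 3], 17, false⟩) (lall (memL L) [4, 3, 1, 5, 1, 3, 2, 2, 5, 2, 5, 4, 1, 3, 1, 3, 2]) = true := by decide +kernel

theorem rot3_52 : T.rot 3 [1, 5, 1, 3, 2, 2, 5, 2, 5, 4, 1, 3, 1, 3, 2, 3, 4] (sel (ones 1755) ip3 52) = true := by decide +kernel

theorem rot3_52r : band (Rule.ok (2 * 1) EX RL ⟨3 :: [1, 5, 1, 3, 2, 2, 5, 2, 5, 4, 1, 3, 1, 3, 2, 3, 4], [5, 3, 5, 2], 17, false⟩) (lall (memL L) [1, 5, 1, 3, 2, 2, 5, 2, 5, 4, 1, 3, 1, 3, 2, 3, 4]) = true := by decide +kernel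

theorem rot3_53 : T.rot 3 [2, 2, 5, 2, 5, 4, 1, 3, 1, 3, 2, 3, 4, 3, 1, 5, 1] (sel (ones 1755) ip3 53) = true := by decide +kernel

theorem rot3_53r : band (Rule.ok (2 * 1) EX RL ⟨3 :: [2, 2, 5, 2, 5, 4, 1, 3, 1, 3, 2, 3, 4, 3, 1, 5, 1], [5, 3, 5, 2, 5, 0, 4, 0], 17, false⟩) (lall (memL L) [2, 2, 5, 2, 5, 4, 1, 3, 1, 3, 2, 3, 4, 3, 1, 5, 1]) = true := by decide +kernel

theorem rot3_54 : T.rot 3 [1, 3, 2, 3, 4, 3, 1, 5, 1, 3, 2, 2, 5, 2, 5, 4, 1] (sel (ones 1755) ip3 54) = true := by decide +kernel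

theorem rot3_54r : band (Rule.ok (2 * 1) EX RL ⟨3 :: [1, 3, 2, 3, 4, 3, 1, 5, 1, 3, 2, 2, 5, 2, 5, 4, 1], [0, 4], 17, false⟩) (lall (memL L) [1, 3, 2, 3, 4, 3, 1, 5, 1, 3, 2, 2, 5, 2, 5, 4, 1]) = true := by decide +kernel

theorem rot3_55 : T.rot 3 [1, 2, 1, 5, 1, 4, 4, 3, 3, 2, 5, 4, 4, 5, 5, 4, 1] (sel (ones 1755) ip3 55) = true := by decide +kernel

theorem rot3_55r : band (Rule.ok (2 * 1) EX RL ⟨3 :: [1, 2, 1, 5, 1, 4, 4, 3, 3, 2, 5, 4, 4, 5, 5, 4, 1], [0], 18, true⟩) (lall (memL L) [1, 2, 1, 5, 1, 4, 4, 3, 3, 2, 5, 4, 4, 5, 5, 4, 1]) = true := by decide +kernel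

theorem rot3_56 : T.rot 3 [3, 2, 5, 4, 4, 5, 5, 4, 1, 3, 1, 2, 1, 5, 1, 4, 4] (sel (ones 1755) ip3 56) = true := by decide +kernel

theorem rot3_56r : band (Rule.ok (2 * 1) EX RL ⟨3 :: [3, 2, 5, 4, 4, 5, 5, 4, 1, 3, 1, 2, 1, 5, 1, 4, 4], [3, 5, 5, 3, 3, 5, 2, 4, 4], 18, true⟩) (lall (memL L) [3, 2, 5, 4, 4, 5, 5, 4, 1, 3, 1, 2, 1, 5, 1, 4, 4]) = true := by decide +kernel

theorem rot3_57 : T.rot 3 [2, 5, 4, 4, 5, 5, 4, 1, 3, 1, 2, 1, 5, 1, 4, 4, 3] (sel (ones 1755) ip3 57) = true := by decide +kernel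

theorem rot3_57r : band (Rule.ok (2 * 1) EX RL ⟨3 :: [2, 5, 4, 4, 5, 5, 4, 1, 3, 1, 2, 1, 5, 1, 4, 4, 3], [3, 5, 5, 3, 3, 5, 2, 4], 18, true⟩) (lall (memL L) [2, 5, 4, 4, 5, 5, 4, 1, 3, 1, 2, 1, 5, 1, 4, 4, 3]) = true := by decide +kernel

theorem rot3_58 : T.rot 3 [3, 2, 2, 3, 4, 5, 5, 2, 2, 1, 3, 1, 4, 1, 5, 1, 2] (sel (ones 1755) ip3 58) = true := by decide +kernel

theorem rot3_58r : band (Rule.ok (2 * 1) EX RL ⟨3 :: [3, 2, 2, 3, 4, 5, 5, 2, 2, 1, 3, 1, 4, 1, 5, 1, 2], [3], 18, false⟩) (lall (memL L) [3, 2, 2, 3, 4, 5, 5, 2, 2, 1, 3, 1, 4, 1, 5, 1, 2]) = true := by decide +kernel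

theorem rot3_59 : T.rot 3 [2, 2, 3, 4, 5, 5, 2, 2, 1, 3, 1, 4, 1, 5, 1, 2, 3] (sel (ones 1755) ip3 59) = true := by decide +kernel

theorem rot3_59r : band (Rule.ok (2 * 1) EX RL ⟨3 :: [2, 2, 3, 4, 5, 5, 2, 2, 1, 3, 1, 4, 1, 5, 1, 2, 3], [3, 5], 18, false⟩) (lall (memL L) [2, 2, 3, 4, 5, 5, 2, 2, 1, 3, 1, 4, 1, 5, 1, 2, 3]) = true := by decide +kernel

theorem rot3_60 : T.rot 3 [4, 5, 5, 2, 2, 1, 3, 1, 4, 1, 5, 1, 2, 3, 3, 2, 2] (sel (ones 1755) ip3 60) = true := by decide +kernel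

theorem rot3_60r : band (Rule.ok (2 * 1) EX RL ⟨3 :: [4, 5, 5, 2, 2, 1, 3, 1, 4, 1, 5, 1, 2, 3, 3, 2, 2], [3, 5, 5, 3, 3], 18, false⟩) (lall (memL L) [4, 5, 5, 2, 2, 1, 3, 1, 4, 1, 5, 1, 2, 3, 3, 2, 2]) = true := by decide +kernel

theorem rot3_61 : T.rot 3 [1, 4, 1, 5, 1, 2, 3, 3, 2, 2, 3, 4, 5, 5, 2, 2, 1] (sel (ones 1755) ip3 61) = true := by decide +kernel

theorem rot3_61r : band (Rule.ok (2 * 1) EX RL ⟨3 :: [1, 4, 1, 5, 1, 2, 3, 3, 2, 2, 3, 4, 5, 5, 2, 2, 1], [0, 5, 0, 3, 0, 4], 18, false⟩) (lall (memL L) [1, 4, 1, 5, 1, 2, 3, 3, 2, 2, 3, 4, 5, 5, 2, 2, 1]) = true := by decide +kernel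

theorem rot3_62 : T.rot 3 [1, 5, 1, 3, 2, 3, 4, 3, 1, 3, 1, 5, 1, 5, 2, 5, 4, 5, 1] (sel (ones 1755) ip3 62) = true := by decide +kernel

theorem rot3_62r : band (Rule.ok (2 * 1) EX RL ⟨3 :: [1, 5, 1, 3, 2, 3, 4, 3, 1, 3, 1, 5, 1, 5, 2, 5, 4, 5, 1], [0], 20, true⟩) (lall (memL L) [1, 5, 1, 3, 2, 3, 4, 3, 1, 3, 1, 5, 1, 5, 2, 5, 4, 5, 1]) = true := by decide +kernel

theorem rot3_63 : T.rot 3 [2, 3, 4, 3, 1, 3, 1, 5, 1, 5, 2, 5, 4, 5, 1, 3, 1, 5, 1] (sel (ones 1755) ip3 63) = true := by decide +kernel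

theorem rot3_63r : band (Rule.ok (2 * 1) EX RL ⟨3 :: [2, 3, 4, 3, 1, 3, 1, 5, 1, 5, 2, 5, 4, 5, 1, 3, 1, 5, 1], [], 20, false⟩) (lall (memL L) [2, 3, 4, 3, 1, 3, 1, 5, 1, 5, 2, 5, 4, 5, 1, 3, 1, 5, 1]) = true := by decide +kernel

theorem rot3_64 : T.rot 3 [4, 3, 1, 3, 1, 5, 1, 5, 2, 5, 4, 5, 1, 3, 1, 5, 1, 3, 2] (sel (ones 1755) ip3 64) = true := by decide +kernel

theorem rot3_64r : band (Rule.ok (2 * 1) EX RL ⟨3 :: [4, 3, 1, 3, 1, 5, 1, 5, 2, 5, 4, 5, 1, 3, 1, 5, 1, 3, 2], [5, 3], 20, false⟩) (lall (memL L) [4, 3, 1, 3, 1, 5, 1, 5, 2, 5, 4, 5, 1, 3, 1, 5, 1, 3, 2]) = true := by decide +kernel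

theorem rot3_65 : T.rot 3 [1, 3, 1, 5, 1, 5, 2, 5, 4, 5, 1, 3, 1, 5, 1, 3, 2, 3, 4] (sel (ones 1755) ip3 65) = true := by decide +kernel

theorem rot3_65r : band (Rule.ok (2 * 1) EX RL ⟨3 :: [1, 3, 1, 5, 1, 5, 2, 5, 4, 5, 1, 3, 1, 5, 1, 3, 2, 3, 4], [5, 3, 5, 2], 20, false⟩) (lall (memL L) [1, 3, 1, 5, 1, 5, 2, 5, 4, 5, 1, 3, 1, 5, 1, 3, 2, 3, 4]) = true := by decide +kernel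

theorem rot3_66 : T.rot 3 [1, 5, 1, 5, 2, 5, 4, 5, 1, 3, 1, 5, 1, 3, 2, 3, 4, 3, 1] (sel (ones 1755) ip3 66) = true := by decide +kernel

theorem rot3_66r : band (Rule.ok (2 * 1) EX RL ⟨3 :: [1, 5, 1, 5, 2, 5, 4, 5, 1, 3, 1, 5, 1, 3, 2, 3, 4, 3, 1], [5, 3, 5, 2, 5, 0], 20, false⟩) (lall (memL L) [1, 5, 1, 5, 2, 5, 4, 5, 1, 3, 1, 5, 1, 3, 2, 3, 4, 3, 1]) = true := by decide +kernel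

theorem rot3_67 : T.rot 3 [1, 3, 1, 5, 1, 2, 3, 4, 1, 5, 1, 5, 1, 3, 1, 5, 1, 3, 4, 4, 3, 3, 1] (sel (ones 1755) ip3 67) = true := by decide +kernel

theorem rot3_67r : band (Rule.ok (2 * 1) EX RL ⟨3 :: [1, 3, 1, 5, 1, 2, 3, 4, 1, 5, 1, 5, 1, 3, 1, 5, 1, 3, 4, 4, 3, 3, 1], [0], 24, true⟩) (lall (memL L) [1, 3, 1, 5, 1, 2, 3, 4, 1, 5, 1, 5, 1, 3, 1, 5, 1, 3, 4, 4, 3, 3, 1]) = true := by decide +kernel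

theorem rot3_68 : T.rot 3 [1, 5, 1, 2, 3, 4, 1, 5, 1, 5, 1, 3, 1, 5, 1, 3, 4, 4, 3, 3, 1, 3, 1] (sel (ones 1755) ip3 68) = true := by decide +kernel

theorem rot3_68r : band (Rule.ok (2 * 1) EX RL ⟨3 :: [1, 5, 1, 2, 3, 4, 1, 5, 1, 5, 1, 3, 1, 5, 1, 3, 4, 4, 3, 3, 1, 3, 1], [0, 5, 0], 24, true⟩) (lall (memL L) [1, 5, 1, 2, 3, 4, 1, 5, 1, 5, 1, 3, 1, 5, 1, 3, 4, 4, 3, 3, 1, 3, 1]) = true := by decide +kernel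

theorem rot3_69 : T.rot 3 [4, 1, 5, 1, 5, 1, 3, 1, 5, 1, 3, 4, 4, 3, 3, 1, 3, 1, 3, 1, 5, 1, 2] (sel (ones 1755) ip3 69) = true := by decide +kernel

theorem rot3_69r : band (Rule.ok (2 * 1) EX RL ⟨3 :: [4, 1, 5, 1, 5, 1, 3, 1, 5, 1, 3, 4, 4, 3, 3, 1, 3, 1, 3, 1, 5, 1, 2], [0, 5, 0, 5, 0, 4, 0, 3], 24, true⟩) (lall (memL L) [4, 1, 5, 1, 5, 1, 3, 1, 5, 1, 3, 4, 4, 3, 3, 1, 3, 1, 3, 1, 5, 1, 2]) = true := by decide +kernel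

theorem rot3_70 : T.rot 3 [1, 5, 1, 3, 4, 4, 3, 3, 1, 3, 1, 3, 1, 5, 1, 2, 3, 4, 1, 5, 1, 5, 1] (sel (ones 1755) ip3 70) = true := by decide +kernel

theorem rot3_70r : band (Rule.ok (2 * 1) EX RL ⟨3 :: [1, 5, 1, 3, 4, 4, 3, 3, 1, 3, 1, 3, 1, 5, 1, 2, 3, 4, 1, 5, 1, 5, 1], [4, 4, 3, 3, 4, 0, 5, 0, 4], 24, true⟩) (lall (memL L) [1, 5, 1, 3, 4, 4, 3, 3, 1, 3, 1, 3, 1, 5, 1, 2, 3, 4, 1, 5, 1, 5, 1]) = true := by decide +kernel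

theorem rot3_71 : T.rot 3 [4, 4, 3, 3, 1, 3, 1, 3, 1, 5, 1, 2, 3, 4, 1, 5, 1, 5, 1, 3, 1, 5, 1] (sel (ones 1755) ip3 71) = true := by decide +kernel

theorem rot3_71r : band (Rule.ok (2 * 1) EX RL ⟨3 :: [4, 4, 3, 3, 1, 3, 1, 3, 1, 5, 1, 2, 3, 4, 1, 5, 1, 5, 1, 3, 1, 5, 1], [4, 4, 3, 3, 4], 24, true⟩) (lall (memL L) [4, 4, 3, 3, 1, 3, 1, 3, 1, 5, 1, 2, 3, 4, 1, 5, 1, 5, 1, 3, 1, 5, 1]) = true := by decide +kernel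

theorem rot3_72 : T.rot 3 [3, 1, 3, 1, 3, 1, 5, 1, 2, 3, 4, 1, 5, 1, 5, 1, 3, 1, 5, 1, 3, 4, 4] (sel (ones 1755) ip3 72) = true := by decide +kernel

theorem rot3_72r : band (Rule.ok (2 * 1) EX RL ⟨3 :: [3, 1, 3, 1, 3, 1, 5, 1, 2, 3, 4, 1, 5, 1, 5, 1, 3, 1, 5, 1, 3, 4, 4], [4, 4], 24, true⟩) (lall (memL L) [3, 1, 3, 1, 3, 1, 5, 1, 2, 3, 4, 1, 5, 1, 5, 1, 3, 1, 5, 1, 3, 4, 4]) = true := by decide +kernel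

theorem rot3_73 : T.rot 3 [1, 3, 1, 3, 1, 5, 1, 2, 3, 4, 1, 5, 1, 5, 1, 3, 1, 5, 1, 3, 4, 4, 3] (sel (ones 1755) ip3 73) = true := by decide +kernel

theorem rot3_73r : band (Rule.ok (2 * 1) EX RL ⟨3 :: [1, 3, 1, 3, 1, 5, 1, 2, 3, 4, 1, 5, 1, 5, 1, 3, 1, 5, 1, 3, 4, 4, 3], [4], 24, true⟩) (lall (memL L) [1, 3, 1, 3, 1, 5, 1, 2, 3, 4, 1, 5, 1, 5, 1, 3, 1, 5, 1, 3, 4, 4, 3]) = true := by decide +kernel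

theorem rot3_74 : T.rot 3 [1, 5, 1, 3, 1, 3, 1, 2, 5, 4, 1, 3, 1, 5, 1, 5, 1, 5, 5, 2, 2, 5, 1] (sel (ones 1755) ip3 74) = true := by decide +kernel

theorem rot3_74r : band (Rule.ok (2 * 1) EX RL ⟨3 :: [1, 5, 1, 3, 1, 3, 1, 2, 5, 4, 1, 3, 1, 5, 1, 5, 1, 5, 5, 2, 2, 5, 1], [4, 4, 3, 3, 4, 0], 24, false⟩) (lall (memL L) [1, 5, 1, 3, 1, 3, 1, 2, 5, 4, 1, 3, 1, 5, 1, 5, 1, 5, 5, 2, 2, 5, 1]) = true := by decide +kernel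

theorem rot3_75 : T.rot 3 [1, 3, 1, 2, 5, 4, 1, 3, 1, 5, 1, 5, 1, 5, 5, 2, 2, 5, 1, 3, 1, 5, 1] (sel (ones 1755) ip3 75) = true := by decide +kernel

theorem rot3_75r : band (Rule.ok (2 * 1) EX RL ⟨3 :: [1, 3, 1, 2, 5, 4, 1, 3, 1, 5, 1, 5, 1, 5, 5, 2, 2, 5, 1, 3, 1, 5, 1], [4, 4, 3, 3, 4, 0, 5, 0, 4, 0], 24, false⟩) (lall (memL L) [1, 3, 1, 2, 5, 4, 1, 3, 1, 5, 1, 5, 1, 5, 5, 2, 2, 5, 1, 3, 1, 5, 1]) = true := by decide +kernel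

theorem rot3_76 : T.rot 3 [1, 2, 5, 4, 1, 3, 1, 5, 1, 5, 1, 5, 5, 2, 2, 5, 1, 3, 1, 5, 1, 3, 1] (sel (ones 1755) ip3 76) = true := by decide +kernel

theorem rot3_76r : band (Rule.ok (2 * 1) EX RL ⟨3 :: [1, 2, 5, 4, 1, 3, 1, 5, 1, 5, 1, 5, 5, 2, 2, 5, 1, 3, 1, 5, 1, 3, 1], [0, 5, 0, 5, 0, 4, 0, 3, 5, 2, 0, 4], 24, false⟩) (lall (memL L) [1, 2, 5, 4, 1, 3, 1, 5, 1, 5, 1, 5, 5, 2, 2, 5, 1, 3, 1, 5, 1, 3, 1]) = true := by decide +kernel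

theorem rot3_77 : T.rot 3 [1, 5, 1, 5, 1, 5, 5, 2, 2, 5, 1, 3, 1, 5, 1, 3, 1, 3, 1, 2, 5, 4, 1] (sel (ones 1755) ip3 77) = true := by decide +kernel

theorem rot3_77r : band (Rule.ok (2 * 1) EX RL ⟨3 :: [1, 5, 1, 5, 1, 5, 5, 2, 2, 5, 1, 3, 1, 5, 1, 3, 1, 3, 1, 2, 5, 4, 1], [0, 5, 0, 5, 0, 4], 24, false⟩) (lall (memL L) [1, 5, 1, 5, 1, 5, 5, 2, 2, 5, 1, 3, 1, 5, 1, 3, 1, 3, 1, 2, 5, 4, 1]) = true := by decide +kernel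

theorem rot3_78 : T.rot 3 [2, 5, 5, 4, 4, 2, 3, 2, 5, 5, 4, 4, 2, 3, 2, 5, 5, 4, 4, 2, 3, 2, 5, 5, 4, 4, 2] (sel (ones 1755) ip3 78) = true := by decide +kernel

theorem rot3_78r : band (Rule.ok (2 * 1) EX RL ⟨3 :: [2, 5, 5, 4, 4, 2, 3, 2, 5, 5, 4, 4, 2, 3, 2, 5, 5, 4, 4, 2, 3, 2, 5, 5, 4, 4, 2], [3], 0, true⟩) (lall (memL L) [2, 5, 5, 4, 4, 2, 3, 2, 5, 5, 4, 4, 2, 3, 2, 5, 5, 4, 4, 2, 3, 2, 5, 5, 4, 4, 2]) = true := by decide +kernel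

theorem rot3_79 : T.rot 3 [3, 4, 5, 4, 2, 2, 3, 3, 4, 5, 4, 2, 2, 3, 3, 4, 5, 4, 2, 2, 3, 3, 4, 5, 4, 2, 2] (sel (ones 1755) ip3 79) = true := by decide +kernel

theorem rot3_79r : band (Rule.ok (2 * 1) EX RL ⟨3 :: [3, 4, 5, 4, 2, 2, 3, 3, 4, 5, 4, 2, 2, 3, 3, 4, 5, 4, 2, 2, 3, 3, 4, 5, 4, 2, 2], [3, 3], 0, false⟩) (lall (memL L) [3, 4, 5, 4, 2, 2, 3, 3, 4, 5, 4, 2, 2, 3, 3, 4, 5, 4, 2, 2, 3, 3, 4, 5, 4, 2, 2]) = true := by decide +kernel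

theorem rot3_80 : T.rot 3 [4, 5, 4, 2, 2, 3, 3, 4, 5, 4, 2, 2, 3, 3, 4, 5, 4, 2, 2, 3, 3, 4, 5, 4, 2, 2, 3] (sel (ones 1755) ip3 80) = true := by decide +kernel

theorem rot3_80r : band (Rule.ok (2 * 1) EX RL ⟨3 :: [4, 5, 4, 2, 2, 3, 3, 4, 5, 4, 2, 2, 3, 3, 4, 5, 4, 2, 2, 3, 3, 4, 5, 4, 2, 2, 3], [3, 3, 5], 0, false⟩) (lall (memL L) [4, 5, 4, 2, 2, 3, 3, 4, 5, 4, 2, 2, 3, 3, 4, 5, 4, 2, 2, 3, 3, 4, 5, 4, 2, 2, 3]) = true := by decide +kernel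

theorem rot3_81 : T.rot 3 [4, 5, 2, 3, 2, 5, 5, 4, 3, 3, 4, 5, 2, 3, 2, 5, 5, 4, 3, 3, 4, 5, 2, 3, 2, 5, 5, 4, 3, 3, 4, 5, 2, 3, 2, 5, 5, 4, 3] (sel (ones 1755) ip3 81) = true := by decide +kernel

theorem rot3_81r : band (Rule.ok (2 * 1) EX RL ⟨3 :: [4, 5, 2, 3, 2, 5, 5, 4, 3, 3, 4, 5, 2, 3, 2, 5, 5, 4, 3, 3, 4, 5, 2, 3, 2, 5, 5, 4, 3, 3, 4, 5, 2, 3, 2, 5, 5, 4, 3], [5], 4, true⟩) (lall (memL L) [4, 5, 2, 3, 2, 5, 5, 4, 3, 3, 4, 5, 2, 3, 2, 5, 5, 4, 3, 3, 4, 5, 2, 3, 2, 5, 5, 4, 3, 3, 4, 5, 2, 3, 2, 5, 5, 4, 3]) = true := by decide +kernel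

theorem rot3_82 : T.rot 3 [2, 5, 5, 4, 3, 3, 4, 5, 2, 3, 2, 5, 5, 4, 3, 3, 4, 5, 2, 3, 2, 5, 5, 4, 3, 3, 4, 5, 2, 3, 2, 5, 5, 4, 3, 3, 4, 5, 2] (sel (ones 1755) ip3 82) = true := by decide +kernel

theorem rot3_82r : band (Rule.ok (2 * 1) EX RL ⟨3 :: [2, 5, 5, 4, 3, 3, 4, 5, 2, 3, 2, 5, 5, 4, 3, 3, 4, 5, 2, 3, 2, 5, 5, 4, 3, 3, 4, 5, 2, 3, 2, 5, 5, 4, 3, 3, 4, 5, 2], [3, 5, 5, 2, 4], 4, true⟩) (lall (memL L) [2, 5, 5, 4, 3, 3, 4, 5, 2, 3, 2, 5, 5, 4, 3, 3, 4, 5, 2, 3, 2, 5, 5, 4, 3, 3, 4, 5, 2, 3, 2, 5, 5, 4, 3, 3, 4, 5, 2]) = true := by decide +kernel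

theorem rot3_83 : T.rot 3 [3, 4, 5, 4, 3, 2, 5, 5, 2, 3, 3, 4, 5, 4, 3, 2, 5, 5, 2, 3, 3, 4, 5, 4, 3, 2, 5, 5, 2, 3, 3, 4, 5, 4, 3, 2, 5, 5, 2] (sel (ones 1755) ip3 83) = true := by decide +kernel

theorem rot3_83r : band (Rule.ok (2 * 1) EX RL ⟨3 :: [3, 4, 5, 4, 3, 2, 5, 5, 2, 3, 3, 4, 5, 4, 3, 2, 5, 5, 2, 3, 3, 4, 5, 4, 3, 2, 5, 5, 2, 3, 3, 4, 5, 4, 3, 2, 5, 5, 2], [3], 4, false⟩) (lall (memL L) [3, 4, 5, 4, 3, 2, 5, 5, 2, 3, 3, 4, 5, 4, 3, 2, 5, 5, 2, 3, 3, 4, 5, 4, 3, 2, 5, 5, 2, 3, 3, 4, 5, 4, 3, 2, 5, 5, 2]) = true := by decide +kernel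

theorem rot3_84 : T.rot 3 [4, 5, 4, 3, 2, 5, 5, 2, 3, 3, 4, 5, 4, 3, 2, 5, 5, 2, 3, 3, 4, 5, 4, 3, 2, 5, 5, 2, 3, 3, 4, 5, 4, 3, 2, 5, 5, 2, 3] (sel (ones 1755) ip3 84) = true := by decide +kernel

theorem rot3_84r : band (Rule.ok (2 * 1) EX RL ⟨3 :: [4, 5, 4, 3, 2, 5, 5, 2, 3, 3, 4, 5, 4, 3, 2, 5, 5, 2, 3, 3, 4, 5, 4, 3, 2, 5, 5, 2, 3, 3, 4, 5, 4, 3, 2, 5, 5, 2, 3], [3, 5], 4, false⟩) (lall (memL L) [4, 5, 4, 3, 2, 5, 5, 2, 3, 3, 4, 5, 4, 3, 2, 5, 5, 2, 3, 3, 4, 5, 4, 3, 2, 5, 5, 2, 3, 3, 4, 5, 4, 3, 2, 5, 5, 2, 3]) = true := by decide +kernel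

theorem rot3_85 : T.rot 3 [2, 5, 5, 2, 3, 3, 4, 5, 4, 3, 2, 5, 5, 2, 3, 3, 4, 5, 4, 3, 2, 5, 5, 2, 3, 3, 4, 5, 4, 3, 2, 5, 5, 2, 3, 3, 4, 5, 4] (sel (ones 1755) ip3 85) = true := by decide +kernel

theorem rot3_85r : band (Rule.ok (2 * 1) EX RL ⟨3 :: [2, 5, 5, 2, 3, 3, 4, 5, 4, 3, 2, 5, 5, 2, 3, 3, 4, 5, 4, 3, 2, 5, 5, 2, 3, 3, 4, 5, 4, 3, 2, 5, 5, 2, 3, 3, 4, 5, 4], [5, 5, 2, 4], 4, false⟩) (lall (memL L) [2, 5, 5, 2, 3, 3, 4, 5, 4, 3, 2, 5, 5, 2, 3, 3, 4, 5, 4, 3, 2, 5, 5, 2, 3, 3, 4, 5, 4, 3, 2, 5, 5, 2, 3, 3, 4, 5, 4]) = true := by decide +kernel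

theorem rot3_86 : T.rot 3 [3, 4, 5, 4, 4, 3, 3, 4, 5, 2, 3, 2, 5, 5, 4, 3, 3, 4, 5, 4, 3, 2, 5, 5, 3, 2, 5, 5, 3, 3, 4, 5, 2, 3, 2, 5, 5, 4, 4] (sel (ones 1755) ip3 86) = true := by decide +kernel

theorem rot3_86r : band (Rule.ok (2 * 1) EX RL ⟨3 :: [3, 4, 5, 4, 4, 3, 3, 4, 5, 2, 3, 2, 5, 5, 4, 3, 3, 4, 5, 4, 3, 2, 5, 5, 3, 2, 5, 5, 3, 3, 4, 5, 2, 3, 2, 5, 5, 4, 4], [2], 8, true⟩) (lall (memL L) [3, 4, 5, 4, 4, 3, 3, 4, 5, 2, 3, 2, 5, 5, 4, 3, 3, 4, 5, 4, 3, 2, 5, 5, 3, 2, 5, 5, 3, 3, 4, 5, 2, 3, 2, 5, 5, 4, 4]) = true := by decide +kernel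

theorem rot3_87 : T.rot 3 [4, 5, 4, 4, 3, 3, 4, 5, 2, 3, 2, 5, 5, 4, 3, 3, 4, 5, 4, 3, 2, 5, 5, 3, 2, 5, 5, 3, 3, 4, 5, 2, 3, 2, 5, 5, 4, 4, 3] (sel (ones 1755) ip3 87) = true := by decide +kernel

theorem rot3_87r : band (Rule.ok (2 * 1) EX RL ⟨3 :: [4, 5, 4, 4, 3, 3, 4, 5, 2, 3, 2, 5, 5, 4, 3, 3, 4, 5, 4, 3, 2, 5, 5, 3, 2, 5, 5, 3, 3, 4, 5, 2, 3, 2, 5, 5, 4, 4, 3], [2, 5], 8, true⟩) (lall (memL L) [4, 5, 4, 4, 3, 3, 4, 5, 2, 3, 2, 5, 5, 4, 3, 3, 4, 5, 4, 3, 2, 5, 5, 3, 2, 5, 5, 3, 3, 4, 5, 2, 3, 2, 5, 5, 4, 4, 3]) = true := by decide +kernel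

theorem rot3_88 : T.rot 3 [4, 5, 2, 3, 2, 5, 5, 4, 3, 3, 4, 5, 4, 3, 2, 5, 5, 3, 2, 5, 5, 3, 3, 4, 5, 2, 3, 2, 5, 5, 4, 4, 3, 3, 4, 5, 4, 4, 3] (sel (ones 1755) ip3 88) = true := by decide +kernel

theorem rot3_88r : band (Rule.ok (2 * 1) EX RL ⟨3 :: [4, 5, 2, 3, 2, 5, 5, 4, 3, 3, 4, 5, 4, 3, 2, 5, 5, 3, 2, 5, 5, 3, 3, 4, 5, 2, 3, 2, 5, 5, 4, 4, 3, 3, 4, 5, 4, 4, 3], [2, 5, 5, 2, 4, 2, 2, 5], 8, true⟩) (lall (memL L) [4, 5, 2, 3, 2, 5, 5, 4, 3, 3, 4, 5, 4, 3, 2, 5, 5, 3, 2, 5, 5, 3, 3, 4, 5, 2, 3, 2, 5, 5, 4, 4, 3, 3, 4, 5, 4, 4, 3]) = true := by decide +kernel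

theorem rot3_89 : T.rot 3 [4, 5, 4, 3, 2, 5, 5, 3, 2, 5, 5, 3, 3, 4, 5, 2, 3, 2, 5, 5, 4, 4, 3, 3, 4, 5, 4, 4, 3, 3, 4, 5, 2, 3, 2, 5, 5, 4, 3] (sel (ones 1755) ip3 89) = true := by decide +kernel

theorem rot3_89r : band (Rule.ok (2 * 1) EX RL ⟨3 :: [4, 5, 4, 3, 2, 5, 5, 3, 2, 5, 5, 3, 3, 4, 5, 2, 3, 2, 5, 5, 4, 4, 3, 3, 4, 5, 4, 4, 3, 3, 4, 5, 2, 3, 2, 5, 5, 4, 3], [3, 5, 5, 2, 4, 2, 5, 5, 2, 4, 3, 5, 3, 4], 8, true⟩) (lall (memL L) [4, 5, 4, 3, 2, 5, 5, 3, 2, 5, 5, 3, 3, 4, 5, 2, 3, 2, 5, 5, 4, 4, 3, 3, 4, 5, 4, 4, 3, 3, 4, 5, 2, 3, 2, 5, 5, 4, 3]) = true := by decide +kernel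

theorem rot3_90 : T.rot 3 [2, 5, 5, 4, 4, 3, 3, 4, 5, 4, 4, 3, 3, 4, 5, 2, 3, 2, 5, 5, 4, 3, 3, 4, 5, 4, 3, 2, 5, 5, 3, 2, 5, 5, 3, 3, 4, 5, 2] (sel (ones 1755) ip3 90) = true := by decide +kernel

theorem rot3_90r : band (Rule.ok (2 * 1) EX RL ⟨3 :: [2, 5, 5, 4, 4, 3, 3, 4, 5, 4, 4, 3, 3, 4, 5, 2, 3, 2, 5, 5, 4, 3, 3, 4, 5, 4, 3, 2, 5, 5, 3, 2, 5, 5, 3, 3, 4, 5, 2], [3, 5, 5, 2, 4], 8, true⟩) (lall (memL L) [2, 5, 5, 4, 4, 3, 3, 4, 5, 4, 4, 3, 3, 4, 5, 2, 3, 2, 5, 5, 4, 3, 3, 4, 5, 4, 3, 2, 5, 5, 3, 2, 5, 5, 3, 3, 4, 5, 2]) = true := by decide +kernel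

theorem rot3_91 : T.rot 3 [3, 4, 5, 4, 3, 2, 5, 5, 3, 3, 4, 5, 3, 3, 4, 5, 2, 3, 2, 5, 5, 2, 3, 3, 4, 5, 4, 3, 2, 5, 5, 2, 2, 3, 2, 5, 5, 2, 2] (sel (ones 1755) ip3 91) = true := by decide +kernel

theorem rot3_91r : band (Rule.ok (2 * 1) EX RL ⟨3 :: [3, 4, 5, 4, 3, 2, 5, 5, 3, 3, 4, 5, 3, 3, 4, 5, 2, 3, 2, 5, 5, 2, 3, 3, 4, 5, 4, 3, 2, 5, 5, 2, 2, 3, 2, 5, 5, 2, 2], [3], 8, false⟩) (lall (memL L) [3, 4, 5, 4, 3, 2, 5, 5, 3, 3, 4, 5, 3, 3, 4, 5, 2, 3, 2, 5, 5, 2, 3, 3, 4, 5, 4, 3, 2, 5, 5, 2, 2, 3, 2, 5, 5, 2, 2]) = true := by decide +kernel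

theorem rot3_92 : T.rot 3 [4, 5, 4, 3, 2, 5, 5, 3, 3, 4, 5, 3, 3, 4, 5, 2, 3, 2, 5, 5, 2, 3, 3, 4, 5, 4, 3, 2, 5, 5, 2, 2, 3, 2, 5, 5, 2, 2, 3] (sel (ones 1755) ip3 92) = true := by decide +kernel

theorem rot3_92r : band (Rule.ok (2 * 1) EX RL ⟨3 :: [4, 5, 4, 3, 2, 5, 5, 3, 3, 4, 5, 3, 3, 4, 5, 2, 3, 2, 5, 5, 2, 3, 3, 4, 5, 4, 3, 2, 5, 5, 2, 2, 3, 2, 5, 5, 2, 2, 3], [3, 5], 8, false⟩) (lall (memL L) [4, 5, 4, 3, 2, 5, 5, 3, 3, 4, 5, 3, 3, 4, 5, 2, 3, 2, 5, 5, 2, 3, 3, 4, 5, 4, 3, 2, 5, 5, 2, 2, 3, 2, 5, 5, 2, 2, 3]) = true := by decide +kernel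

theorem rot3_93 : T.rot 3 [3, 4, 5, 4, 3, 2, 5, 5, 2, 2, 3, 2, 5, 5, 2, 2, 3, 3, 4, 5, 4, 3, 2, 5, 5, 3, 3, 4, 5, 3, 3, 4, 5, 2, 3, 2, 5, 5, 2] (sel (ones 1755) ip3 93) = true := by decide +kernel

theorem rot3_93r : band (Rule.ok (2 * 1) EX RL ⟨3 :: [3, 4, 5, 4, 3, 2, 5, 5, 2, 2, 3, 2, 5, 5, 2, 2, 3, 3, 4, 5, 4, 3, 2, 5, 5, 3, 3, 4, 5, 3, 3, 4, 5, 2, 3, 2, 5, 5, 2], [2, 5, 5, 2, 4, 2, 2, 5, 5, 2, 4, 3, 5, 3, 4, 4], 8, false⟩) (lall (memL L) [3, 4, 5, 4, 3, 2, 5, 5, 2, 2, 3, 2, 5, 5, 2, 2, 3, 3, 4, 5, 4, 3, 2, 5, 5, 3, 3, 4, 5, 3, 3, 4, 5, 2, 3, 2, 5, 5, 2]) = true := by decide +kernel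

theorem rot3_94 : T.rot 3 [4, 5, 4, 3, 2, 5, 5, 2, 2, 3, 2, 5, 5, 2, 2, 3, 3, 4, 5, 4, 3, 2, 5, 5, 3, 3, 4, 5, 3, 3, 4, 5, 2, 3, 2, 5, 5, 2, 3] (sel (ones 1755) ip3 94) = true := by decide +kernel

theorem rot3_94r : band (Rule.ok (2 * 1) EX RL ⟨3 :: [4, 5, 4, 3, 2, 5, 5, 2, 2, 3, 2, 5, 5, 2, 2, 3, 3, 4, 5, 4, 3, 2, 5, 5, 3, 3, 4, 5, 3, 3, 4, 5, 2, 3, 2, 5, 5, 2, 3], [2, 5, 5, 2, 4, 2, 2, 5, 5, 2, 4, 3, 5, 3, 4], 8, false⟩) (lall (memL L) [4, 5, 4, 3, 2, 5, 5, 2, 2, 3, 2, 5, 5, 2, 2, 3, 3, 4, 5, 4, 3, 2, 5, 5, 3, 3, 4, 5, 3, 3, 4, 5, 2, 3, 2, 5, 5, 2, 3]) = true := by decide +kernel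

theorem rot3_95 : T.rot 3 [2, 5, 5, 2, 2, 3, 2, 5, 5, 2, 2, 3, 3, 4, 5, 4, 3, 2, 5, 5, 3, 3, 4, 5, 3, 3, 4, 5, 2, 3, 2, 5, 5, 2, 3, 3, 4, 5, 4] (sel (ones 1755) ip3 95) = true := by decide +kernel

theorem rot3_95r : band (Rule.ok (2 * 1) EX RL ⟨3 :: [2, 5, 5, 2, 2, 3, 2, 5, 5, 2, 2, 3, 3, 4, 5, 4, 3, 2, 5, 5, 3, 3, 4, 5, 3, 3, 4, 5, 2, 3, 2, 5, 5, 2, 3, 3, 4, 5, 4], [2, 5, 5, 2, 4, 2, 2, 5, 5, 2, 4], 8, false⟩) (lall (memL L) [2, 5, 5, 2, 2, 3, 2, 5, 5, 2, 2, 3, 3, 4, 5, 4, 3, 2, 5, 5, 3, 3, 4, 5, 3, 3, 4, 5, 2, 3, 2, 5, 5, 2, 3, 3, 4, 5, 4]) = true := by decide +kernel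

theorem rot3_96 : T.rot 3 [2, 5, 5, 2, 2, 3, 3, 4, 5, 4, 3, 2, 5, 5, 3, 3, 4, 5, 3, 3, 4, 5, 2, 3, 2, 5, 5, 2, 3, 3, 4, 5, 4, 3, 2, 5, 5, 2, 2] (sel (ones 1755) ip3 96) = true := by decide +kernel

theorem rot3_96r : band (Rule.ok (2 * 1) EX RL ⟨3 :: [2, 5, 5, 2, 2, 3, 3, 4, 5, 4, 3, 2, 5, 5, 3, 3, 4, 5, 3, 3, 4, 5, 2, 3, 2, 5, 5, 2, 3, 3, 4, 5, 4, 3, 2, 5, 5, 2, 2], [2, 5, 5, 2, 4], 8, false⟩) (lall (memL L) [2, 5, 5, 2, 2, 3, 3, 4, 5, 4, 3, 2, 5, 5, 3, 3, 4, 5, 3, 3, 4, 5, 2, 3, 2, 5, 5, 2, 3, 3, 4, 5, 4, 3, 2, 5, 5, 2, 2]) = true := by decide +kernel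

theorem rot3_97 : T.rot 3 [2, 5, 5, 4, 3, 3, 4, 5, 4, 3, 2, 5, 5, 3, 2, 5, 5, 2, 3, 2, 5, 5, 4, 4, 2, 3, 2, 5, 5, 4, 4, 3, 3, 4, 5, 2, 3, 2, 5, 5, 4, 3, 3, 4, 5, 4, 3, 2, 5, 5, 3, 2, 5, 5, 3, 3, 4, 5, 2] (sel (ones 1755) ip3 97) = true := by decide +kernel

theorem rot3_97r : band (Rule.ok (2 * 1) EX RL ⟨3 :: [2, 5, 5, 4, 3, 3, 4, 5, 4, 3, 2, 5, 5, 3, 2, 5, 5, 2, 3, 2, 5, 5, 4, 4, 2, 3, 2, 5, 5, 4, 4, 3, 3, 4, 5, 2, 3, 2, 5, 5, 4, 3, 3, 4, 5, 4, 3, 2, 5, 5, 3, 2, 5, 5, 3, 3, 4, 5, 2], [5, 5, 2, 5, 2, 4, 3, 5, 3, 4, 4, 3, 5, 5, 2, 4], 1, true⟩) (lall (memL L) [2, 5, 5, 4, 3, 3, 4, 5, 4, 3, 2, 5, 5, 3, 2, 5, 5, 2, 3, 2, 5, 5, 4, 4, 2, 3, 2, 5, 5, 4, 4, 3, 3, 4, 5, 2, 3, 2, 5, 5, 4, 3, 3, 4, 5, 4, 3, 2, 5, 5, 3, 2, 5, 5, 3, 3, 4, 5, 2]) = true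 := by decide +kernel

theorem rot3_98 : T.rot 3 [3, 4, 5, 4, 3, 2, 5, 5, 3, 2, 5, 5, 2, 3, 2, 5, 5, 4, 4, 2, 3, 2, 5, 5, 4, 4, 3, 3, 4, 5, 2, 3, 2, 5, 5, 4, 3, 3, 4, 5, 4, 3, 2, 5, 5, 3, 2, 5, 5, 3, 3, 4, 5, 2, 3, 2, 5, 5, 4] (sel (ones 1755) ip3 98) = true := by decide +kernel

theorem rot3_98r : band (Rule.ok (2 * 1) EX RL ⟨3 :: [3, 4, 5, 4, 3, 2, 5, 5, 3, 2, 5, 5, 2, 3, 2, 5, 5, 4, 4, 2, 3, 2, 5, 5, 4, 4, 3, 3, 4, 5, 2, 3, 2, 5, 5, 4, 3, 3, 4, 5, 4, 3, 2, 5, 5, 3, 2, 5, 5, 3, 3, 4, 5, 2, 3, 2, 5, 5, 4], [5, 5, 2, 5, 2, 4, 3, 5, 3, 4, 4], 1, true⟩) (lall (memL L) [3, 4, 5, 4, 3, 2, 5, 5, 3, 2, 5, 5, 2, 3, 2, 5, 5, 4, 4, 2, 3, 2, 5, 5, 4, 4, 3, 3, 4, 5, 2, 3, 2, 5, 5, 4, 3, 3, 4, 5, 4, 3, 2, 5, 5, 3, 2, 5, 5, 3, 3, 4, 5, 2, 3, 2, 5, 5, 4])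 = true := by decide +kernel

theorem rot3_99 : T.rot 3 [4, 5, 4, 2, 2, 3, 3, 4, 5, 4, 3, 3, 4, 5, 3, 3, 4, 5, 2, 3, 2, 5, 5, 2, 3, 3, 4, 5, 4, 3, 2, 5, 5, 3, 3, 4, 5, 3, 3, 4, 5, 2, 3, 2, 5, 5, 2, 3, 3, 4, 5, 4, 3, 2, 5, 5, 2, 2, 3] (sel (ones 1755) ip3 99) = true := by decide +kernel

theorem rot3_99r : band (Rule.ok (2 * 1) EX RL ⟨3 :: [4, 5, 4, 2, 2, 3, 3, 4, 5, 4, 3, 3, 4, 5, 3, 3, 4, 5, 2, 3, 2, 5, 5, 2, 3, 3, 4, 5, 4, 3, 2, 5, 5, 3, 3, 4, 5, 3, 3, 4, 5, 2, 3, 2, 5, 5, 2, 3, 3, 4, 5, 4, 3, 2, 5, 5, 2, 2, 3], [3, 5, 3, 4, 4, 2, 5, 3, 4], 1, false⟩) (lall (memL L) [4, 5, 4, 2, 2, 3, 3, 4, 5, 4, 3, 3, 4, 5, 3, 3, 4, 5, 2, 3, 2, 5, 5, 2, 3, 3, 4, 5, 4, 3, 2, 5, 5, 3, 3, 4, 5, 3, 3, 4, 5, 2, 3, 2, 5, 5, 2, 3, 3, 4, 5, 4, 3, 2, 5, 5, 2, 2, 3])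 = true := by decide +kernel

theorem rot3_100 : T.rot 3 [4, 5, 3, 3, 4, 5, 2, 3, 2, 5, 5, 3, 3, 4, 5, 2, 3, 2, 5, 5, 4, 3, 3, 4, 5, 3, 3, 4, 5, 2, 3, 2, 5, 5, 2, 3, 2, 5, 5, 4, 4, 2, 3, 2, 5, 5, 4, 4, 3, 3, 4, 5, 2, 3, 2, 5, 5, 4, 3] (sel (ones 1755) ip3 100) = true := by decide +kernel

theorem rot3_100r : band (Rule.ok (2 * 1) EX RL ⟨3 :: [4, 5, 3, 3, 4, 5, 2, 3, 2, 5, 5, 3, 3, 4, 5, 2, 3, 2, 5, 5, 4, 3, 3, 4, 5, 3, 3, 4, 5, 2, 3, 2, 5, 5, 2, 3, 2, 5, 5, 4, 4, 2, 3, 2, 5, 5, 4, 4, 3, 3, 4, 5, 2, 3, 2, 5, 5, 4, 3], [5, 5, 2, 4, 2, 5, 3, 4, 3, 4, 4, 3, 5, 5, 2, 4, 2, 2, 5, 3, 4, 3, 4], 2, true⟩) (lall (memL L) [4, 5, 3, 3, 4, 5, 2, 3, 2, 5, 5, 3, 3, 4, 5, 2, 3, 2, 5, 5, 4, 3, 3, 4, 5, 3, 3, 4, 5, 2, 3, 2, 5, 5, 2, 3, 2, 5, 5, 4, 4, 2, 3, 2,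 5, 5, 4, 4, 3, 3, 4, 5, 2, 3, 2, 5, 5, 4, 3]) = true := by decide +kernel

theorem rot3_101 : T.rot 3 [2, 5, 5, 4, 3, 3, 4, 5, 3, 3, 4, 5, 2, 3, 2, 5, 5, 2, 3, 2, 5, 5, 4, 4, 2, 3, 2, 5, 5, 4, 4, 3, 3, 4, 5, 2, 3, 2, 5, 5, 4, 3, 3, 4, 5, 3, 3, 4, 5, 2, 3, 2, 5, 5, 3, 3, 4, 5, 2] (sel (ones 1755) ip3 101) = true := by decide +kernel

theorem rot3_101r : band (Rule.ok (2 * 1) EX RL ⟨3 :: [2, 5, 5, 4, 3, 3, 4, 5, 3, 3, 4, 5, 2, 3, 2, 5, 5, 2, 3, 2, 5, 5, 4, 4, 2, 3, 2, 5, 5, 4, 4, 3, 3, 4, 5, 2, 3, 2, 5, 5, 4, 3, 3, 4, 5, 3, 3, 4, 5, 2, 3, 2, 5, 5, 3, 3, 4, 5, 2], [5, 5, 2, 4, 2, 5, 3, 4, 3, 4, 4, 3, 5, 5, 2, 4], 2, true⟩) (lall (memL L) [2, 5, 5, 4, 3, 3, 4, 5, 3, 3, 4, 5, 2, 3, 2, 5, 5, 2, 3, 2, 5, 5, 4, 4, 2, 3, 2, 5, 5, 4, 4, 3, 3, 4, 5, 2,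 3, 2, 5, 5, 4, 3, 3, 4, 5, 3, 3, 4, 5, 2, 3, 2, 5, 5, 3, 3, 4, 5, 2]) = true := by decide +kernel

theorem rot3_102 : T.rot 3 [4, 5, 3, 3, 4, 5, 2, 3, 2, 5, 5, 2, 3, 2, 5, 5, 4, 4, 2, 3, 2, 5, 5, 4, 4, 3, 3, 4, 5, 2, 3, 2, 5, 5, 4, 3, 3, 4, 5, 3, 3, 4, 5, 2, 3, 2, 5, 5, 3, 3, 4, 5, 2, 3, 2, 5, 5, 4, 3] (sel (ones 1755) ip3 102) = true := by decide +kernel

theorem rot3_102r : band (Rule.ok (2 * 1) EX RL ⟨3 :: [4, 5, 3, 3, 4, 5, 2, 3, 2, 5, 5, 2, 3, 2, 5, 5, 4, 4, 2, 3, 2, 5, 5, 4, 4, 3, 3, 4, 5, 2, 3, 2, 5, 5, 4, 3, 3, 4, 5, 3, 3, 4, 5, 2, 3, 2, 5, 5, 3, 3, 4, 5, 2, 3, 2, 5, 5, 4, 3], [5, 5, 2, 4, 2, 5, 3, 4, 3, 4], 2, true⟩) (lall (memL L) [4, 5, 3, 3, 4, 5, 2, 3, 2, 5, 5, 2, 3, 2, 5, 5, 4, 4, 2, 3, 2, 5, 5, 4, 4, 3, 3, 4, 5, 2, 3, 2, 5, 5,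 4, 3, 3, 4, 5, 3, 3, 4, 5, 2, 3, 2, 5, 5, 3, 3, 4, 5, 2, 3, 2, 5, 5, 4, 3]) = true := by decide +kernel

theorem rot3_103 : T.rot 3 [3, 4, 5, 4, 3, 2, 5, 5, 3, 3, 4, 5, 4, 3, 2, 5, 5, 3, 2, 5, 5, 2, 3, 3, 4, 5, 4, 3, 2, 5, 5, 2, 2, 3, 3, 4, 5, 4, 2, 2, 3, 3, 4, 5, 4, 3, 3, 4, 5, 4, 3, 2, 5, 5, 3, 2, 5, 5, 2] (sel (ones 1755) ip3 103) = true := by decide +kernel

theorem rot3_103r : band (Rule.ok (2 * 1) EX RL ⟨3 :: [3, 4, 5, 4, 3, 2, 5, 5, 3, 3, 4, 5, 4, 3, 2, 5, 5, 3, 2, 5, 5, 2, 3, 3, 4, 5, 4, 3, 2, 5, 5, 2, 2, 3, 3, 4, 5, 4, 2, 2, 3, 3, 4, 5, 4, 3, 3, 4, 5, 4, 3, 2, 5, 5, 3, 2, 5, 5, 2], [5, 5, 2, 4, 2, 5, 3, 4, 3, 4, 4, 3], 2, false⟩) (lall (memL L) [3, 4, 5, 4, 3, 2, 5, 5, 3, 3, 4, 5, 4, 3, 2, 5, 5, 3, 2, 5, 5, 2, 3, 3, 4, 5, 4, 3, 2, 5,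 5, 2, 2, 3, 3, 4, 5, 4, 2, 2, 3, 3, 4, 5, 4, 3, 3, 4, 5, 4, 3, 2, 5, 5, 3, 2, 5, 5, 2]) = true := by decide +kernel

theorem rot3_104 : T.rot 3 [4, 5, 4, 3, 2, 5, 5, 3, 3, 4, 5, 4, 3, 2, 5, 5, 3, 2, 5, 5, 2, 3, 3, 4, 5, 4, 3, 2, 5, 5, 2, 2, 3, 3, 4, 5, 4, 2, 2, 3, 3, 4, 5, 4, 3, 3, 4, 5, 4, 3, 2, 5, 5, 3, 2, 5, 5, 2, 3] (sel (ones 1755) ip3 104) = true := by decide +kernel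

theorem rot3_104r : band (Rule.ok (2 * 1) EX RL ⟨3 :: [4, 5, 4, 3, 2, 5, 5, 3, 3, 4, 5, 4, 3, 2, 5, 5, 3, 2, 5, 5, 2, 3, 3, 4, 5, 4, 3, 2, 5, 5, 2, 2, 3, 3, 4, 5, 4, 2, 2, 3, 3, 4, 5, 4, 3, 3, 4, 5, 4, 3, 2, 5, 5, 3, 2, 5, 5, 2, 3], [5, 5, 2, 4, 2, 5, 3, 4, 3, 4, 4, 3, 5], 2, false⟩) (lall (memL L) [4, 5, 4, 3, 2, 5, 5, 3, 3, 4, 5, 4, 3, 2, 5, 5, 3, 2, 5, 5, 2, 3, 3, 4, 5, 4, 3, 2, 5, 5, 2, 2, 3, 3, 4, 5, 4, 2, 2, 3, 3, 4, 5, 4, 3, 3, 4, 5, 4, 3, 2, 5, 5, 3, 2, 5, 5, 2, 3]) = true := by decide +kernel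

theorem rot3_105 : T.rot 3 [2, 5, 5, 3, 2, 5, 5, 2, 3, 3, 4, 5, 4, 3, 2, 5, 5, 2, 2, 3, 3, 4, 5, 4, 2, 2, 3, 3, 4, 5, 4, 3, 3, 4, 5, 4, 3, 2, 5, 5, 3, 2, 5, 5, 2, 3, 3, 4, 5, 4, 3, 2, 5, 5, 3, 3, 4, 5, 4] (sel (ones 1755) ip3 105) = true := by decide +kernel

theorem rot3_105r : band (Rule.ok (2 * 1) EX RL ⟨3 :: [2, 5, 5, 3, 2, 5, 5, 2, 3, 3, 4, 5, 4, 3, 2, 5, 5, 2, 2, 3, 3, 4, 5, 4, 2, 2, 3, 3, 4, 5, 4, 3, 3, 4, 5, 4, 3, 2, 5, 5, 3, 2, 5, 5, 2, 3, 3, 4, 5, 4, 3, 2, 5, 5, 3, 3, 4, 5, 4], [5, 5, 2, 4, 2, 5, 3, 4, 3, 4, 4, 3, 5, 5, 2, 4, 2, 2], 2, false⟩) (lall (memL L) [2, 5, 5, 3, 2, 5, 5, 2, 3, 3, 4, 5, 4, 3, 2, 5, 5, 2, 2, 3, 3, 4, 5, 4, 2, 2, 3, 3, 4, 5, 4, 3, 3, 4, 5, 4, 3, 2, 5, 5, 3, 2, 5, 5, 2, 3, 3, 4, 5, 4, 3, 2, 5, 5, 3, 3, 4, 5,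 4]) = true := by decide +kernel

theorem rot3_106 : T.rot 3 [2, 5, 5, 2, 2, 3, 3, 4, 5, 4, 2, 2, 3, 3, 4, 5, 4, 3, 3, 4, 5, 4, 3, 2, 5, 5, 3, 2, 5, 5, 2, 3, 3, 4, 5, 4, 3, 2, 5, 5, 3, 3, 4, 5, 4, 3, 2, 5, 5, 3, 2, 5, 5, 2, 3, 3, 4, 5, 4] (sel (ones 1755) ip3 106) = true := by decide +kernel

theorem rot3_106r : band (Rule.ok (2 * 1) EX RL ⟨3 :: [2, 5, 5, 2, 2, 3, 3, 4, 5, 4, 2, 2, 3, 3, 4, 5, 4, 3, 3, 4, 5, 4, 3, 2, 5, 5, 3, 2, 5, 5, 2, 3, 3, 4, 5, 4, 3, 2, 5, 5, 3, 3, 4, 5, 4, 3, 2, 5, 5, 3, 2, 5, 5, 2, 3, 3, 4, 5, 4], [3, 5, 3, 4, 4, 2, 5, 3, 4, 4, 2, 2, 5, 5, 2, 4], 2, false⟩) (lall (memL L) [2, 5, 5, 2, 2, 3, 3, 4, 5, 4, 2, 2, 3, 3, 4, 5, 4, 3, 3, 4, 5, 4, 3, 2, 5, 5, 3, 2, 5, 5, 2, 3, 3, 4, 5, 4, 3, 2, 5, 5, 3, 3, 4, 5, 4, 3, 2, 5, 5, 3,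 2, 5, 5, 2, 3, 3, 4, 5, 4]) = true := by decide +kernel

theorem rot3_107 : T.rot 3 [3, 4, 5, 4, 2, 2, 3, 3, 4, 5, 4, 3, 3, 4, 5, 4, 3, 2, 5, 5, 3, 2, 5, 5, 2, 3, 3, 4, 5, 4, 3, 2, 5, 5, 3, 3, 4, 5, 4, 3, 2, 5, 5, 3, 2, 5, 5, 2, 3, 3, 4, 5, 4, 3, 2, 5, 5, 2, 2] (sel (ones 1755) ip3 107) = true := by decide +kernel

theorem rot3_107r : band (Rule.ok (2 * 1) EX RL ⟨3 :: [3, 4, 5, 4, 2, 2, 3, 3, 4, 5, 4, 3, 3, 4, 5, 4, 3, 2, 5, 5, 3, 2, 5, 5, 2, 3, 3, 4, 5, 4, 3, 2, 5, 5, 3, 3, 4, 5, 4, 3, 2, 5, 5, 3, 2, 5, 5, 2, 3, 3, 4, 5, 4, 3, 2, 5, 5, 2, 2], [3, 5, 3, 4, 4, 2, 5, 3, 4, 4], 2, false⟩) (lall (memL L) [3, 4, 5, 4, 2, 2, 3, 3, 4, 5, 4, 3, 3, 4, 5, 4, 3, 2, 5, 5, 3, 2, 5, 5, 2, 3, 3, 4, 5, 4, 3, 2, 5, 5, 3, 3, 4, 5, 4, 3, 2, 5, 5, 3, 2, 5, 5, 2,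 3, 3, 4, 5, 4, 3, 2, 5, 5, 2, 2]) = true := by decide +kernel

theorem rot3_108 : T.rot 3 [3, 4, 5, 4, 3, 3, 4, 5, 4, 3, 2, 5, 5, 3, 2, 5, 5, 2, 3, 3, 4, 5, 4, 3, 2, 5, 5, 3, 3, 4, 5, 4, 3, 2, 5, 5, 3, 2, 5, 5, 2, 3, 3, 4, 5, 4, 3, 2, 5, 5, 2, 2, 3, 3, 4, 5, 4, 2, 2] (sel (ones 1755) ip3 108) = true := by decide +kernel

theorem rot3_108r : band (Rule.ok (2 * 1) EX RL ⟨3 :: [3, 4, 5, 4, 3, 3, 4, 5, 4, 3, 2, 5, 5, 3, 2, 5, 5, 2, 3, 3, 4, 5, 4, 3, 2, 5, 5, 3, 3, 4, 5, 4, 3, 2, 5, 5, 3, 2, 5, 5, 2, 3, 3, 4, 5, 4, 3, 2, 5, 5, 2, 2, 3, 3, 4, 5, 4, 2, 2], [3, 5, 3, 4, 4], 2, false⟩) (lall (memL L) [3, 4, 5, 4, 3, 3, 4, 5, 4, 3, 2, 5, 5, 3, 2, 5, 5, 2, 3, 3, 4, 5, 4, 3, 2, 5, 5, 3, 3, 4, 5, 4, 3, 2, 5, 5, 3, 2, 5, 5, 2, 3, 3, 4, 5, 4, 3, 2, 5, 5, 2,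 2, 3, 3, 4, 5, 4, 2, 2]) = true := by decide +kernel

theorem rot3_109 : T.rot 3 [4, 5, 4, 3, 3, 4, 5, 4, 3, 2, 5, 5, 3, 2, 5, 5, 2, 3, 3, 4, 5, 4, 3, 2, 5, 5, 3, 3, 4, 5, 4, 3, 2, 5, 5, 3, 2, 5, 5, 2, 3, 3, 4, 5, 4, 3, 2, 5, 5, 2, 2, 3, 3, 4, 5, 4, 2, 2, 3] (sel (ones 1755) ip3 109) = true := by decide +kernel

theorem rot3_109r : band (Rule.ok (2 * 1) EX RL ⟨3 :: [4, 5, 4, 3, 3, 4, 5, 4, 3, 2, 5, 5, 3, 2, 5, 5, 2, 3, 3, 4, 5, 4, 3, 2, 5, 5, 3, 3, 4, 5, 4, 3, 2, 5, 5, 3, 2, 5, 5, 2, 3, 3, 4, 5, 4, 3, 2, 5, 5, 2, 2, 3, 3, 4, 5, 4, 2, 2, 3], [3, 5, 3, 4], 2, false⟩) (lall (memL L) [4, 5, 4, 3, 3, 4, 5, 4, 3, 2, 5, 5, 3, 2, 5, 5, 2, 3, 3, 4, 5, 4, 3, 2, 5, 5, 3, 3, 4, 5, 4, 3, 2, 5, 5, 3, 2, 5, 5, 2, 3, 3, 4, 5, 4, 3, 2, 5, 5, 2, 2, 3, 3, 4, 5,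 4, 2, 2, 3]) = true := by decide +kernel

theorem rot3_110 : T.rot 3 [2, 5, 5, 3, 2, 5, 5, 2, 2, 3, 3, 4, 5, 4, 3, 3, 4, 5, 2, 3, 2, 5, 5, 4, 3, 3, 4, 5, 3, 3, 4, 5, 2, 3, 2, 5, 5, 2, 3, 3, 4, 5, 4, 3, 2, 5, 5, 2, 3, 2, 5, 5, 4, 4, 3, 3, 4, 5, 4] (sel (ones 1755) ip3 110) = true := by decide +kernel

theorem rot3_110r : band (Rule.ok (2 * 1) EX RL ⟨3 :: [2, 5, 5, 3, 2, 5, 5, 2, 2, 3, 3, 4, 5, 4, 3, 3, 4, 5, 2, 3, 2, 5, 5, 4, 3, 3, 4, 5, 3, 3, 4, 5, 2, 3, 2, 5, 5, 2, 3, 3, 4, 5, 4, 3, 2, 5, 5, 2, 3, 2, 5, 5, 4, 4, 3, 3, 4, 5, 4], [3, 5, 3, 4, 4, 2, 2, 5, 5, 2, 4, 2], 3, true⟩) (lall (memL L) [2, 5, 5, 3, 2, 5, 5, 2, 2, 3, 3, 4, 5, 4, 3, 3, 4, 5, 2, 3, 2, 5, 5, 4, 3, 3, 4, 5, 3, 3, 4, 5, 2, 3, 2, 5, 5, 2, 3, 3, 4, 5, 4, 3, 2, 5, 5, 2, 3, 2, 5,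 5, 4, 4, 3, 3, 4, 5, 4]) = true := by decide +kernel

theorem rot3_111 : T.rot 3 [3, 4, 5, 4, 3, 3, 4, 5, 2, 3, 2, 5, 5, 4, 3, 3, 4, 5, 3, 3, 4, 5, 2, 3, 2, 5, 5, 2, 3, 3, 4, 5, 4, 3, 2, 5, 5, 2, 3, 2, 5, 5, 4, 4, 3, 3, 4, 5, 4, 3, 2, 5, 5, 3, 2, 5, 5, 2, 2] (sel (ones 1755) ip3 111) = true := by decide +kernel

theorem rot3_111r : band (Rule.ok (2 * 1) EX RL ⟨3 :: [3, 4, 5, 4, 3, 3, 4, 5, 2, 3, 2, 5, 5, 4, 3, 3, 4, 5, 3, 3, 4, 5, 2, 3, 2, 5, 5, 2, 3, 3, 4, 5, 4, 3, 2, 5, 5, 2, 3, 2, 5, 5, 4, 4, 3, 3, 4, 5, 4, 3, 2, 5, 5, 3, 2, 5, 5, 2, 2], [3, 5, 3, 4, 4, 2, 2, 5, 5, 2, 4, 2, 5, 3, 4, 3, 4, 4, 3, 3], 3, true⟩) (lall (memL L) [3, 4, 5, 4, 3, 3, 4, 5, 2, 3, 2, 5, 5, 4, 3, 3, 4, 5, 3, 3, 4, 5, 2, 3, 2, 5, 5, 2, 3, 3, 4, 5, 4, 3, 2, 5, 5, 2, 3,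 2, 5, 5, 4, 4, 3, 3, 4, 5, 4, 3, 2, 5, 5, 3, 2, 5, 5, 2, 2]) = true := by decide +kernel

theorem rot3_112 : T.rot 3 [4, 5, 4, 3, 3, 4, 5, 2, 3, 2, 5, 5, 4, 3, 3, 4, 5, 3, 3, 4, 5, 2, 3, 2, 5, 5, 2, 3, 3, 4, 5, 4, 3, 2, 5, 5, 2, 3, 2, 5, 5, 4, 4, 3, 3, 4, 5, 4, 3, 2, 5, 5, 3, 2, 5, 5, 2, 2, 3] (sel (ones 1755) ip3 112) = true := by decide +kernel

theorem rot3_112r : band (Rule.ok (2 * 1) EX RL ⟨3 :: [4, 5, 4, 3, 3, 4, 5, 2, 3, 2, 5, 5, 4, 3, 3, 4, 5, 3, 3, 4, 5, 2, 3, 2, 5, 5, 2, 3, 3, 4, 5, 4, 3, 2, 5, 5, 2, 3, 2, 5, 5, 4, 4, 3, 3, 4, 5, 4, 3, 2, 5, 5, 3, 2, 5, 5, 2, 2, 3], [3, 5, 3, 4, 4, 2, 2, 5, 5, 2, 4, 2, 5, 3, 4, 3, 4, 4, 3, 3, 5], 3, true⟩) (lall (memL L) [4, 5, 4, 3, 3, 4, 5, 2, 3, 2, 5, 5, 4, 3, 3, 4, 5, 3, 3, 4, 5, 2, 3, 2, 5, 5,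 2, 3, 3, 4, 5, 4, 3, 2, 5, 5, 2, 3, 2, 5, 5, 4, 4, 3, 3, 4, 5, 4, 3, 2, 5, 5, 3, 2, 5, 5, 2, 2, 3]) = true := by decide +kernel

theorem rot3_113 : T.rot 3 [4, 5, 3, 3, 4, 5, 2, 3, 2, 5, 5, 2, 3, 3, 4, 5, 4, 3, 2, 5, 5, 2, 3, 2, 5, 5, 4, 4, 3, 3, 4, 5, 4, 3, 2, 5, 5, 3, 2, 5, 5, 2, 2, 3, 3, 4, 5, 4, 3, 3, 4, 5, 2, 3, 2, 5, 5, 4, 3] (sel (ones 1755) ip3 113) = true := by decide +kernel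

theorem rot3_113r : band (Rule.ok (2 * 1) EX RL ⟨3 :: [4, 5, 3, 3, 4, 5, 2, 3, 2, 5, 5, 2, 3, 3, 4, 5, 4, 3, 2, 5, 5, 2, 3, 2, 5, 5, 4, 4, 3, 3, 4, 5, 4, 3, 2, 5, 5, 3, 2, 5, 5, 2, 2, 3, 3, 4, 5, 4, 3, 3, 4, 5, 2, 3, 2, 5, 5, 4, 3], [5, 5, 2, 4, 3, 5, 3, 4, 4, 2, 5, 5, 2, 4, 2, 5, 3, 4, 3, 4], 3, true⟩) (lall (memL L) [4, 5, 3, 3, 4, 5, 2, 3, 2, 5, 5, 2, 3, 3, 4, 5, 4, 3, 2, 5, 5, 2, 3, 2, 5, 5, 4, 4, 3, 3, 4, 5, 4, 3, 2, 5, 5, 3, 2, 5, 5, 2, 2, 3, 3, 4, 5, 4, 3, 3, 4, 5, 2, 3, 2, 5, 5, 4, 3]) = true := by decide +kernel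

theorem rot3_114 : T.rot 3 [4, 5, 2, 3, 2, 5, 5, 2, 3, 3, 4, 5, 4, 3, 2, 5, 5, 2, 3, 2, 5, 5, 4, 4, 3, 3, 4, 5, 4, 3, 2, 5, 5, 3, 2, 5, 5, 2, 2, 3, 3, 4, 5, 4, 3, 3, 4, 5, 2, 3, 2, 5, 5, 4, 3, 3, 4, 5, 3] (sel (ones 1755) ip3 114) = true := by decide +kernel

theorem rot3_114r : band (Rule.ok (2 * 1) EX RL ⟨3 :: [4, 5, 2, 3, 2, 5, 5, 2, 3, 3, 4, 5, 4, 3, 2, 5, 5, 2, 3, 2, 5, 5, 4, 4, 3, 3, 4, 5, 4, 3, 2, 5, 5, 3, 2, 5, 5, 2, 2, 3, 3, 4, 5, 4, 3, 3, 4, 5, 2, 3, 2, 5, 5, 4, 3, 3, 4, 5, 3], [5, 5, 2, 4, 3, 5, 3, 4, 4, 2, 5, 5, 2, 4, 2, 5, 3, 4], 3, true⟩) (lall (memL L) [4, 5, 2, 3, 2, 5, 5, 2, 3, 3, 4, 5, 4, 3, 2, 5, 5, 2, 3, 2, 5, 5, 4, 4, 3, 3, 4, 5, 4, 3, 2, 5, 5, 3, 2, 5, 5, 2, 2, 3, 3, 4, 5, 4, 3, 3, 4, 5, 2, 3, 2, 5, 5, 4, 3, 3, 4, 5, 3])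 = true := by decide +kernel

theorem rot3_115 : T.rot 3 [4, 5, 4, 3, 2, 5, 5, 2, 3, 2, 5, 5, 4, 4, 3, 3, 4, 5, 4, 3, 2, 5, 5, 3, 2, 5, 5, 2, 2, 3, 3, 4, 5, 4, 3, 3, 4, 5, 2, 3, 2, 5, 5, 4, 3, 3, 4, 5, 3, 3, 4, 5, 2, 3, 2, 5, 5, 2, 3] (sel (ones 1755) ip3 115) = true := by decide +kernel

theorem rot3_115r : band (Rule.ok (2 * 1) EX RL ⟨3 :: [4, 5, 4, 3, 2, 5, 5, 2, 3, 2, 5, 5, 4, 4, 3, 3, 4, 5, 4, 3, 2, 5, 5, 3, 2, 5, 5, 2, 2, 3, 3, 4, 5, 4, 3, 3, 4, 5, 2, 3, 2, 5, 5, 4, 3, 3, 4, 5, 3, 3, 4, 5, 2, 3, 2, 5, 5, 2, 3], [5, 5, 2, 4, 3, 5, 3, 4], 3, true⟩) (lall (memL L) [4, 5, 4, 3, 2, 5, 5, 2, 3, 2, 5, 5, 4, 4, 3, 3, 4, 5, 4, 3, 2, 5, 5, 3, 2, 5, 5, 2, 2, 3, 3, 4, 5, 4, 3, 3, 4, 5, 2, 3, 2, 5, 5, 4, 3, 3, 4, 5, 3, 3, 4, 5, 2, 3, 2, 5, 5, 2, 3])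 = true := by decide +kernel

theorem rot3_116 : T.rot 3 [4, 5, 3, 3, 4, 5, 2, 3, 2, 5, 5, 2, 2, 3, 3, 4, 5, 4, 3, 3, 4, 5, 2, 3, 2, 5, 5, 4, 3, 3, 4, 5, 4, 3, 2, 5, 5, 3, 2, 5, 5, 2, 3, 3, 4, 5, 4, 3, 2, 5, 5, 2, 3, 2, 5, 5, 4, 4, 3] (sel (ones 1755) ip3 116) = true := by decide +kernel

theorem rot3_116r : band (Rule.ok (2 * 1) EX RL ⟨3 :: [4, 5, 3, 3, 4, 5, 2, 3, 2, 5, 5, 2, 2, 3, 3, 4, 5, 4, 3, 3, 4, 5, 2, 3, 2, 5, 5, 4, 3, 3, 4, 5, 4, 3, 2, 5, 5, 3, 2, 5, 5, 2, 3, 3, 4, 5, 4, 3, 2, 5, 5, 2, 3, 2, 5, 5, 4, 4, 3], [3, 5, 3, 4, 4, 2, 2, 5, 5, 2, 4, 2, 5, 3, 4, 3, 4], 3, false⟩) (lall (memL L) [4, 5, 3, 3, 4, 5, 2, 3, 2, 5, 5, 2, 2, 3, 3, 4, 5, 4, 3, 3, 4, 5, 2, 3, 2, 5, 5, 4, 3, 3, 4, 5, 4, 3, 2, 5, 5, 3, 2, 5, 5, 2, 3, 3, 4, 5, 4, 3, 2, 5,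 5, 2, 3, 2, 5, 5, 4, 4, 3]) = true := by decide +kernel

theorem rot3_117 : T.rot 3 [4, 5, 2, 3, 2, 5, 5, 2, 2, 3, 3, 4, 5, 4, 3, 3, 4, 5, 2, 3, 2, 5, 5, 4, 3, 3, 4, 5, 4, 3, 2, 5, 5, 3, 2, 5, 5, 2, 3, 3, 4, 5, 4, 3, 2, 5, 5, 2, 3, 2, 5, 5, 4, 4, 3, 3, 4, 5, 3] (sel (ones 1755) ip3 117) = true := by decide +kernel

theorem rot3_117r : band (Rule.ok (2 * 1) EX RL ⟨3 :: [4, 5, 2, 3, 2, 5, 5, 2, 2, 3, 3, 4, 5, 4, 3, 3, 4, 5, 2, 3, 2, 5, 5, 4, 3, 3, 4, 5, 4, 3, 2, 5, 5, 3, 2, 5, 5, 2, 3, 3, 4, 5, 4, 3, 2, 5, 5, 2, 3, 2, 5, 5, 4, 4, 3, 3, 4, 5, 3], [3, 5, 3, 4, 4, 2, 2, 5, 5, 2, 4, 2, 5, 3, 4], 3, false⟩) (lall (memL L) [4, 5, 2, 3, 2, 5, 5, 2, 2, 3, 3, 4, 5, 4, 3, 3, 4, 5, 2, 3, 2, 5, 5, 4, 3, 3, 4, 5, 4, 3, 2, 5, 5, 3, 2, 5, 5, 2, 3, 3, 4, 5, 4,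 3, 2, 5, 5, 2, 3, 2, 5, 5, 4, 4, 3, 3, 4, 5, 3]) = true := by decide +kernel

theorem rot3_118 : T.rot 3 [2, 5, 5, 4, 4, 2, 3, 3, 4, 5, 4, 3, 2, 5, 5, 3, 3, 4, 5, 4, 3, 2, 5, 5, 3, 2, 5, 5, 3, 3, 4, 5, 2, 3, 2, 5, 5, 4, 2, 2, 3, 3, 4, 5, 4, 3, 3, 4, 5, 3, 3, 4, 5, 2, 3, 2, 5, 5, 2] (sel (ones 1755) ip3 118) = true := by decide +kernel

theorem rot3_118r : band (Rule.ok (2 * 1) EX RL ⟨3 :: [2, 5, 5, 4, 4, 2, 3, 3, 4, 5, 4, 3, 2, 5, 5, 3, 3, 4, 5, 4, 3, 2, 5, 5, 3, 2, 5, 5, 3, 3, 4, 5, 2, 3, 2, 5, 5, 4, 2, 2, 3, 3, 4, 5, 4, 3, 3, 4, 5, 3, 3, 4, 5, 2, 3, 2, 5, 5, 2], [3], 5, true⟩) (lall (memL L) [2, 5, 5, 4, 4, 2, 3, 3, 4, 5, 4, 3, 2, 5, 5, 3, 3, 4, 5, 4, 3, 2, 5, 5, 3, 2, 5, 5, 3, 3, 4, 5, 2, 3, 2, 5, 5, 4, 2, 2, 3, 3, 4, 5, 4, 3, 3, 4, 5, 3,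 3, 4, 5, 2, 3, 2, 5, 5, 2]) = true := by decide +kernel

theorem rot3_119 : T.rot 3 [4, 5, 4, 3, 2, 5, 5, 3, 3, 4, 5, 4, 3, 2, 5, 5, 3, 2, 5, 5, 3, 3, 4, 5, 2, 3, 2, 5, 5, 4, 2, 2, 3, 3, 4, 5, 4, 3, 3, 4, 5, 3, 3, 4, 5, 2, 3, 2, 5, 5, 2, 3, 2, 5, 5, 4, 4, 2, 3] (sel (ones 1755) ip3 119) = true := by decide +kernel

theorem rot3_119r : band (Rule.ok (2 * 1) EX RL ⟨3 :: [4, 5, 4, 3, 2, 5, 5, 3, 3, 4, 5, 4, 3, 2, 5, 5, 3, 2, 5, 5, 3, 3, 4, 5, 2, 3, 2, 5, 5, 4, 2, 2, 3, 3, 4, 5, 4, 3, 3, 4, 5, 3, 3, 4, 5, 2, 3, 2, 5, 5, 2, 3, 2, 5, 5, 4, 4, 2, 3], [3, 5, 3, 4, 4, 2, 5], 5, true⟩) (lall (memL L) [4, 5, 4, 3, 2, 5, 5, 3, 3, 4, 5, 4, 3, 2, 5, 5, 3, 2, 5, 5, 3, 3, 4, 5, 2, 3, 2, 5, 5, 4, 2, 2, 3, 3, 4, 5, 4, 3, 3, 4, 5, 3, 3, 4, 5, 2, 3, 2, 5, 5, 2,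 3, 2, 5, 5, 4, 4, 2, 3]) = true := by decide +kernel

theorem rot3_120 : T.rot 3 [3, 4, 5, 4, 3, 3, 4, 5, 3, 3, 4, 5, 2, 3, 2, 5, 5, 2, 3, 2, 5, 5, 4, 4, 2, 3, 3, 4, 5, 4, 3, 2, 5, 5, 3, 3, 4, 5, 4, 3, 2, 5, 5, 3, 2, 5, 5, 3, 3, 4, 5, 2, 3, 2, 5, 5, 4, 2, 2] (sel (ones 1755) ip3 120) = true := by decide +kernel

theorem rot3_120r : band (Rule.ok (2 * 1) EX RL ⟨3 :: [3, 4, 5, 4, 3, 3, 4, 5, 3, 3, 4, 5, 2, 3, 2, 5, 5, 2, 3, 2, 5, 5, 4, 4, 2, 3, 3, 4, 5, 4, 3, 2, 5, 5, 3, 3, 4, 5, 4, 3, 2, 5, 5, 3, 2, 5, 5, 3, 3, 4, 5, 2, 3, 2, 5, 5, 4, 2, 2], [5, 5, 2, 4, 2, 5, 3, 4, 3, 4, 4, 3, 5, 3, 4, 4], 5, true⟩) (lall (memL L) [3, 4, 5, 4, 3, 3, 4, 5, 3, 3, 4, 5, 2, 3, 2, 5, 5, 2, 3, 2, 5, 5, 4, 4, 2, 3, 3, 4, 5, 4, 3, 2, 5, 5, 3, 3, 4, 5, 4, 3, 2, 5, 5,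 3, 2, 5, 5, 3, 3, 4, 5, 2, 3, 2, 5, 5, 4, 2, 2]) = true := by decide +kernel

theorem rot3_121 : T.rot 3 [4, 5, 4, 3, 3, 4, 5, 3, 3, 4, 5, 2, 3, 2, 5, 5, 2, 3, 2, 5, 5, 4, 4, 2, 3, 3, 4, 5, 4, 3, 2, 5, 5, 3, 3, 4, 5, 4, 3, 2, 5, 5, 3, 2, 5, 5, 3, 3, 4, 5, 2, 3, 2, 5, 5, 4, 2, 2, 3] (sel (ones 1755) ip3 121) = true := by decide +kernel

theorem rot3_121r : band (Rule.ok (2 * 1) EX RL ⟨3 :: [4, 5, 4, 3, 3, 4, 5, 3, 3, 4, 5, 2, 3, 2, 5, 5, 2, 3, 2, 5, 5, 4, 4, 2, 3, 3, 4, 5, 4, 3, 2, 5, 5, 3, 3, 4, 5, 4, 3, 2, 5, 5, 3, 2, 5, 5, 3, 3, 4, 5, 2, 3, 2, 5, 5, 4, 2, 2, 3], [5, 5, 2, 4, 2, 5, 3, 4, 3, 4, 4, 3, 5, 3, 4], 5, true⟩) (lall (memL L) [4, 5, 4, 3, 3, 4, 5, 3, 3, 4, 5, 2, 3, 2, 5, 5, 2, 3, 2, 5, 5, 4, 4, 2, 3, 3, 4, 5, 4, 3, 2, 5, 5, 3, 3, 4,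 5, 4, 3, 2, 5, 5, 3, 2, 5, 5, 3, 3, 4, 5, 2, 3, 2, 5, 5, 4, 2, 2, 3]) = true := by decide +kernel

theorem rot3_122 : T.rot 3 [4, 5, 3, 3, 4, 5, 2, 3, 2, 5, 5, 2, 3, 2, 5, 5, 4, 4, 2, 3, 3, 4, 5, 4, 3, 2, 5, 5, 3, 3, 4, 5, 4, 3, 2, 5, 5, 3, 2, 5, 5, 3, 3, 4, 5, 2, 3, 2, 5, 5, 4, 2, 2, 3, 3, 4, 5, 4, 3] (sel (ones 1755) ip3 122) = true := by decide +kernel

theorem rot3_122r : band (Rule.ok (2 * 1) EX RL ⟨3 :: [4, 5, 3, 3, 4, 5, 2, 3, 2, 5, 5, 2, 3, 2, 5, 5, 4, 4, 2, 3, 3, 4, 5, 4, 3, 2, 5, 5, 3, 3, 4, 5, 4, 3, 2, 5, 5, 3, 2, 5, 5, 3, 3, 4, 5, 2, 3, 2, 5, 5, 4, 2, 2, 3, 3, 4, 5, 4, 3], [5, 5, 2, 4, 2, 5, 3, 4, 3, 4], 5, true⟩) (lall (memL L) [4, 5, 3, 3, 4, 5, 2, 3, 2, 5, 5, 2, 3, 2, 5, 5, 4, 4, 2, 3, 3, 4, 5, 4, 3, 2, 5, 5, 3, 3, 4, 5, 4, 3,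 2, 5, 5, 3, 2, 5, 5, 3, 3, 4, 5, 2, 3, 2, 5, 5, 4, 2, 2, 3, 3, 4, 5, 4, 3]) = true := by decide +kernel

theorem rot3_123 : T.rot 3 [3, 4, 5, 4, 3, 2, 5, 5, 3, 2, 5, 5, 2, 3, 2, 5, 5, 4, 4, 2, 3, 3, 4, 5, 4, 3, 2, 5, 5, 3, 3, 4, 5, 3, 3, 4, 5, 2, 3, 2, 5, 5, 3, 3, 4, 5, 2, 3, 2, 5, 5, 4, 2, 2, 3, 3, 4, 5, 4] (sel (ones 1755) ip3 123) = true := by decide +kernel

theorem rot3_123r : band (Rule.ok (2 * 1) EX RL ⟨3 :: [3, 4, 5, 4, 3, 2, 5, 5, 3, 2, 5, 5, 2, 3, 2, 5, 5, 4, 4, 2, 3, 3, 4, 5, 4, 3, 2, 5, 5, 3, 3, 4, 5, 3, 3, 4, 5, 2, 3, 2, 5, 5, 3, 3, 4, 5, 2, 3, 2, 5, 5, 4, 2, 2, 3, 3, 4, 5, 4], [], 5, false⟩) (lall (memL L) [3, 4, 5, 4, 3, 2, 5, 5, 3, 2, 5, 5, 2, 3, 2, 5, 5, 4, 4, 2, 3, 3, 4, 5, 4, 3, 2, 5, 5, 3, 3, 4, 5, 3, 3, 4, 5, 2, 3, 2, 5,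 5, 3, 3, 4, 5, 2, 3, 2, 5, 5, 4, 2, 2, 3, 3, 4, 5, 4]) = true := by decide +kernel

theorem rot3_124 : T.rot 3 [2, 5, 5, 3, 2, 5, 5, 2, 3, 2, 5, 5, 4, 4, 2, 3, 3, 4, 5, 4, 3, 2, 5, 5, 3, 3, 4, 5, 3, 3, 4, 5, 2, 3, 2, 5, 5, 3, 3, 4, 5, 2, 3, 2, 5, 5, 4, 2, 2, 3, 3, 4, 5, 4, 3, 3, 4, 5, 4] (sel (ones 1755) ip3 124) = true := by decide +kernel

theorem rot3_124r : band (Rule.ok (2 * 1) EX RL ⟨3 :: [2, 5, 5, 3, 2, 5, 5, 2, 3, 2, 5, 5, 4, 4, 2, 3, 3, 4, 5, 4, 3, 2, 5, 5, 3, 3, 4, 5, 3, 3, 4, 5, 2, 3, 2, 5, 5, 3, 3, 4, 5, 2, 3, 2, 5, 5, 4, 2, 2, 3, 3, 4, 5, 4, 3, 3, 4, 5, 4], [5, 5, 2, 4, 2], 5, false⟩) (lall (memL L) [2, 5, 5, 3, 2, 5, 5, 2, 3, 2, 5, 5, 4, 4, 2, 3, 3, 4, 5, 4, 3, 2, 5, 5, 3, 3, 4, 5, 3, 3, 4, 5, 2, 3, 2, 5, 5, 3, 3, 4, 5, 2, 3, 2,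 5, 5, 4, 2, 2, 3, 3, 4, 5, 4, 3, 3, 4, 5, 4]) = true := by decide +kernel

theorem rot3_125 : T.rot 3 [2, 5, 5, 4, 4, 2, 3, 3, 4, 5, 4, 3, 2, 5, 5, 3, 3, 4, 5, 3, 3, 4, 5, 2, 3, 2, 5, 5, 3, 3, 4, 5, 2, 3, 2, 5, 5, 4, 2, 2, 3, 3, 4, 5, 4, 3, 3, 4, 5, 4, 3, 2, 5, 5, 3, 2, 5, 5, 2] (sel (ones 1755) ip3 125) = true := by decide +kernel

theorem rot3_125r : band (Rule.ok (2 * 1) EX RL ⟨3 :: [2, 5, 5, 4, 4, 2, 3, 3, 4, 5, 4, 3, 2, 5, 5, 3, 3, 4, 5, 3, 3, 4, 5, 2, 3, 2, 5, 5, 3, 3, 4, 5, 2, 3, 2, 5, 5, 4, 2, 2, 3, 3, 4, 5, 4, 3, 3, 4, 5, 4, 3, 2, 5, 5, 3, 2, 5, 5, 2], [5, 5, 2, 4, 2, 5, 3, 4, 3, 4, 4, 3], 5, false⟩) (lall (memL L) [2, 5, 5, 4, 4, 2, 3, 3, 4, 5, 4, 3, 2, 5, 5, 3, 3, 4, 5, 3, 3, 4, 5, 2, 3, 2, 5, 5, 3, 3, 4, 5, 2, 3, 2, 5, 5, 4, 2, 2,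 3, 3, 4, 5, 4, 3, 3, 4, 5, 4, 3, 2, 5, 5, 3, 2, 5, 5, 2]) = true := by decide +kernel

theorem rot3_126 : T.rot 3 [4, 5, 4, 3, 2, 5, 5, 3, 3, 4, 5, 3, 3, 4, 5, 2, 3, 2, 5, 5, 3, 3, 4, 5, 2, 3, 2, 5, 5, 4, 2, 2, 3, 3, 4, 5, 4, 3, 3, 4, 5, 4, 3, 2, 5, 5, 3, 2, 5, 5, 2, 3, 2, 5, 5, 4, 4, 2, 3] (sel (ones 1755) ip3 126) = true := by decide +kernel

theorem rot3_126r : band (Rule.ok (2 * 1) EX RL ⟨3 :: [4, 5, 4, 3, 2, 5, 5, 3, 3, 4, 5, 3, 3, 4, 5, 2, 3, 2, 5, 5, 3, 3, 4, 5, 2, 3, 2, 5, 5, 4, 2, 2, 3, 3, 4, 5, 4, 3, 3, 4, 5, 4, 3, 2, 5, 5, 3, 2, 5, 5, 2, 3, 2, 5, 5, 4, 4, 2, 3], [5, 5, 2, 4, 2, 5, 3, 4, 3, 4, 4, 3, 5, 3, 4, 4, 2, 5], 5, false⟩) (lall (memL L) [4, 5, 4, 3, 2, 5, 5, 3, 3, 4, 5, 3, 3, 4, 5, 2, 3, 2, 5, 5, 3, 3, 4, 5, 2, 3, 2, 5, 5, 4,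 2, 2, 3, 3, 4, 5, 4, 3, 3, 4, 5, 4, 3, 2, 5, 5, 3, 2, 5, 5, 2, 3, 2, 5, 5, 4, 4, 2, 3]) = true := by decide +kernel

theorem rot3_127 : T.rot 3 [4, 5, 2, 3, 2, 5, 5, 4, 3, 3, 4, 5, 3, 3, 4, 5, 2, 3, 2, 5, 5, 2, 3, 2, 5, 5, 4, 4, 3, 3, 4, 5, 2, 3, 2, 5, 5, 4, 3, 3, 4, 5, 3, 3, 4, 5, 2, 3, 2, 5, 5, 2, 3, 2, 5, 5, 4, 4, 3] (sel (ones 1755) ip3 127) = true := by decide +kernel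

theorem rot3_127r : band (Rule.ok (2 * 1) EX RL ⟨3 :: [4, 5, 2, 3, 2, 5, 5, 4, 3, 3, 4, 5, 3, 3, 4, 5, 2, 3, 2, 5, 5, 2, 3, 2, 5, 5, 4, 4, 3, 3, 4, 5, 2, 3, 2, 5, 5, 4, 3, 3, 4, 5, 3, 3, 4, 5, 2, 3, 2, 5, 5, 2, 3, 2, 5, 5, 4, 4, 3], [3, 5, 3, 4, 4, 2, 2, 5], 6, true⟩) (lall (memL L) [4, 5, 2, 3, 2, 5, 5, 4, 3, 3, 4, 5, 3, 3, 4, 5, 2, 3, 2, 5, 5, 2, 3, 2, 5, 5, 4, 4, 3, 3, 4, 5, 2, 3, 2, 5, 5, 4, 3, 3, 4, 5, 3, 3, 4, 5, 2, 3, 2, 5, 5, 2, 3, 2, 5, 5, 4, 4, 3]) = true := by decide +kernel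

theorem rot3_128 : T.rot 3 [4, 5, 3, 3, 4, 5, 2, 3, 2, 5, 5, 2, 3, 2, 5, 5, 4, 4, 3, 3, 4, 5, 2, 3, 2, 5, 5, 4, 3, 3, 4, 5, 3, 3, 4, 5, 2, 3, 2, 5, 5, 2, 3, 2, 5, 5, 4, 4, 3, 3, 4, 5, 2, 3, 2, 5, 5, 4, 3] (sel (ones 1755) ip3 128) = true := by decide +kernel

theorem rot3_128r : band (Rule.ok (2 * 1) EX RL ⟨3 :: [4, 5, 3, 3, 4, 5, 2, 3, 2, 5, 5, 2, 3, 2, 5, 5, 4, 4, 3, 3, 4, 5, 2, 3, 2, 5, 5, 4, 3, 3, 4, 5, 3, 3, 4, 5, 2, 3, 2, 5, 5, 2, 3, 2, 5, 5, 4, 4, 3, 3, 4, 5, 2, 3, 2, 5, 5, 4, 3], [5, 5, 2, 4, 2, 5, 3, 4, 3, 4], 6, true⟩) (lall (memL L) [4, 5, 3, 3, 4, 5, 2, 3, 2, 5, 5, 2, 3, 2, 5, 5, 4, 4, 3, 3, 4, 5, 2, 3, 2, 5, 5, 4, 3, 3, 4, 5, 3, 3, 4, 5, 2, 3, 2, 5, 5, 2, 3, 2, 5, 5, 4, 4, 3, 3, 4, 5, 2, 3, 2, 5, 5, 4, 3]) = true := by decide +kernel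

theorem rot3_129 : T.rot 3 [3, 4, 5, 4, 3, 2, 5, 5, 3, 2, 5, 5, 2, 3, 3, 4, 5, 4, 3, 2, 5, 5, 2, 2, 3, 3, 4, 5, 4, 3, 3, 4, 5, 4, 3, 2, 5, 5, 3, 2, 5, 5, 2, 3, 3, 4, 5, 4, 3, 2, 5, 5, 2, 2, 3, 3, 4, 5, 4] (sel (ones 1755) ip3 129) = true := by decide +kernel

theorem rot3_129r : band (Rule.ok (2 * 1) EX RL ⟨3 :: [3, 4, 5, 4, 3, 2, 5, 5, 3, 2, 5, 5, 2, 3, 3, 4, 5, 4, 3, 2, 5, 5, 2, 2, 3, 3, 4, 5, 4, 3, 3, 4, 5, 4, 3, 2, 5, 5, 3, 2, 5, 5, 2, 3, 3, 4, 5, 4, 3, 2, 5, 5, 2, 2, 3, 3, 4, 5, 4], [], 6, false⟩) (lall (memL L) [3, 4, 5, 4, 3, 2, 5, 5, 3, 2, 5, 5, 2, 3, 3, 4, 5, 4, 3, 2, 5, 5, 2, 2, 3, 3, 4, 5, 4, 3, 3, 4, 5, 4, 3, 2, 5, 5, 3, 2, 5, 5, 2, 3, 3, 4, 5, 4, 3, 2, 5, 5, 2, 2, 3, 3, 4, 5, 4]) = true := by decide +kernel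

theorem rot3_130 : T.rot 3 [3, 4, 5, 4, 3, 2, 5, 5, 2, 2, 3, 3, 4, 5, 4, 3, 3, 4, 5, 4, 3, 2, 5, 5, 3, 2, 5, 5, 2, 3, 3, 4, 5, 4, 3, 2, 5, 5, 2, 2, 3, 3, 4, 5, 4, 3, 3, 4, 5, 4, 3, 2, 5, 5, 3, 2, 5, 5, 2] (sel (ones 1755) ip3 130) = true := by decide +kernel

theorem rot3_130r : band (Rule.ok (2 * 1) EX RL ⟨3 :: [3, 4, 5, 4, 3, 2, 5, 5, 2, 2, 3, 3, 4, 5, 4, 3, 3, 4, 5, 4, 3, 2, 5, 5, 3, 2, 5, 5, 2, 3, 3, 4, 5, 4, 3, 2, 5, 5, 2, 2, 3, 3, 4, 5, 4, 3, 3, 4, 5, 4, 3, 2, 5, 5, 3, 2, 5, 5, 2], [5, 5, 2, 4, 2, 5, 3, 4, 3, 4, 4, 3], 6, false⟩) (lall (memL L) [3, 4, 5, 4, 3, 2, 5, 5, 2, 2, 3, 3, 4, 5, 4, 3, 3, 4, 5, 4, 3, 2, 5, 5, 3, 2, 5, 5, 2, 3, 3, 4, 5, 4, 3, 2, 5, 5, 2, 2, 3, 3, 4, 5, 4, 3, 3, 4, 5, 4, 3, 2, 5, 5, 3, 2, 5, 5, 2]) = true := by decide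 +kernel

theorem rot3_131 : T.rot 3 [4, 5, 4, 3, 2, 5, 5, 2, 2, 3, 3, 4, 5, 4, 3, 3, 4, 5, 4, 3, 2, 5, 5, 3, 2, 5, 5, 2, 3, 3, 4, 5, 4, 3, 2, 5, 5, 2, 2, 3, 3, 4, 5, 4, 3, 3, 4, 5, 4, 3, 2, 5, 5, 3, 2, 5, 5, 2, 3] (sel (ones 1755) ip3 131) = true := by decide +kernel

theorem rot3_131r : band (Rule.ok (2 * 1) EX RL ⟨3 :: [4, 5, 4, 3, 2, 5, 5, 2, 2, 3, 3, 4, 5, 4, 3, 3, 4, 5, 4, 3, 2, 5, 5, 3, 2, 5, 5, 2, 3, 3, 4, 5, 4, 3, 2, 5, 5, 2, 2, 3, 3, 4, 5, 4, 3, 3, 4, 5, 4, 3, 2, 5, 5, 3, 2, 5, 5, 2, 3], [5, 5, 2, 4, 2, 5, 3, 4, 3, 4, 4, 3, 5], 6, false⟩) (lall (memL L) [4, 5, 4, 3, 2, 5, 5, 2, 2, 3, 3, 4, 5, 4, 3, 3, 4, 5, 4, 3, 2, 5, 5, 3, 2, 5, 5, 2, 3, 3, 4, 5, 4, 3, 2, 5, 5, 2, 2, 3, 3, 4, 5, 4, 3, 3, 4, 5, 4, 3, 2, 5, 5, 3, 2, 5, 5, 2, 3]) = true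 := by decide +kernel

theorem cov3 : T.cover 3 [(sel (ones 1755) ip3 1), (sel (ones 1755) ip3 2), (sel (ones 1755) ip3 3), (sel (ones 1755) ip3 4), (sel (ones 1755) ip3 5), (sel (ones 1755) ip3 6), (sel (ones 1755) ip3 7), (sel (ones 1755) ip3 8), (sel (ones 1755) ip3 9), (sel (ones 1755) ip3 10), (sel (ones 1755) ip3 11), (sel (ones 1755) ip3 12), (sel (ones 1755) ip3 13), (sel (ones 1755) ip3 14), (sel (ones 1755) ip3 15), (sel (ones 1755) ip3 16), (sel (ones 1755) ip3 17), (sel (ones 1755) ip3 18), (sel (ones 1755) ip3 19), (sel (ones 1755) ip3 20), (sel (ones 1755) ip3 21), (sel (ones 1755) ip3 22), (sel (ones 1755) ip3 23), (sel (ones 1755) ip3 24), (sel (ones 1755) ip3 25), (sel (ones 1755) ip3 26), (sel (ones 1755) ip3 27), (sel (ones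 1755) ip3 28), (sel (ones 1755) ip3 29), (sel (ones 1755) ip3 30), (sel (ones 1755) ip3 31), (sel (ones 1755) ip3 32), (sel (ones 1755) ip3 33), (sel (ones 1755) ip3 34), (sel (ones 1755) ip3 35), (sel (ones 1755) ip3 36), (sel (ones 1755) ip3 37), (sel (ones 1755) ip3 38), (sel (ones 1755) ip3 39), (sel (ones 1755) ip3 40), (sel (ones 1755) ip3 41), (sel (ones 1755) ip3 42), (sel (ones 1755) ip3 43), (sel (ones 1755) ip3 44), (sel (ones 1755) ip3 45), (sel (ones 1755) ip3 46), (sel (ones 1755) ip3 47), (sel (ones 1755) ip3 48), (sel (ones 1755) ip3 49), (sel (ones 1755) ip3 50), (sel (ones 1755) ip3 51), (sel (ones 1755) ip3 52), (sel (ones 1755) ip3 53), (sel (ones 1755) ip3 54), (sel (ones 1755) ip3 55), (sel (ones 1755) ip3 56), (sel (ones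 1755) ip3 57), (sel (ones 1755) ip3 58), (sel (ones 1755) ip3 59), (sel (ones 1755) ip3 60), (sel (ones 1755) ip3 61), (sel (ones 1755) ip3 62), (sel (ones 1755) ip3 63), (sel (ones 1755) ip3 64), (sel (ones 1755) ip3 65), (sel (ones 1755) ip3 66), (sel (ones 1755) ip3 67), (sel (ones 1755) ip3 68), (sel (ones 1755) ip3 69), (sel (ones 1755) ip3 70), (sel (ones 1755) ip3 71), (sel (ones 1755) ip3 72), (sel (ones 1755) ip3 73), (sel (ones 1755) ip3 74), (sel (ones 1755) ip3 75), (sel (ones 1755) ip3 76), (sel (ones 1755) ip3 77), (sel (ones 1755) ip3 78), (sel (ones 1755) ip3 79), (sel (ones 1755) ip3 80), (sel (ones 1755) ip3 81), (sel (ones 1755) ip3 82), (sel (ones 1755) ip3 83), (sel (ones 1755) ip3 84), (sel (ones 1755) ip3 85), (sel (ones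 1755) ip3 86), (sel (ones 1755) ip3 87), (sel (ones 1755) ip3 88), (sel (ones 1755) ip3 89), (sel (ones 1755) ip3 90), (sel (ones 1755) ip3 91), (sel (ones 1755) ip3 92), (sel (ones 1755) ip3 93), (sel (ones 1755) ip3 94), (sel (ones 1755) ip3 95), (sel (ones 1755) ip3 96), (sel (ones 1755) ip3 97), (sel (ones 1755) ip3 98), (sel (ones 1755) ip3 99), (sel (ones 1755) ip3 100), (sel (ones 1755) ip3 101), (sel (ones 1755) ip3 102), (sel (ones 1755) ip3 103), (sel (ones 1755) ip3 104), (sel (ones 1755) ip3 105), (sel (ones 1755) ip3 106), (sel (ones 1755) ip3 107), (sel (ones 1755) ip3 108), (sel (ones 1755) ip3 109), (sel (ones 1755) ip3 110), (sel (ones 1755) ip3 111), (sel (ones 1755) ip3 112), (sel (ones 1755) ip3 113), (sel (ones 1755) ip3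 114), (sel (ones 1755) ip3 115), (sel (ones 1755) ip3 116), (sel (ones 1755) ip3 117), (sel (ones 1755) ip3 118), (sel (ones 1755) ip3 119), (sel (ones 1755) ip3 120), (sel (ones 1755) ip3 121), (sel (ones 1755) ip3 122), (sel (ones 1755) ip3 123), (sel (ones 1755) ip3 124), (sel (ones 1755) ip3 125), (sel (ones 1755) ip3 126), (sel (ones 1755) ip3 127), (sel (ones 1755) ip3 128), (sel (ones 1755) ip3 129), (sel (ones 1755) ip3 130), (sel (ones 1755) ip3 131), 1] = true := by decide +kernel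

theorem tl3 : T.treeLt 11 3 = true := by decide +kernel

theorem rot4_1 : T.rot 4 [2] (sel (ones 1755) ip4 1) = true := by decide +kernel

theorem rot4_1r : band (Rule.ok (2 * 1) EX RL ⟨4 :: [2], [], 25, false⟩) (lall (memL L) [2]) = true := by decide +kernel

theorem rot4_2 : T.rot 4 [4, 4, 4] (sel (ones 1755) ip4 2) = true := by decide +kernel

theorem rot4_2r : band (Rule.ok (2 * 1) EX RL ⟨4 :: [4, 4, 4], [], 9, false⟩) (lall (memL L) [4, 4, 4]) = true := by decide +kernel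

theorem rot4_3 : T.rot 4 [3, 4, 3, 4, 3, 4, 3] (sel (ones 1755) ip4 3) = true := by decide +kernel

theorem rot4_3r : band (Rule.ok (2 * 1) EX RL ⟨4 :: [3, 4, 3, 4, 3, 4, 3], [], 14, true⟩) (lall (memL L) [3, 4, 3, 4, 3, 4, 3]) = true := by decide +kernel

theorem rot4_4 : T.rot 4 [5, 4, 5, 4, 5, 4, 5] (sel (ones 1755) ip4 4) = true := by decide +kernel

theorem rot4_4r : band (Rule.ok (2 * 1) EX RL ⟨4 :: [5, 4, 5, 4, 5, 4, 5], [], 16, false⟩) (lall (memL L) [5, 4, 5, 4, 5, 4, 5]) = true := by decide +kernel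

theorem rot4_5 : T.rot 4 [5, 5, 2, 5, 4, 5, 5, 2, 5] (sel (ones 1755) ip4 5) = true := by decide +kernel

theorem rot4_5r : band (Rule.ok (2 * 1) EX RL ⟨4 :: [5, 5, 2, 5, 4, 5, 5, 2, 5], [3, 4], 15, true⟩) (lall (memL L) [5, 5, 2, 5, 4, 5, 5, 2, 5]) = true := by decide +kernel

theorem rot4_6 : T.rot 4 [3, 3, 2, 3, 4, 3, 3, 2, 3] (sel (ones 1755) ip4 6) = true := by decide +kernel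

theorem rot4_6r : band (Rule.ok (2 * 1) EX RL ⟨4 :: [3, 3, 2, 3, 4, 3, 3, 2, 3], [3], 15, false⟩) (lall (memL L) [3, 3, 2, 3, 4, 3, 3, 2, 3]) = true := by decide +kernel

theorem rot4_7 : T.rot 4 [5, 2, 3, 2, 5, 5, 4, 3, 1, 2, 1, 3] (sel (ones 1755) ip4 7) = true := by decide +kernel

theorem rot4_7r : band (Rule.ok (2 * 1) EX RL ⟨4 :: [5, 2, 3, 2, 5, 5, 4, 3, 1, 2, 1, 3], [0, 3, 0, 5], 21, true⟩) (lall (memL L) [5, 2, 3, 2, 5, 5, 4, 3, 1, 2, 1, 3]) = true := by decide +kernel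

theorem rot4_8 : T.rot 4 [3, 1, 2, 1, 3, 4, 5, 2, 3, 2, 5, 5] (sel (ones 1755) ip4 8) = true := by decide +kernel

theorem rot4_8r : band (Rule.ok (2 * 1) EX RL ⟨4 :: [3, 1, 2, 1, 3, 4, 5, 2, 3, 2, 5, 5], [4, 3], 21, true⟩) (lall (memL L) [3, 1, 2, 1, 3, 4, 5, 2, 3, 2, 5, 5]) = true := by decide +kernel

theorem rot4_9 : T.rot 4 [5, 4, 3, 2, 5, 1, 4, 1, 5, 2, 3, 3] (sel (ones 1755) ip4 9) = true := by decide +kernel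

theorem rot4_9r : band (Rule.ok (2 * 1) EX RL ⟨4 :: [5, 4, 3, 2, 5, 1, 4, 1, 5, 2, 3, 3], [4, 3, 5, 5], 21, false⟩) (lall (memL L) [5, 4, 3, 2, 5, 1, 4, 1, 5, 2, 3, 3]) = true := by decide +kernel

theorem rot4_10 : T.rot 4 [3, 2, 5, 1, 4, 1, 5, 2, 3, 3, 4, 5] (sel (ones 1755) ip4 10) = true := by decide +kernel

theorem rot4_10r : band (Rule.ok (2 * 1) EX RL ⟨4 :: [3, 2, 5, 1, 4, 1, 5, 2, 3, 3, 4, 5], [4, 3, 5, 5, 2, 4], 21, false⟩) (lall (memL L) [3, 2, 5, 1, 4, 1, 5, 2, 3, 3, 4, 5]) = true := by decide +kernel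

theorem rot4_11 : T.rot 4 [1, 5, 2, 3, 3, 4, 5, 4, 3, 2, 5, 1] (sel (ones 1755) ip4 11) = true := by decide +kernel

theorem rot4_11r : band (Rule.ok (2 * 1) EX RL ⟨4 :: [1, 5, 2, 3, 3, 4, 5, 4, 3, 2, 5, 1], [0, 3], 21, false⟩) (lall (memL L) [1, 5, 2, 3, 3, 4, 5, 4, 3, 2, 5, 1]) = true := by decide +kernel

theorem rot4_12 : T.rot 4 [5, 2, 3, 3, 3, 4, 5, 4, 4, 3, 3, 4, 5, 3] (sel (ones 1755) ip4 12) = true := by decide +kernel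

theorem rot4_12r : band (Rule.ok (2 * 1) EX RL ⟨4 :: [5, 2, 3, 3, 3, 4, 5, 4, 4, 3, 3, 4, 5, 3], [5], 11, true⟩) (lall (memL L) [5, 2, 3, 3, 3, 4, 5, 4, 4, 3, 3, 4, 5, 3]) = true := by decide +kernel

theorem rot4_13 : T.rot 4 [5, 4, 4, 3, 3, 4, 5, 3, 4, 5, 2, 3, 3, 3] (sel (ones 1755) ip4 13) = true := by decide +kernel

theorem rot4_13r : band (Rule.ok (2 * 1) EX RL ⟨4 :: [5, 4, 4, 3, 3, 4, 5, 3, 4, 5, 2, 3, 3, 3], [5, 2, 4, 3, 5, 5, 5], 11, true⟩) (lall (memL L) [5, 4, 4, 3, 3, 4, 5, 3, 4, 5, 2, 3, 3, 3]) = true := by decide +kernel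

theorem rot4_14 : T.rot 4 [4, 3, 3, 4, 5, 3, 4, 5, 2, 3, 3, 3, 4, 5] (sel (ones 1755) ip4 14) = true := by decide +kernel

theorem rot4_14r : band (Rule.ok (2 * 1) EX RL ⟨4 :: [4, 3, 3, 4, 5, 3, 4, 5, 2, 3, 3, 3, 4, 5], [5, 3, 4, 4, 3, 3], 11, true⟩) (lall (memL L) [4, 3, 3, 4, 5, 3, 4, 5, 2, 3, 3, 3, 4, 5]) = true := by decide +kernel

theorem rot4_15 : T.rot 4 [3, 3, 4, 5, 3, 4, 5, 2, 3, 3, 3, 4, 5, 4] (sel (ones 1755) ip4 15) = true := by decide +kernel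

theorem rot4_15r : band (Rule.ok (2 * 1) EX RL ⟨4 :: [3, 3, 4, 5, 3, 4, 5, 2, 3, 3, 3, 4, 5, 4], [5, 3, 4, 4, 3], 11, true⟩) (lall (memL L) [3, 3, 4, 5, 3, 4, 5, 2, 3, 3, 3, 4, 5, 4]) = true := by decide +kernel

theorem rot4_16 : T.rot 4 [5, 3, 4, 5, 2, 3, 3, 3, 4, 5, 4, 4, 3, 3] (sel (ones 1755) ip4 16) = true := by decide +kernel

theorem rot4_16r : band (Rule.ok (2 * 1) EX RL ⟨4 :: [5, 3, 4, 5, 2, 3, 3, 3, 4, 5, 4, 4, 3, 3], [5, 3], 11, true⟩) (lall (memL L) [5, 3, 4, 5, 2, 3, 3, 3, 4, 5, 4, 4, 3, 3]) = true := by decide +kernel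

theorem rot4_17 : T.rot 4 [3, 2, 5, 3, 2, 5, 5, 2, 2, 3, 2, 5, 5, 5] (sel (ones 1755) ip4 17) = true := by decide +kernel

theorem rot4_17r : band (Rule.ok (2 * 1) EX RL ⟨4 :: [3, 2, 5, 3, 2, 5, 5, 2, 2, 3, 2, 5, 5, 5], [5, 2, 4, 3], 11, false⟩) (lall (memL L) [3, 2, 5, 3, 2, 5, 5, 2, 2, 3, 2, 5, 5, 5]) = true := by decide +kernel

theorem rot4_18 : T.rot 4 [5, 3, 3, 4, 5, 3, 3, 4, 5, 3, 3, 4, 5, 3, 3] (sel (ones 1755) ip4 18) = true := by decide +kernel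

theorem rot4_18r : band (Rule.ok (2 * 1) EX RL ⟨4 :: [5, 3, 3, 4, 5, 3, 3, 4, 5, 3, 3, 4, 5, 3, 3], [], 14, true⟩) (lall (memL L) [5, 3, 3, 4, 5, 3, 3, 4, 5, 3, 3, 4, 5, 3, 3]) = true := by decide +kernel

theorem rot4_19 : T.rot 4 [3, 3, 2, 5, 5, 1, 5, 1, 2, 2, 1, 3, 1, 5, 5] (sel (ones 1755) ip4 19) = true := by decide +kernel

theorem rot4_19r : band (Rule.ok (2 * 1) EX RL ⟨4 :: [3, 3, 2, 5, 5, 1, 5, 1, 2, 2, 1, 3, 1, 5, 5], [5, 5, 2, 4, 4, 3], 19, true⟩) (lall (memL L) [3, 3, 2, 5, 5, 1, 5, 1, 2, 2, 1, 3, 1, 5, 5]) = true := by decide +kernel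

theorem rot4_20 : T.rot 4 [5, 5, 2, 3, 3, 1, 5, 1, 4, 4, 1, 3, 1, 3, 3] (sel (ones 1755) ip4 20) = true := by decide +kernel

theorem rot4_20r : band (Rule.ok (2 * 1) EX RL ⟨4 :: [5, 5, 2, 3, 3, 1, 5, 1, 4, 4, 1, 3, 1, 3, 3], [5, 5], 19, false⟩) (lall (memL L) [5, 5, 2, 3, 3, 1, 5, 1, 4, 4, 1, 3, 1, 3, 3]) = true := by decide +kernel

theorem rot4_21 : T.rot 4 [4, 1, 3, 1, 3, 3, 4, 5, 5, 2, 3, 3, 1, 5, 1] (sel (ones 1755) ip4 21) = true := by decide +kernel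

theorem rot4_21r : band (Rule.ok (2 * 1) EX RL ⟨4 :: [4, 1, 3, 1, 3, 3, 4, 5, 5, 2, 3, 3, 1, 5, 1], [0, 4, 0, 3, 3], 19, false⟩) (lall (memL L) [4, 1, 3, 1, 3, 3, 4, 5, 5, 2, 3, 3, 1, 5, 1]) = true := by decide +kernel

theorem rot4_22 : T.rot 4 [1, 3, 1, 3, 3, 4, 5, 5, 2, 3, 3, 1, 5, 1, 4] (sel (ones 1755) ip4 22) = true := by decide +kernel

theorem rot4_22r : band (Rule.ok (2 * 1) EX RL ⟨4 :: [1, 3, 1, 3, 3, 4, 5, 5, 2, 3, 3, 1, 5, 1, 4], [0, 4, 0, 3], 19, false⟩) (lall (memL L) [1, 3, 1, 3, 3, 4, 5, 5, 2, 3, 3, 1, 5, 1, 4]) = true := by decide +kernel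

theorem rot4_23 : T.rot 4 [5, 5, 4, 3, 3, 4, 3, 1, 3, 2, 5, 5, 1, 5, 5] (sel (ones 1755) ip4 23) = true := by decide +kernel

theorem rot4_23r : band (Rule.ok (2 * 1) EX RL ⟨4 :: [5, 5, 4, 3, 3, 4, 3, 1, 3, 2, 5, 5, 1, 5, 5], [4, 3, 4, 4, 3, 5, 5, 3], 22, true⟩) (lall (memL L) [5, 5, 4, 3, 3, 4, 3, 1, 3, 2, 5, 5, 1, 5, 5]) = true := by decide +kernel

theorem rot4_24 : T.rot 4 [3, 3, 4, 3, 1, 3, 2, 5, 5, 1, 5, 5, 4, 5, 5] (sel (ones 1755) ip4 24) = true := by decide +kernel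

theorem rot4_24r : band (Rule.ok (2 * 1) EX RL ⟨4 :: [3, 3, 4, 3, 1, 3, 2, 5, 5, 1, 5, 5, 4, 5, 5], [4, 3, 4, 4, 3], 22, true⟩) (lall (memL L) [3, 3, 4, 3, 1, 3, 2, 5, 5, 1, 5, 5, 4, 5, 5]) = true := by decide +kernel

theorem rot4_25 : T.rot 4 [3, 1, 3, 2, 5, 5, 1, 5, 5, 4, 5, 5, 4, 3, 3] (sel (ones 1755) ip4 25) = true := by decide +kernel

theorem rot4_25r : band (Rule.ok (2 * 1) EX RL ⟨4 :: [3, 1, 3, 2, 5, 5, 1, 5, 5, 4, 5, 5, 4, 3, 3], [4, 3], 22, true⟩) (lall (memL L) [3, 1, 3, 2, 5, 5, 1, 5, 5, 4, 5, 5, 4, 3, 3]) = true := by decide +kernel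

theorem rot4_26 : T.rot 4 [5, 1, 5, 2, 5, 5, 2, 3, 3, 2, 3, 3, 1, 3, 3] (sel (ones 1755) ip4 26) = true := by decide +kernel

theorem rot4_26r : band (Rule.ok (2 * 1) EX RL ⟨4 :: [5, 1, 5, 2, 5, 5, 2, 3, 3, 2, 3, 3, 1, 3, 3], [0, 5, 3], 22, false⟩) (lall (memL L) [5, 1, 5, 2, 5, 5, 2, 3, 3, 2, 3, 3, 1, 3, 3]) = true := by decide +kernel

theorem rot4_27 : T.rot 4 [5, 4, 4, 3, 2, 5, 5, 4, 3, 2, 2, 5, 2, 5, 3, 3] (sel (ones 1755) ip4 27) = true := by decide +kernel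

theorem rot4_27r : band (Rule.ok (2 * 1) EX RL ⟨4 :: [5, 4, 4, 3, 2, 5, 5, 4, 3, 2, 2, 5, 2, 5, 3, 3], [5, 3, 3, 4, 3, 5], 12, true⟩) (lall (memL L) [5, 4, 4, 3, 2, 5, 5, 4, 3, 2, 2, 5, 2, 5, 3, 3]) = true := by decide +kernel

theorem rot4_28 : T.rot 4 [4, 3, 2, 5, 5, 4, 3, 2, 2, 5, 2, 5, 3, 3, 4, 5] (sel (ones 1755) ip4 28) = true := by decide +kernel

theorem rot4_28r : band (Rule.ok (2 * 1) EX RL ⟨4 :: [4, 3, 2, 5, 5, 4, 3, 2, 2, 5, 2, 5, 3, 3, 4, 5], [3, 5, 5, 2, 4, 3, 3], 12, true⟩) (lall (memL L) [4, 3, 2, 5, 5, 4, 3, 2, 2, 5, 2, 5, 3, 3, 4, 5]) = true := by decide +kernel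

theorem rot4_29 : T.rot 4 [3, 2, 5, 5, 4, 3, 2, 2, 5, 2, 5, 3, 3, 4, 5, 4] (sel (ones 1755) ip4 29) = true := by decide +kernel

theorem rot4_29r : band (Rule.ok (2 * 1) EX RL ⟨4 :: [3, 2, 5, 5, 4, 3, 2, 2, 5, 2, 5, 3, 3, 4, 5, 4], [3, 5, 5, 2, 4, 3], 12, true⟩) (lall (memL L) [3, 2, 5, 5, 4, 3, 2, 2, 5, 2, 5, 3, 3, 4, 5, 4]) = true := by decide +kernel

theorem rot4_30 : T.rot 4 [3, 2, 2, 5, 2, 5, 3, 3, 4, 5, 4, 4, 3, 2, 5, 5] (sel (ones 1755) ip4 30) = true := by decide +kernel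

theorem rot4_30r : band (Rule.ok (2 * 1) EX RL ⟨4 :: [3, 2, 2, 5, 2, 5, 3, 3, 4, 5, 4, 4, 3, 2, 5, 5], [3], 12, true⟩) (lall (memL L) [3, 2, 2, 5, 2, 5, 3, 3, 4, 5, 4, 4, 3, 2, 5, 5]) = true := by decide +kernel

theorem rot4_31 : T.rot 4 [5, 2, 2, 3, 2, 5, 5, 3, 4, 3, 4, 4, 5, 2, 3, 3] (sel (ones 1755) ip4 31) = true := by decide +kernel

theorem rot4_31r : band (Rule.ok (2 * 1) EX RL ⟨4 :: [5, 2, 2, 3, 2, 5, 5, 3, 4, 3, 4, 4, 5, 2, 3, 3], [3, 5, 5], 12, false⟩) (lall (memL L) [5, 2, 2, 3, 2, 5, 5, 3, 4, 3, 4, 4, 5, 2, 3, 3]) = true := by decide +kernel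

theorem rot4_32 : T.rot 4 [3, 4, 4, 5, 2, 3, 3, 4, 5, 2, 2, 3, 2, 5, 5, 3] (sel (ones 1755) ip4 32) = true := by decide +kernel

theorem rot4_32r : band (Rule.ok (2 * 1) EX RL ⟨4 :: [3, 4, 4, 5, 2, 3, 3, 4, 5, 2, 2, 3, 2, 5, 5, 3], [5, 3, 3, 4, 3], 12, false⟩) (lall (memL L) [3, 4, 4, 5, 2, 3, 3, 4, 5, 2, 2, 3, 2, 5, 5, 3]) = true := by decide +kernel

theorem rot4_33 : T.rot 4 [4, 5, 2, 3, 3, 4, 5, 2, 2, 3, 2, 5, 5, 3, 4, 3] (sel (ones 1755) ip4 33) = true := by decide +kernel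

theorem rot4_33r : band (Rule.ok (2 * 1) EX RL ⟨4 :: [4, 5, 2, 3, 3, 4, 5, 2, 2, 3, 2, 5, 5, 3, 4, 3], [5, 3, 3], 12, false⟩) (lall (memL L) [4, 5, 2, 3, 3, 4, 5, 2, 2, 3, 2, 5, 5, 3, 4, 3]) = true := by decide +kernel

theorem rot4_34 : T.rot 4 [5, 2, 3, 3, 4, 5, 2, 2, 3, 2, 5, 5, 3, 4, 3, 4] (sel (ones 1755) ip4 34) = true := by decide +kernel

theorem rot4_34r : band (Rule.ok (2 * 1) EX RL ⟨4 :: [5, 2, 3, 3, 4, 5, 2, 2, 3, 2, 5, 5, 3, 4, 3, 4], [5, 3], 12, false⟩) (lall (memL L) [5, 2, 3, 3, 4, 5, 2, 2, 3, 2, 5, 5, 3, 4, 3, 4]) = true := by decide +kernel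

theorem rot4_35 : T.rot 4 [3, 4, 4, 5, 1, 3, 1, 5, 2, 5, 4, 5, 1, 5, 1, 2, 3] (sel (ones 1755) ip4 35) = true := by decide +kernel

theorem rot4_35r : band (Rule.ok (2 * 1) EX RL ⟨4 :: [3, 4, 4, 5, 1, 3, 1, 5, 2, 5, 4, 5, 1, 5, 1, 2, 3], [0, 4, 0, 3, 5], 17, true⟩) (lall (memL L) [3, 4, 4, 5, 1, 3, 1, 5, 2, 5, 4, 5, 1, 5, 1, 2, 3]) = true := by decide +kernel

theorem rot4_36 : T.rot 4 [4, 5, 1, 3, 1, 5, 2, 5, 4, 5, 1, 5, 1, 2, 3, 4, 3] (sel (ones 1755) ip4 36) = true := by decide +kernel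

theorem rot4_36r : band (Rule.ok (2 * 1) EX RL ⟨4 :: [4, 5, 1, 3, 1, 5, 2, 5, 4, 5, 1, 5, 1, 2, 3, 4, 3], [0, 4, 0, 3, 5, 2, 5], 17, true⟩) (lall (memL L) [4, 5, 1, 3, 1, 5, 2, 5, 4, 5, 1, 5, 1, 2, 3, 4, 3]) = true := by decide +kernel

theorem rot4_37 : T.rot 4 [5, 1, 3, 1, 5, 2, 5, 4, 5, 1, 5, 1, 2, 3, 4, 3, 4] (sel (ones 1755) ip4 37) = true := by decide +kernel

theorem rot4_37r : band (Rule.ok (2 * 1) EX RL ⟨4 :: [5, 1, 3, 1, 5, 2, 5, 4, 5, 1, 5, 1, 2, 3, 4, 3, 4], [0, 4, 0, 3, 5, 2, 5, 2], 17, true⟩) (lall (memL L) [5, 1, 3, 1, 5, 2, 5, 4, 5, 1, 5, 1, 2, 3, 4, 3, 4]) = true := by decide +kernel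

theorem rot4_38 : T.rot 4 [5, 1, 5, 1, 2, 3, 4, 3, 4, 4, 5, 1, 3, 1, 5, 2, 5] (sel (ones 1755) ip4 38) = true := by decide +kernel

theorem rot4_38r : band (Rule.ok (2 * 1) EX RL ⟨4 :: [5, 1, 5, 1, 2, 3, 4, 3, 4, 4, 5, 1, 3, 1, 5, 2, 5], [5, 3], 17, true⟩) (lall (memL L) [5, 1, 5, 1, 2, 3, 4, 3, 4, 4, 5, 1, 3, 1, 5, 2, 5]) = true := by decide +kernel

theorem rot4_39 : T.rot 4 [3, 1, 5, 1, 3, 2, 2, 5, 2, 5, 4, 1, 3, 1, 3, 2, 3] (sel (ones 1755) ip4 39) = true := by decide +kernel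

theorem rot4_39r : band (Rule.ok (2 * 1) EX RL ⟨4 :: [3, 1, 5, 1, 3, 2, 2, 5, 2, 5, 4, 1, 3, 1, 3, 2, 3], [5, 3, 5], 17, false⟩) (lall (memL L) [3, 1, 5, 1, 3, 2, 2, 5, 2, 5, 4, 1, 3, 1, 3, 2, 3]) = true := by decide +kernel

theorem rot4_40 : T.rot 4 [1, 3, 1, 3, 2, 3, 4, 3, 1, 5, 1, 3, 2, 2, 5, 2, 5] (sel (ones 1755) ip4 40) = true := by decide +kernel

theorem rot4_40r : band (Rule.ok (2 * 1) EX RL ⟨4 :: [1, 3, 1, 3, 2, 3, 4, 3, 1, 5, 1, 3, 2, 2, 5, 2, 5], [0, 4, 0, 3], 17, false⟩) (lall (memL L) [1, 3, 1, 3, 2, 3, 4, 3, 1, 5, 1, 3, 2, 2, 5, 2, 5]) = true := by decide +kernel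

theorem rot4_41 : T.rot 4 [4, 3, 3, 2, 5, 4, 4, 5, 5, 4, 1, 3, 1, 2, 1, 5, 1] (sel (ones 1755) ip4 41) = true := by decide +kernel

theorem rot4_41r : band (Rule.ok (2 * 1) EX RL ⟨4 :: [4, 3, 3, 2, 5, 4, 4, 5, 5, 4, 1, 3, 1, 2, 1, 5, 1], [0, 5, 0, 3, 0, 4, 0], 18, true⟩) (lall (memL L) [4, 3, 3, 2, 5, 4, 4, 5, 5, 4, 1, 3, 1, 2, 1, 5, 1]) = true := by decide +kernel

theorem rot4_42 : T.rot 4 [3, 3, 2, 5, 4, 4, 5, 5, 4, 1, 3, 1, 2, 1, 5, 1, 4] (sel (ones 1755) ip4 42) = true := by decide +kernel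

theorem rot4_42r : band (Rule.ok (2 * 1) EX RL ⟨4 :: [3, 3, 2, 5, 4, 4, 5, 5, 4, 1, 3, 1, 2, 1, 5, 1, 4], [0, 5, 0, 3, 0, 4, 0, 2], 18, true⟩) (lall (memL L) [3, 3, 2, 5, 4, 4, 5, 5, 4, 1, 3, 1, 2, 1, 5, 1, 4]) = true := by decide +kernel

theorem rot4_43 : T.rot 4 [4, 5, 5, 4, 1, 3, 1, 2, 1, 5, 1, 4, 4, 3, 3, 2, 5] (sel (ones 1755) ip4 43) = true := by decide +kernel

theorem rot4_43r : band (Rule.ok (2 * 1) EX RL ⟨4 :: [4, 5, 5, 4, 1, 3, 1, 2, 1, 5, 1, 4, 4, 3, 3, 2, 5], [3, 5, 5, 3, 3], 18, true⟩) (lall (memL L) [4, 5, 5, 4, 1, 3, 1, 2, 1, 5, 1, 4, 4, 3, 3, 2, 5]) = true := by decide +kernel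

theorem rot4_44 : T.rot 4 [5, 5, 4, 1, 3, 1, 2, 1, 5, 1, 4, 4, 3, 3, 2, 5, 4] (sel (ones 1755) ip4 44) = true := by decide +kernel

theorem rot4_44r : band (Rule.ok (2 * 1) EX RL ⟨4 :: [5, 5, 4, 1, 3, 1, 2, 1, 5, 1, 4, 4, 3, 3, 2, 5, 4], [3, 5, 5, 3], 18, true⟩) (lall (memL L) [5, 5, 4, 1, 3, 1, 2, 1, 5, 1, 4, 4, 3, 3, 2, 5, 4]) = true := by decide +kernel

end Cfsg.Agent.Spor.Tia
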