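import Cfsg.Agent.Spor.Tia.D0

set_option autoImplicit false
set_option maxRecDepth 100000000
set_option Elab.async false

namespace Cfsg.Agent.Spor.Tia

theorem rot4_45 : T.rot 4 [1, 3, 1, 2, 1, 5, 1, 4, 4, 3, 3, 2, 5, 4, 4, 5, 5] (sel (ones 1755) ip4 45) = true := by decide +kernel

theorem rot4_45r : band (Rule.ok (2 * 1) EX RL ⟨4 :: [1, 3, 1, 2, 1, 5, 1, 4, 4, 3, 3, 2, 5, 4, 4, 5, 5], [3], 18, true⟩) (lall (memL L) [1, 3, 1, 2, 1, 5, 1, 4, 4, 3, 3, 2, 5, 4, 4, 5, 5]) = true := by decide +kernel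

theorem rot4_46 : T.rot 4 [5, 5, 2, 2, 1, 3, 1, 4, 1, 5, 1, 2, 3, 3, 2, 2, 3] (sel (ones 1755) ip4 46) = true := by decide +kernel

theorem rot4_46r : band (Rule.ok (2 * 1) EX RL ⟨4 :: [5, 5, 2, 2, 1, 3, 1, 4, 1, 5, 1, 2, 3, 3, 2, 2, 3], [3, 5, 5, 3, 3, 5], 18, false⟩) (lall (memL L) [5, 5, 2, 2, 1, 3, 1, 4, 1, 5, 1, 2, 3, 3, 2, 2, 3]) = true := by decide +kernel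

theorem rot4_47 : T.rot 4 [1, 5, 1, 2, 3, 3, 2, 2, 3, 4, 5, 5, 2, 2, 1, 3, 1] (sel (ones 1755) ip4 47) = true := by decide +kernel

theorem rot4_47r : band (Rule.ok (2 * 1) EX RL ⟨4 :: [1, 5, 1, 2, 3, 3, 2, 2, 3, 4, 5, 5, 2, 2, 1, 3, 1], [0, 5, 0, 3], 18, false⟩) (lall (memL L) [1, 5, 1, 2, 3, 3, 2, 2, 3, 4, 5, 5, 2, 2, 1, 3, 1]) = true := by decide +kernel

theorem rot4_48 : T.rot 4 [3, 1, 3, 1, 5, 1, 5, 2, 5, 4, 5, 1, 3, 1, 5, 1, 3, 2, 3] (sel (ones 1755) ip4 48) = true := by decide +kernel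

theorem rot4_48r : band (Rule.ok (2 * 1) EX RL ⟨4 :: [3, 1, 3, 1, 5, 1, 5, 2, 5, 4, 5, 1, 3, 1, 5, 1, 3, 2, 3], [5, 3, 5], 20, false⟩) (lall (memL L) [3, 1, 3, 1, 5, 1, 5, 2, 5, 4, 5, 1, 3, 1, 5, 1, 3, 2, 3]) = true := by decide +kernel

theorem rot4_49 : T.rot 4 [5, 1, 3, 1, 5, 1, 3, 2, 3, 4, 3, 1, 3, 1, 5, 1, 5, 2, 5] (sel (ones 1755) ip4 49) = true := by decide +kernel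

theorem rot4_49r : band (Rule.ok (2 * 1) EX RL ⟨4 :: [5, 1, 3, 1, 5, 1, 3, 2, 3, 4, 3, 1, 3, 1, 5, 1, 5, 2, 5], [5, 3], 20, true⟩) (lall (memL L) [5, 1, 3, 1, 5, 1, 3, 2, 3, 4, 3, 1, 3, 1, 5, 1, 5, 2, 5]) = true := by decide +kernel

theorem rot4_50 : T.rot 4 [1, 5, 1, 5, 1, 3, 1, 5, 1, 3, 4, 4, 3, 3, 1, 3, 1, 3, 1, 5, 1, 2, 3] (sel (ones 1755) ip4 50) = true := by decide +kernel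

theorem rot4_50r : band (Rule.ok (2 * 1) EX RL ⟨4 :: [1, 5, 1, 5, 1, 3, 1, 5, 1, 3, 4, 4, 3, 3, 1, 3, 1, 3, 1, 5, 1, 2, 3], [0, 5, 0, 5, 0, 4, 0, 3, 5], 24, true⟩) (lall (memL L) [1, 5, 1, 5, 1, 3, 1, 5, 1, 3, 4, 4, 3, 3, 1, 3, 1, 3, 1, 5, 1, 2, 3]) = true := by decide +kernel

theorem rot4_51 : T.rot 4 [4, 3, 3, 1, 3, 1, 3, 1, 5, 1, 2, 3, 4, 1, 5, 1, 5, 1, 3, 1, 5, 1, 3] (sel (ones 1755) ip4 51) = true := by decide +kernel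

theorem rot4_51r : band (Rule.ok (2 * 1) EX RL ⟨4 :: [4, 3, 3, 1, 3, 1, 3, 1, 5, 1, 2, 3, 4, 1, 5, 1, 5, 1, 3, 1, 5, 1, 3], [4, 4, 3, 3], 24, true⟩) (lall (memL L) [4, 3, 3, 1, 3, 1, 3, 1, 5, 1, 2, 3, 4, 1, 5, 1, 5, 1, 3, 1, 5, 1, 3]) = true := by decide +kernel

theorem rot4_52 : T.rot 4 [3, 3, 1, 3, 1, 3, 1, 5, 1, 2, 3, 4, 1, 5, 1, 5, 1, 3, 1, 5, 1, 3, 4] (sel (ones 1755) ip4 52) = true := by decide +kernel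

theorem rot4_52r : band (Rule.ok (2 * 1) EX RL ⟨4 :: [3, 3, 1, 3, 1, 3, 1, 5, 1, 2, 3, 4, 1, 5, 1, 5, 1, 3, 1, 5, 1, 3, 4], [4, 4, 3], 24, true⟩) (lall (memL L) [3, 3, 1, 3, 1, 3, 1, 5, 1, 2, 3, 4, 1, 5, 1, 5, 1, 3, 1, 5, 1, 3, 4]) = true := by decide +kernel

theorem rot4_53 : T.rot 4 [1, 3, 1, 5, 1, 5, 1, 5, 5, 2, 2, 5, 1, 3, 1, 5, 1, 3, 1, 3, 1, 2, 5] (sel (ones 1755) ip4 53) = true := by decide +kernel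

theorem rot4_53r : band (Rule.ok (2 * 1) EX RL ⟨4 :: [1, 3, 1, 5, 1, 5, 1, 5, 5, 2, 2, 5, 1, 3, 1, 5, 1, 3, 1, 3, 1, 2, 5], [0, 5, 0, 5, 0, 4, 0, 3], 24, false⟩) (lall (memL L) [1, 3, 1, 5, 1, 5, 1, 5, 5, 2, 2, 5, 1, 3, 1, 5, 1, 3, 1, 3, 1, 2, 5]) = true := by decide +kernel

theorem rot4_54 : T.rot 4 [4, 2, 3, 2, 5, 5, 4, 4, 2, 3, 2, 5, 5, 4, 4, 2, 3, 2, 5, 5, 4, 4, 2, 3, 2, 5, 5] (sel (ones 1755) ip4 54) = true := by decide +kernel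

theorem rot4_54r : band (Rule.ok (2 * 1) EX RL ⟨4 :: [4, 2, 3, 2, 5, 5, 4, 4, 2, 3, 2, 5, 5, 4, 4, 2, 3, 2, 5, 5, 4, 4, 2, 3, 2, 5, 5], [3, 3], 0, true⟩) (lall (memL L) [4, 2, 3, 2, 5, 5, 4, 4, 2, 3, 2, 5, 5, 4, 4, 2, 3, 2, 5, 5, 4, 4, 2, 3, 2, 5, 5]) = true := by decide +kernel

theorem rot4_55 : T.rot 4 [5, 4, 2, 2, 3, 3, 4, 5, 4, 2, 2, 3, 3, 4, 5, 4, 2, 2, 3, 3, 4, 5, 4, 2, 2, 3, 3] (sel (ones 1755) ip4 55) = true := by decide +kernel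

theorem rot4_55r : band (Rule.ok (2 * 1) EX RL ⟨4 :: [5, 4, 2, 2, 3, 3, 4, 5, 4, 2, 2, 3, 3, 4, 5, 4, 2, 2, 3, 3, 4, 5, 4, 2, 2, 3, 3], [3, 5, 3], 0, false⟩) (lall (memL L) [5, 4, 2, 2, 3, 3, 4, 5, 4, 2, 2, 3, 3, 4, 5, 4, 2, 2, 3, 3, 4, 5, 4, 2, 2, 3, 3]) = true := by decide +kernel

theorem rot4_56 : T.rot 4 [5, 2, 3, 2, 5, 5, 4, 3, 3, 4, 5, 2, 3, 2, 5, 5, 4, 3, 3, 4, 5, 2, 3, 2, 5, 5, 4, 3, 3, 4, 5, 2, 3, 2, 5, 5, 4, 3, 3] (sel (ones 1755) ip4 56) = true := by decide +kernel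

theorem rot4_56r : band (Rule.ok (2 * 1) EX RL ⟨4 :: [5, 2, 3, 2, 5, 5, 4, 3, 3, 4, 5, 2, 3, 2, 5, 5, 4, 3, 3, 4, 5, 2, 3, 2, 5, 5, 4, 3, 3, 4, 5, 2, 3, 2, 5, 5, 4, 3, 3], [5, 5], 4, true⟩) (lall (memL L) [5, 2, 3, 2, 5, 5, 4, 3, 3, 4, 5, 2, 3, 2, 5, 5, 4, 3, 3, 4, 5, 2, 3, 2, 5, 5, 4, 3, 3, 4, 5, 2, 3, 2, 5, 5, 4, 3, 3]) = true := by decide +kernel

theorem rot4_57 : T.rot 4 [3, 3, 4, 5, 2, 3, 2, 5, 5, 4, 3, 3, 4, 5, 2, 3, 2, 5, 5, 4, 3, 3, 4, 5, 2, 3, 2, 5, 5, 4, 3, 3, 4, 5, 2, 3, 2, 5, 5] (sel (ones 1755) ip4 57) = true := by decide +kernel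

theorem rot4_57r : band (Rule.ok (2 * 1) EX RL ⟨4 :: [3, 3, 4, 5, 2, 3, 2, 5, 5, 4, 3, 3, 4, 5, 2, 3, 2, 5, 5, 4, 3, 3, 4, 5, 2, 3, 2, 5, 5, 4, 3, 3, 4, 5, 2, 3, 2, 5, 5], [3], 4, true⟩) (lall (memL L) [3, 3, 4, 5, 2, 3, 2, 5, 5, 4, 3, 3, 4, 5, 2, 3, 2, 5, 5, 4, 3, 3, 4, 5, 2, 3, 2, 5, 5, 4, 3, 3, 4, 5, 2, 3, 2, 5, 5]) = true := by decide +kernel

theorem rot4_58 : T.rot 4 [5, 4, 3, 2, 5, 5, 2, 3, 3, 4, 5, 4, 3, 2, 5, 5, 2, 3, 3, 4, 5, 4, 3, 2, 5, 5, 2, 3, 3, 4, 5, 4, 3, 2, 5, 5, 2, 3, 3] (sel (ones 1755) ip4 58) = true := by decide +kernel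

theorem rot4_58r : band (Rule.ok (2 * 1) EX RL ⟨4 :: [5, 4, 3, 2, 5, 5, 2, 3, 3, 4, 5, 4, 3, 2, 5, 5, 2, 3, 3, 4, 5, 4, 3, 2, 5, 5, 2, 3, 3, 4, 5, 4, 3, 2, 5, 5, 2, 3, 3], [3, 5, 5], 4, false⟩) (lall (memL L) [5, 4, 3, 2, 5, 5, 2, 3, 3, 4, 5, 4, 3, 2, 5, 5, 2, 3, 3, 4, 5, 4, 3, 2, 5, 5, 2, 3, 3, 4, 5, 4, 3, 2, 5, 5, 2, 3, 3]) = true := by decide +kernel

theorem rot4_59 : T.rot 4 [3, 2, 5, 5, 2, 3, 3, 4, 5, 4, 3, 2, 5, 5, 2, 3, 3, 4, 5, 4, 3, 2, 5, 5, 2, 3, 3, 4, 5, 4, 3, 2, 5, 5, 2, 3, 3, 4, 5] (sel (ones 1755) ip4 59) = true := by decide +kernel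

theorem rot4_59r : band (Rule.ok (2 * 1) EX RL ⟨4 :: [3, 2, 5, 5, 2, 3, 3, 4, 5, 4, 3, 2, 5, 5, 2, 3, 3, 4, 5, 4, 3, 2, 5, 5, 2, 3, 3, 4, 5, 4, 3, 2, 5, 5, 2, 3, 3, 4, 5], [5, 5, 2, 4, 3], 4, false⟩) (lall (memL L) [3, 2, 5, 5, 2, 3, 3, 4, 5, 4, 3, 2, 5, 5, 2, 3, 3, 4, 5, 4, 3, 2, 5, 5, 2, 3, 3, 4, 5, 4, 3, 2, 5, 5, 2, 3, 3, 4, 5]) = true := by decide +kernel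

theorem rot4_60 : T.rot 4 [3, 3, 4, 5, 4, 4, 3, 3, 4, 5, 2, 3, 2, 5, 5, 4, 3, 3, 4, 5, 4, 3, 2, 5, 5, 3, 2, 5, 5, 3, 3, 4, 5, 2, 3, 2, 5, 5, 4] (sel (ones 1755) ip4 60) = true := by decide +kernel

theorem rot4_60r : band (Rule.ok (2 * 1) EX RL ⟨4 :: [3, 3, 4, 5, 4, 4, 3, 3, 4, 5, 2, 3, 2, 5, 5, 4, 3, 3, 4, 5, 4, 3, 2, 5, 5, 3, 2, 5, 5, 3, 3, 4, 5, 2, 3, 2, 5, 5, 4], [], 8, true⟩) (lall (memL L) [3, 3, 4, 5, 4, 4, 3, 3, 4, 5, 2, 3, 2, 5, 5, 4, 3, 3, 4, 5, 4, 3, 2, 5, 5, 3, 2, 5, 5, 3, 3, 4, 5, 2, 3, 2, 5, 5, 4]) = true := by decide +kernel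

theorem rot4_61 : T.rot 4 [5, 4, 4, 3, 3, 4, 5, 2, 3, 2, 5, 5, 4, 3, 3, 4, 5, 4, 3, 2, 5, 5, 3, 2, 5, 5, 3, 3, 4, 5, 2, 3, 2, 5, 5, 4, 4, 3, 3] (sel (ones 1755) ip4 61) = true := by decide +kernel

theorem rot4_61r : band (Rule.ok (2 * 1) EX RL ⟨4 :: [5, 4, 4, 3, 3, 4, 5, 2, 3, 2, 5, 5, 4, 3, 3, 4, 5, 4, 3, 2, 5, 5, 3, 2, 5, 5, 3, 3, 4, 5, 2, 3, 2, 5, 5, 4, 4, 3, 3], [2, 5, 5], 8, true⟩) (lall (memL L) [5, 4, 4, 3, 3, 4, 5, 2, 3, 2, 5, 5, 4, 3, 3, 4, 5, 4, 3, 2, 5, 5, 3, 2, 5, 5, 3, 3, 4, 5, 2, 3, 2, 5, 5, 4, 4, 3, 3]) = true := by decide +kernel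

theorem rot4_62 : T.rot 4 [4, 3, 3, 4, 5, 2, 3, 2, 5, 5, 4, 3, 3, 4, 5, 4, 3, 2, 5, 5, 3, 2, 5, 5, 3, 3, 4, 5, 2, 3, 2, 5, 5, 4, 4, 3, 3, 4, 5] (sel (ones 1755) ip4 62) = true := by decide +kernel

theorem rot4_62r : band (Rule.ok (2 * 1) EX RL ⟨4 :: [4, 3, 3, 4, 5, 2, 3, 2, 5, 5, 4, 3, 3, 4, 5, 4, 3, 2, 5, 5, 3, 2, 5, 5, 3, 3, 4, 5, 2, 3, 2, 5, 5, 4, 4, 3, 3, 4, 5], [2, 5, 5, 2, 4], 8, true⟩) (lall (memL L) [4, 3, 3, 4, 5, 2, 3, 2, 5, 5, 4, 3, 3, 4, 5, 4, 3, 2, 5, 5, 3, 2, 5, 5, 3, 3, 4, 5, 2, 3, 2, 5, 5, 4, 4, 3, 3, 4, 5]) = true := by decide +kernel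

theorem rot4_63 : T.rot 4 [3, 3, 4, 5, 2, 3, 2, 5, 5, 4, 3, 3, 4, 5, 4, 3, 2, 5, 5, 3, 2, 5, 5, 3, 3, 4, 5, 2, 3, 2, 5, 5, 4, 4, 3, 3, 4, 5, 4] (sel (ones 1755) ip4 63) = true := by decide +kernel

theorem rot4_63r : band (Rule.ok (2 * 1) EX RL ⟨4 :: [3, 3, 4, 5, 2, 3, 2, 5, 5, 4, 3, 3, 4, 5, 4, 3, 2, 5, 5, 3, 2, 5, 5, 3, 3, 4, 5, 2, 3, 2, 5, 5, 4, 4, 3, 3, 4, 5, 4], [2, 5, 5, 2, 4, 2], 8, true⟩) (lall (memL L) [3, 3, 4, 5, 2, 3, 2, 5, 5, 4, 3, 3, 4, 5, 4, 3, 2, 5, 5, 3, 2, 5, 5, 3, 3, 4, 5, 2, 3, 2, 5, 5, 4, 4, 3, 3, 4, 5, 4]) = true := by decide +kernel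

theorem rot4_64 : T.rot 4 [5, 2, 3, 2, 5, 5, 4, 3, 3, 4, 5, 4, 3, 2, 5, 5, 3, 2, 5, 5, 3, 3, 4, 5, 2, 3, 2, 5, 5, 4, 4, 3, 3, 4, 5, 4, 4, 3, 3] (sel (ones 1755) ip4 64) = true := by decide +kernel

theorem rot4_64r : band (Rule.ok (2 * 1) EX RL ⟨4 :: [5, 2, 3, 2, 5, 5, 4, 3, 3, 4, 5, 4, 3, 2, 5, 5, 3, 2, 5, 5, 3, 3, 4, 5, 2, 3, 2, 5, 5, 4, 4, 3, 3, 4, 5, 4, 4, 3, 3], [2, 5, 5, 2, 4, 2, 2, 5, 5], 8, true⟩) (lall (memL L) [5, 2, 3, 2, 5, 5, 4, 3, 3, 4, 5, 4, 3, 2, 5, 5, 3, 2, 5, 5, 3, 3, 4, 5, 2, 3, 2, 5, 5, 4, 4, 3, 3, 4, 5, 4, 4, 3, 3]) = true := by decide +kernel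

theorem rot4_65 : T.rot 4 [3, 3, 4, 5, 4, 3, 2, 5, 5, 3, 2, 5, 5, 3, 3, 4, 5, 2, 3, 2, 5, 5, 4, 4, 3, 3, 4, 5, 4, 4, 3, 3, 4, 5, 2, 3, 2, 5, 5] (sel (ones 1755) ip4 65) = true := by decide +kernel

theorem rot4_65r : band (Rule.ok (2 * 1) EX RL ⟨4 :: [3, 3, 4, 5, 4, 3, 2, 5, 5, 3, 2, 5, 5, 3, 3, 4, 5, 2, 3, 2, 5, 5, 4, 4, 3, 3, 4, 5, 4, 4, 3, 3, 4, 5, 2, 3, 2, 5, 5], [3, 5, 5, 2, 4, 2, 5, 5, 2, 4, 3, 5, 3, 4, 4, 3], 8, true⟩) (lall (memL L) [3, 3, 4, 5, 4, 3, 2, 5, 5, 3, 2, 5, 5, 3, 3, 4, 5, 2, 3, 2, 5, 5, 4, 4, 3, 3, 4, 5, 4, 4, 3, 3, 4, 5, 2, 3, 2, 5, 5]) = true := by decide +kernel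

theorem rot4_66 : T.rot 4 [5, 4, 3, 2, 5, 5, 3, 2, 5, 5, 3, 3, 4, 5, 2, 3, 2, 5, 5, 4, 4, 3, 3, 4, 5, 4, 4, 3, 3, 4, 5, 2, 3, 2, 5, 5, 4, 3, 3] (sel (ones 1755) ip4 66) = true := by decide +kernel

theorem rot4_66r : band (Rule.ok (2 * 1) EX RL ⟨4 :: [5, 4, 3, 2, 5, 5, 3, 2, 5, 5, 3, 3, 4, 5, 2, 3, 2, 5, 5, 4, 4, 3, 3, 4, 5, 4, 4, 3, 3, 4, 5, 2, 3, 2, 5, 5, 4, 3, 3], [3, 5, 5, 2, 4, 2, 5, 5, 2, 4, 3, 5, 3], 8, true⟩) (lall (memL L) [5, 4, 3, 2, 5, 5, 3, 2, 5, 5, 3, 3, 4, 5, 2, 3, 2, 5, 5, 4, 4, 3, 3, 4, 5, 4, 4, 3, 3, 4, 5, 2, 3, 2, 5, 5, 4, 3, 3]) = true := by decide +kernel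

theorem rot4_67 : T.rot 4 [5, 4, 3, 2, 5, 5, 3, 3, 4, 5, 3, 3, 4, 5, 2, 3, 2, 5, 5, 2, 3, 3, 4, 5, 4, 3, 2, 5, 5, 2, 2, 3, 2, 5, 5, 2, 2, 3, 3] (sel (ones 1755) ip4 67) = true := by decide +kernel

theorem rot4_67r : band (Rule.ok (2 * 1) EX RL ⟨4 :: [5, 4, 3, 2, 5, 5, 3, 3, 4, 5, 3, 3, 4, 5, 2, 3, 2, 5, 5, 2, 3, 3, 4, 5, 4, 3, 2, 5, 5, 2, 2, 3, 2, 5, 5, 2, 2, 3, 3], [3, 5, 5], 8, false⟩) (lall (memL L) [5, 4, 3, 2, 5, 5, 3, 3, 4, 5, 3, 3, 4, 5, 2, 3, 2, 5, 5, 2, 3, 3, 4, 5, 4, 3, 2, 5, 5, 2, 2, 3, 2, 5, 5, 2, 2, 3, 3]) = true := by decide +kernel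

theorem rot4_68 : T.rot 4 [3, 2, 5, 5, 3, 3, 4, 5, 3, 3, 4, 5, 2, 3, 2, 5, 5, 2, 3, 3, 4, 5, 4, 3, 2, 5, 5, 2, 2, 3, 2, 5, 5, 2, 2, 3, 3, 4, 5] (sel (ones 1755) ip4 68) = true := by decide +kernel

theorem rot4_68r : band (Rule.ok (2 * 1) EX RL ⟨4 :: [3, 2, 5, 5, 3, 3, 4, 5, 3, 3, 4, 5, 2, 3, 2, 5, 5, 2, 3, 3, 4, 5, 4, 3, 2, 5, 5, 2, 2, 3, 2, 5, 5, 2, 2, 3, 3, 4, 5], [3, 5, 5, 2, 4], 8, false⟩) (lall (memL L) [3, 2, 5, 5, 3, 3, 4, 5, 3, 3, 4, 5, 2, 3, 2, 5, 5, 2, 3, 3, 4, 5, 4, 3, 2, 5, 5, 2, 2, 3, 2, 5, 5, 2, 2, 3, 3, 4, 5]) = true := by decide +kernel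

theorem rot4_69 : T.rot 4 [5, 2, 3, 2, 5, 5, 2, 3, 3, 4, 5, 4, 3, 2, 5, 5, 2, 2, 3, 2, 5, 5, 2, 2, 3, 3, 4, 5, 4, 3, 2, 5, 5, 3, 3, 4, 5, 3, 3] (sel (ones 1755) ip4 69) = true := by decide +kernel

theorem rot4_69r : band (Rule.ok (2 * 1) EX RL ⟨4 :: [5, 2, 3, 2, 5, 5, 2, 3, 3, 4, 5, 4, 3, 2, 5, 5, 2, 2, 3, 2, 5, 5, 2, 2, 3, 3, 4, 5, 4, 3, 2, 5, 5, 3, 3, 4, 5, 3, 3], [3, 5, 5, 2, 4, 2, 5, 5], 8, false⟩) (lall (memL L) [5, 2, 3, 2, 5, 5, 2, 3, 3, 4, 5, 4, 3, 2, 5, 5, 2, 2, 3, 2, 5, 5, 2, 2, 3, 3, 4, 5, 4, 3, 2, 5, 5, 3, 3, 4, 5, 3, 3]) = true := by decide +kernel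

theorem rot4_70 : T.rot 4 [3, 2, 5, 5, 2, 2, 3, 2, 5, 5, 2, 2, 3, 3, 4, 5, 4, 3, 2, 5, 5, 3, 3, 4, 5, 3, 3, 4, 5, 2, 3, 2, 5, 5, 2, 3, 3, 4, 5] (sel (ones 1755) ip4 70) = true := by decide +kernel

theorem rot4_70r : band (Rule.ok (2 * 1) EX RL ⟨4 :: [3, 2, 5, 5, 2, 2, 3, 2, 5, 5, 2, 2, 3, 3, 4, 5, 4, 3, 2, 5, 5, 3, 3, 4, 5, 3, 3, 4, 5, 2, 3, 2, 5, 5, 2, 3, 3, 4, 5], [2, 5, 5, 2, 4, 2, 2, 5, 5, 2, 4, 3], 8, false⟩) (lall (memL L) [3, 2, 5, 5, 2, 2, 3, 2, 5, 5, 2, 2, 3, 3, 4, 5, 4, 3, 2, 5, 5, 3, 3, 4, 5, 3, 3, 4, 5, 2, 3, 2, 5, 5, 2, 3, 3, 4, 5]) = true := by decide +kernel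

theorem rot4_71 : T.rot 4 [3, 2, 5, 5, 3, 2, 5, 5, 3, 3, 4, 5, 4, 3, 2, 5, 5, 3, 2, 5, 5, 3, 3, 4, 5, 4, 3, 2, 5, 5, 3, 2, 5, 5, 3, 3, 4, 5, 4, 3, 2, 5, 5, 3, 2, 5, 5, 3, 3, 4, 5] (sel (ones 1755) ip4 71) = true := by decide +kernel

theorem rot4_71r : band (Rule.ok (2 * 1) EX RL ⟨4 :: [3, 2, 5, 5, 3, 2, 5, 5, 3, 3, 4, 5, 4, 3, 2, 5, 5, 3, 2, 5, 5, 3, 3, 4, 5, 4, 3, 2, 5, 5, 3, 2, 5, 5, 3, 3, 4, 5, 4, 3, 2, 5, 5, 3, 2, 5, 5, 3, 3, 4, 5], [3, 3], 0, true⟩) (lall (memL L) [3, 2, 5, 5, 3, 2, 5, 5, 3, 3, 4, 5, 4, 3, 2, 5, 5, 3, 2, 5, 5, 3, 3, 4, 5, 4, 3, 2, 5, 5, 3, 2, 5, 5, 3, 3, 4, 5, 4, 3, 2, 5, 5, 3, 2, 5, 5, 3, 3, 4, 5]) = true := by decide +kernel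

theorem rot4_72 : T.rot 4 [5, 2, 3, 2, 5, 5, 3, 3, 4, 5, 3, 3, 4, 5, 2, 3, 2, 5, 5, 3, 3, 4, 5, 3, 3, 4, 5, 2, 3, 2, 5, 5, 3, 3, 4, 5, 3, 3, 4, 5, 2, 3, 2, 5, 5, 3, 3, 4, 5, 3, 3] (sel (ones 1755) ip4 72) = true := by decide +kernel

theorem rot4_72r : band (Rule.ok (2 * 1) EX RL ⟨4 :: [5, 2, 3, 2, 5, 5, 3, 3, 4, 5, 3, 3, 4, 5, 2, 3, 2, 5, 5, 3, 3, 4, 5, 3, 3, 4, 5, 2, 3, 2, 5, 5, 3, 3, 4, 5, 3, 3, 4, 5, 2, 3, 2, 5, 5, 3, 3, 4, 5, 3, 3], [3, 5, 3], 0, false⟩) (lall (memL L) [5, 2, 3, 2, 5, 5, 3, 3, 4, 5, 3, 3, 4, 5, 2, 3, 2, 5, 5, 3, 3, 4, 5, 3, 3, 4, 5, 2, 3, 2, 5, 5, 3, 3, 4, 5, 3, 3, 4, 5, 2, 3, 2, 5, 5, 3, 3, 4, 5, 3, 3]) = true := by decide +kernel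

theorem rot4_73 : T.rot 4 [3, 3, 4, 5, 2, 3, 2, 5, 5, 4, 3, 3, 4, 5, 4, 3, 2, 5, 5, 3, 2, 5, 5, 3, 3, 4, 5, 2, 3, 2, 5, 5, 4, 3, 3, 4, 5, 4, 3, 2, 5, 5, 3, 2, 5, 5, 2, 3, 2, 5, 5, 4, 4, 2, 3, 2, 5, 5, 4] (sel (ones 1755) ip4 73) = true := by decide +kernel

theorem rot4_73r : band (Rule.ok (2 * 1) EX RL ⟨4 :: [3, 3, 4, 5, 2, 3, 2, 5, 5, 4, 3, 3, 4, 5, 4, 3, 2, 5, 5, 3, 2, 5, 5, 3, 3, 4, 5, 2, 3, 2, 5, 5, 4, 3, 3, 4, 5, 4, 3, 2, 5, 5, 3, 2, 5, 5, 2, 3, 2, 5, 5, 4, 4, 2, 3, 2, 5, 5, 4], [3, 5, 3, 4, 4, 2, 5, 3, 4, 4, 2], 1, true⟩) (lall (memL L) [3, 3, 4, 5, 2, 3, 2, 5, 5, 4, 3, 3, 4, 5, 4, 3, 2, 5, 5, 3, 2, 5, 5, 3, 3, 4, 5, 2, 3, 2, 5, 5, 4, 3, 3, 4, 5, 4, 3, 2, 5, 5, 3, 2, 5, 5, 2, 3, 2, 5, 5, 4, 4, 2, 3, 2, 5, 5,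 4]) = true := by decide +kernel

theorem rot4_74 : T.rot 4 [5, 2, 3, 2, 5, 5, 4, 3, 3, 4, 5, 4, 3, 2, 5, 5, 3, 2, 5, 5, 3, 3, 4, 5, 2, 3, 2, 5, 5, 4, 3, 3, 4, 5, 4, 3, 2, 5, 5, 3, 2, 5, 5, 2, 3, 2, 5, 5, 4, 4, 2, 3, 2, 5, 5, 4, 4, 3, 3] (sel (ones 1755) ip4 74) = true := by decide +kernel

theorem rot4_74r : band (Rule.ok (2 * 1) EX RL ⟨4 :: [5, 2, 3, 2, 5, 5, 4, 3, 3, 4, 5, 4, 3, 2, 5, 5, 3, 2, 5, 5, 3, 3, 4, 5, 2, 3, 2, 5, 5, 4, 3, 3, 4, 5, 4, 3, 2, 5, 5, 3, 2, 5, 5, 2, 3, 2, 5, 5, 4, 4, 2, 3, 2, 5, 5, 4, 4, 3, 3], [3, 5, 3, 4, 4, 2, 5, 3, 4, 4, 2, 2, 5, 5], 1, true⟩) (lall (memL L) [5, 2, 3, 2, 5, 5, 4, 3, 3, 4, 5, 4, 3, 2, 5, 5, 3, 2, 5, 5, 3, 3, 4, 5, 2, 3, 2, 5, 5, 4, 3, 3, 4, 5, 4, 3, 2, 5, 5, 3, 2, 5, 5, 2,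 3, 2, 5, 5, 4, 4, 2, 3, 2, 5, 5, 4, 4, 3, 3]) = true := by decide +kernel

theorem rot4_75 : T.rot 4 [3, 2, 5, 5, 3, 2, 5, 5, 3, 3, 4, 5, 2, 3, 2, 5, 5, 4, 3, 3, 4, 5, 4, 3, 2, 5, 5, 3, 2, 5, 5, 2, 3, 2, 5, 5, 4, 4, 2, 3, 2, 5, 5, 4, 4, 3, 3, 4, 5, 2, 3, 2, 5, 5, 4, 3, 3, 4, 5] (sel (ones 1755) ip4 75) = true := by decide +kernel

theorem rot4_75r : band (Rule.ok (2 * 1) EX RL ⟨4 :: [3, 2, 5, 5, 3, 2, 5, 5, 3, 3, 4, 5, 2, 3, 2, 5, 5, 4, 3, 3, 4, 5, 4, 3, 2, 5, 5, 3, 2, 5, 5, 2, 3, 2, 5, 5, 4, 4, 2, 3, 2, 5, 5, 4, 4, 3, 3, 4, 5, 2, 3, 2, 5, 5, 4, 3, 3, 4, 5], [5, 5, 2, 5, 2, 4, 3, 5, 3, 4, 4, 3, 5, 5, 2, 4, 2, 5, 5, 2, 4, 3], 1, true⟩) (lall (memL L) [3, 2, 5, 5, 3, 2, 5, 5, 3, 3, 4, 5, 2, 3, 2, 5, 5, 4, 3, 3, 4, 5,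 4, 3, 2, 5, 5, 3, 2, 5, 5, 2, 3, 2, 5, 5, 4, 4, 2, 3, 2, 5, 5, 4, 4, 3, 3, 4, 5, 2, 3, 2, 5, 5, 4, 3, 3, 4, 5]) = true := by decide +kernel

theorem rot4_76 : T.rot 4 [3, 3, 4, 5, 4, 3, 2, 5, 5, 3, 2, 5, 5, 2, 3, 2, 5, 5, 4, 4, 2, 3, 2, 5, 5, 4, 4, 3, 3, 4, 5, 2, 3, 2, 5, 5, 4, 3, 3, 4, 5, 4, 3, 2, 5, 5, 3, 2, 5, 5, 3, 3, 4, 5, 2, 3, 2, 5, 5] (sel (ones 1755) ip4 76) = true := by decide +kernel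

theorem rot4_76r : band (Rule.ok (2 * 1) EX RL ⟨4 :: [3, 3, 4, 5, 4, 3, 2, 5, 5, 3, 2, 5, 5, 2, 3, 2, 5, 5, 4, 4, 2, 3, 2, 5, 5, 4, 4, 3, 3, 4, 5, 2, 3, 2, 5, 5, 4, 3, 3, 4, 5, 4, 3, 2, 5, 5, 3, 2, 5, 5, 3, 3, 4, 5, 2, 3, 2, 5, 5], [5, 5, 2, 5, 2, 4, 3, 5, 3, 4, 4, 3], 1, true⟩) (lall (memL L) [3, 3, 4, 5, 4, 3, 2, 5, 5, 3, 2, 5, 5, 2, 3, 2, 5, 5, 4, 4, 2, 3, 2, 5, 5, 4, 4, 3, 3, 4, 5, 2, 3, 2, 5, 5, 4, 3, 3, 4, 5, 4, 3, 2, 5, 5, 3, 2, 5, 5, 3, 3, 4, 5, 2, 3, 2, 5, 5]) = true := by decide +kernel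

theorem rot4_77 : T.rot 4 [5, 3, 3, 4, 5, 2, 3, 2, 5, 5, 2, 3, 3, 4, 5, 4, 3, 2, 5, 5, 3, 3, 4, 5, 3, 3, 4, 5, 2, 3, 2, 5, 5, 2, 3, 3, 4, 5, 4, 3, 2, 5, 5, 2, 2, 3, 3, 4, 5, 4, 2, 2, 3, 3, 4, 5, 4, 3, 3] (sel (ones 1755) ip4 77) = true := by decide +kernel

theorem rot4_77r : band (Rule.ok (2 * 1) EX RL ⟨4 :: [5, 3, 3, 4, 5, 2, 3, 2, 5, 5, 2, 3, 3, 4, 5, 4, 3, 2, 5, 5, 3, 3, 4, 5, 3, 3, 4, 5, 2, 3, 2, 5, 5, 2, 3, 3, 4, 5, 4, 3, 2, 5, 5, 2, 2, 3, 3, 4, 5, 4, 2, 2, 3, 3, 4, 5, 4, 3, 3], [5, 5], 1, false⟩) (lall (memL L) [5, 3, 3, 4, 5, 2, 3, 2, 5, 5, 2, 3, 3, 4, 5, 4, 3, 2, 5, 5, 3, 3, 4, 5, 3, 3, 4, 5, 2, 3, 2, 5, 5, 2, 3, 3, 4, 5, 4, 3, 2, 5, 5, 2, 2, 3, 3, 4, 5, 4, 2, 2, 3, 3, 4, 5, 4, 3, 3]) = true := by decide +kernel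

theorem rot4_78 : T.rot 4 [5, 2, 3, 2, 5, 5, 2, 3, 3, 4, 5, 4, 3, 2, 5, 5, 3, 3, 4, 5, 3, 3, 4, 5, 2, 3, 2, 5, 5, 2, 3, 3, 4, 5, 4, 3, 2, 5, 5, 2, 2, 3, 3, 4, 5, 4, 2, 2, 3, 3, 4, 5, 4, 3, 3, 4, 5, 3, 3] (sel (ones 1755) ip4 78) = true := by decide +kernel

theorem rot4_78r : band (Rule.ok (2 * 1) EX RL ⟨4 :: [5, 2, 3, 2, 5, 5, 2, 3, 3, 4, 5, 4, 3, 2, 5, 5, 3, 3, 4, 5, 3, 3, 4, 5, 2, 3, 2, 5, 5, 2, 3, 3, 4, 5, 4, 3, 2, 5, 5, 2, 2, 3, 3, 4, 5, 4, 2, 2, 3, 3, 4, 5, 4, 3, 3, 4, 5, 3, 3], [5, 5, 2, 5], 1, false⟩) (lall (memL L) [5, 2, 3, 2, 5, 5, 2, 3, 3, 4, 5, 4, 3, 2, 5, 5, 3, 3, 4, 5, 3, 3, 4, 5, 2, 3, 2, 5, 5, 2, 3, 3, 4, 5, 4, 3, 2, 5, 5, 2, 2, 3, 3, 4, 5, 4, 2, 2, 3, 3, 4, 5, 4, 3, 3, 4, 5, 3, 3]) = true := by decide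 +kernel

theorem rot4_79 : T.rot 4 [5, 4, 3, 2, 5, 5, 3, 3, 4, 5, 3, 3, 4, 5, 2, 3, 2, 5, 5, 2, 3, 3, 4, 5, 4, 3, 2, 5, 5, 2, 2, 3, 3, 4, 5, 4, 2, 2, 3, 3, 4, 5, 4, 3, 3, 4, 5, 3, 3, 4, 5, 2, 3, 2, 5, 5, 2, 3, 3] (sel (ones 1755) ip4 79) = true := by decide +kernel

theorem rot4_79r : band (Rule.ok (2 * 1) EX RL ⟨4 :: [5, 4, 3, 2, 5, 5, 3, 3, 4, 5, 3, 3, 4, 5, 2, 3, 2, 5, 5, 2, 3, 3, 4, 5, 4, 3, 2, 5, 5, 2, 2, 3, 3, 4, 5, 4, 2, 2, 3, 3, 4, 5, 4, 3, 3, 4, 5, 3, 3, 4, 5, 2, 3, 2, 5, 5, 2, 3, 3], [5, 5, 2, 5, 2, 4, 3, 5, 3, 4, 4, 3, 5, 5], 1, false⟩) (lall (memL L) [5, 4, 3, 2, 5, 5, 3, 3, 4, 5, 3, 3, 4, 5, 2, 3, 2, 5, 5, 2, 3, 3, 4, 5, 4, 3, 2, 5, 5, 2, 2, 3, 3, 4, 5, 4, 2, 2, 3, 3, 4, 5, 4, 3, 3, 4, 5, 3, 3, 4, 5, 2,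 3, 2, 5, 5, 2, 3, 3]) = true := by decide +kernel

theorem rot4_80 : T.rot 4 [3, 2, 5, 5, 2, 2, 3, 3, 4, 5, 4, 2, 2, 3, 3, 4, 5, 4, 3, 3, 4, 5, 3, 3, 4, 5, 2, 3, 2, 5, 5, 2, 3, 3, 4, 5, 4, 3, 2, 5, 5, 3, 3, 4, 5, 3, 3, 4, 5, 2, 3, 2, 5, 5, 2, 3, 3, 4, 5] (sel (ones 1755) ip4 80) = true := by decide +kernel

theorem rot4_80r : band (Rule.ok (2 * 1) EX RL ⟨4 :: [3, 2, 5, 5, 2, 2, 3, 3, 4, 5, 4, 2, 2, 3, 3, 4, 5, 4, 3, 3, 4, 5, 3, 3, 4, 5, 2, 3, 2, 5, 5, 2, 3, 3, 4, 5, 4, 3, 2, 5, 5, 3, 3, 4, 5, 3, 3, 4, 5, 2, 3, 2, 5, 5, 2, 3, 3, 4, 5], [3, 5, 3, 4, 4, 2, 5, 3, 4, 4, 2, 2, 5, 5, 2, 4, 3], 1, false⟩) (lall (memL L) [3, 2, 5, 5, 2, 2, 3, 3, 4, 5, 4, 2, 2, 3, 3, 4, 5, 4, 3, 3, 4, 5, 3, 3, 4, 5, 2, 3, 2, 5, 5, 2, 3, 3, 4,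 5, 4, 3, 2, 5, 5, 3, 3, 4, 5, 3, 3, 4, 5, 2, 3, 2, 5, 5, 2, 3, 3, 4, 5]) = true := by decide +kernel

theorem rot4_81 : T.rot 4 [3, 3, 4, 5, 3, 3, 4, 5, 2, 3, 2, 5, 5, 2, 3, 3, 4, 5, 4, 3, 2, 5, 5, 3, 3, 4, 5, 3, 3, 4, 5, 2, 3, 2, 5, 5, 2, 3, 3, 4, 5, 4, 3, 2, 5, 5, 2, 2, 3, 3, 4, 5, 4, 2, 2, 3, 3, 4, 5] (sel (ones 1755) ip4 81) = true := by decide +kernel

theorem rot4_81r : band (Rule.ok (2 * 1) EX RL ⟨4 :: [3, 3, 4, 5, 3, 3, 4, 5, 2, 3, 2, 5, 5, 2, 3, 3, 4, 5, 4, 3, 2, 5, 5, 3, 3, 4, 5, 3, 3, 4, 5, 2, 3, 2, 5, 5, 2, 3, 3, 4, 5, 4, 3, 2, 5, 5, 2, 2, 3, 3, 4, 5, 4, 2, 2, 3, 3, 4, 5], [3], 1, false⟩) (lall (memL L) [3, 3, 4, 5, 3, 3, 4, 5, 2, 3, 2, 5, 5, 2, 3, 3, 4, 5, 4, 3, 2, 5, 5, 3, 3, 4, 5, 3, 3, 4, 5, 2, 3, 2,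 5, 5, 2, 3, 3, 4, 5, 4, 3, 2, 5, 5, 2, 2, 3, 3, 4, 5, 4, 2, 2, 3, 3, 4, 5]) = true := by decide +kernel

theorem rot4_82 : T.rot 4 [4, 2, 3, 2, 5, 5, 4, 4, 3, 3, 4, 5, 2, 3, 2, 5, 5, 4, 3, 3, 4, 5, 3, 3, 4, 5, 2, 3, 2, 5, 5, 3, 3, 4, 5, 2, 3, 2, 5, 5, 4, 3, 3, 4, 5, 3, 3, 4, 5, 2, 3, 2, 5, 5, 2, 3, 2, 5, 5] (sel (ones 1755) ip4 82) = true := by decide +kernel

theorem rot4_82r : band (Rule.ok (2 * 1) EX RL ⟨4 :: [4, 2, 3, 2, 5, 5, 4, 4, 3, 3, 4, 5, 2, 3, 2, 5, 5, 4, 3, 3, 4, 5, 3, 3, 4, 5, 2, 3, 2, 5, 5, 3, 3, 4, 5, 2, 3, 2, 5, 5, 4, 3, 3, 4, 5, 3, 3, 4, 5, 2, 3, 2, 5, 5, 2, 3, 2, 5, 5], [3, 5, 3, 4, 4], 2, true⟩) (lall (memL L) [4, 2, 3, 2, 5, 5, 4, 4, 3, 3, 4, 5, 2, 3, 2, 5, 5, 4, 3, 3, 4, 5, 3, 3, 4, 5, 2, 3, 2,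 5, 5, 3, 3, 4, 5, 2, 3, 2, 5, 5, 4, 3, 3, 4, 5, 3, 3, 4, 5, 2, 3, 2, 5, 5, 2, 3, 2, 5, 5]) = true := by decide +kernel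

theorem rot4_83 : T.rot 4 [4, 3, 3, 4, 5, 2, 3, 2, 5, 5, 4, 3, 3, 4, 5, 3, 3, 4, 5, 2, 3, 2, 5, 5, 3, 3, 4, 5, 2, 3, 2, 5, 5, 4, 3, 3, 4, 5, 3, 3, 4, 5, 2, 3, 2, 5, 5, 2, 3, 2, 5, 5, 4, 4, 2, 3, 2, 5, 5] (sel (ones 1755) ip4 83) = true := by decide +kernel

theorem rot4_83r : band (Rule.ok (2 * 1) EX RL ⟨4 :: [4, 3, 3, 4, 5, 2, 3, 2, 5, 5, 4, 3, 3, 4, 5, 3, 3, 4, 5, 2, 3, 2, 5, 5, 3, 3, 4, 5, 2, 3, 2, 5, 5, 4, 3, 3, 4, 5, 3, 3, 4, 5, 2, 3, 2, 5, 5, 2, 3, 2, 5, 5, 4, 4, 2, 3, 2, 5, 5], [3, 5, 3, 4, 4, 2, 5, 3, 4, 4], 2, true⟩) (lall (memL L) [4, 3, 3, 4, 5, 2, 3, 2, 5, 5, 4, 3, 3, 4, 5, 3, 3, 4, 5, 2, 3, 2, 5, 5, 3, 3, 4, 5, 2, 3, 2, 5, 5, 4, 3, 3, 4, 5, 3, 3, 4, 5, 2, 3, 2, 5, 5, 2, 3, 2, 5, 5, 4, 4, 2, 3, 2, 5, 5])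 = true := by decide +kernel

theorem rot4_84 : T.rot 4 [5, 2, 3, 2, 5, 5, 4, 3, 3, 4, 5, 3, 3, 4, 5, 2, 3, 2, 5, 5, 3, 3, 4, 5, 2, 3, 2, 5, 5, 4, 3, 3, 4, 5, 3, 3, 4, 5, 2, 3, 2, 5, 5, 2, 3, 2, 5, 5, 4, 4, 2, 3, 2, 5, 5, 4, 4, 3, 3] (sel (ones 1755) ip4 84) = true := by decide +kernel

theorem rot4_84r : band (Rule.ok (2 * 1) EX RL ⟨4 :: [5, 2, 3, 2, 5, 5, 4, 3, 3, 4, 5, 3, 3, 4, 5, 2, 3, 2, 5, 5, 3, 3, 4, 5, 2, 3, 2, 5, 5, 4, 3, 3, 4, 5, 3, 3, 4, 5, 2, 3, 2, 5, 5, 2, 3, 2, 5, 5, 4, 4, 2, 3, 2, 5, 5, 4, 4, 3, 3], [3, 5, 3, 4, 4, 2, 5, 3, 4, 4, 2, 2, 5, 5], 2, true⟩) (lall (memL L) [5, 2, 3, 2, 5, 5, 4, 3, 3, 4, 5, 3, 3, 4, 5, 2, 3, 2, 5, 5, 3, 3, 4, 5, 2, 3, 2, 5, 5, 4, 3, 3, 4, 5, 3, 3, 4, 5, 2, 3, 2, 5, 5, 2, 3, 2,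 5, 5, 4, 4, 2, 3, 2, 5, 5, 4, 4, 3, 3]) = true := by decide +kernel

theorem rot4_85 : T.rot 4 [5, 3, 3, 4, 5, 2, 3, 2, 5, 5, 2, 3, 2, 5, 5, 4, 4, 2, 3, 2, 5, 5, 4, 4, 3, 3, 4, 5, 2, 3, 2, 5, 5, 4, 3, 3, 4, 5, 3, 3, 4, 5, 2, 3, 2, 5, 5, 3, 3, 4, 5, 2, 3, 2, 5, 5, 4, 3, 3] (sel (ones 1755) ip4 85) = true := by decide +kernel

theorem rot4_85r : band (Rule.ok (2 * 1) EX RL ⟨4 :: [5, 3, 3, 4, 5, 2, 3, 2, 5, 5, 2, 3, 2, 5, 5, 4, 4, 2, 3, 2, 5, 5, 4, 4, 3, 3, 4, 5, 2, 3, 2, 5, 5, 4, 3, 3, 4, 5, 3, 3, 4, 5, 2, 3, 2, 5, 5, 3, 3, 4, 5, 2, 3, 2, 5, 5, 4, 3, 3], [5, 5, 2, 4, 2, 5, 3, 4, 3], 2, true⟩) (lall (memL L) [5, 3, 3, 4, 5, 2, 3, 2, 5, 5, 2, 3, 2, 5, 5, 4, 4, 2, 3, 2, 5, 5, 4, 4, 3, 3, 4, 5, 2, 3, 2, 5, 5, 4, 3, 3, 4,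 5, 3, 3, 4, 5, 2, 3, 2, 5, 5, 3, 3, 4, 5, 2, 3, 2, 5, 5, 4, 3, 3]) = true := by decide +kernel

theorem rot4_86 : T.rot 4 [5, 2, 3, 2, 5, 5, 2, 3, 2, 5, 5, 4, 4, 2, 3, 2, 5, 5, 4, 4, 3, 3, 4, 5, 2, 3, 2, 5, 5, 4, 3, 3, 4, 5, 3, 3, 4, 5, 2, 3, 2, 5, 5, 3, 3, 4, 5, 2, 3, 2, 5, 5, 4, 3, 3, 4, 5, 3, 3] (sel (ones 1755) ip4 86) = true := by decide +kernel

theorem rot4_86r : band (Rule.ok (2 * 1) EX RL ⟨4 :: [5, 2, 3, 2, 5, 5, 2, 3, 2, 5, 5, 4, 4, 2, 3, 2, 5, 5, 4, 4, 3, 3, 4, 5, 2, 3, 2, 5, 5, 4, 3, 3, 4, 5, 3, 3, 4, 5, 2, 3, 2, 5, 5, 3, 3, 4, 5, 2, 3, 2, 5, 5, 4, 3, 3, 4, 5, 3, 3], [5, 5, 2, 4, 2, 5, 3], 2, true⟩) (lall (memL L) [5, 2, 3, 2, 5, 5, 2, 3, 2, 5, 5, 4, 4, 2, 3, 2, 5, 5, 4, 4, 3, 3, 4, 5, 2, 3, 2, 5, 5, 4,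 3, 3, 4, 5, 3, 3, 4, 5, 2, 3, 2, 5, 5, 3, 3, 4, 5, 2, 3, 2, 5, 5, 4, 3, 3, 4, 5, 3, 3]) = true := by decide +kernel

theorem rot4_87 : T.rot 4 [3, 2, 5, 5, 3, 2, 5, 5, 2, 3, 3, 4, 5, 4, 3, 2, 5, 5, 3, 3, 4, 5, 4, 3, 2, 5, 5, 3, 2, 5, 5, 2, 3, 3, 4, 5, 4, 3, 2, 5, 5, 2, 2, 3, 3, 4, 5, 4, 2, 2, 3, 3, 4, 5, 4, 3, 3, 4, 5] (sel (ones 1755) ip4 87) = true := by decide +kernel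

theorem rot4_87r : band (Rule.ok (2 * 1) EX RL ⟨4 :: [3, 2, 5, 5, 3, 2, 5, 5, 2, 3, 3, 4, 5, 4, 3, 2, 5, 5, 3, 3, 4, 5, 4, 3, 2, 5, 5, 3, 2, 5, 5, 2, 3, 3, 4, 5, 4, 3, 2, 5, 5, 2, 2, 3, 3, 4, 5, 4, 2, 2, 3, 3, 4, 5, 4, 3, 3, 4, 5], [5, 5, 2, 4], 2, false⟩) (lall (memL L) [3, 2, 5, 5, 3, 2, 5, 5, 2, 3, 3, 4, 5, 4, 3, 2, 5, 5, 3, 3, 4, 5, 4, 3, 2, 5, 5, 3, 2, 5, 5, 2, 3, 3, 4, 5, 4, 3, 2, 5, 5, 2, 2, 3, 3, 4, 5, 4, 2, 2, 3, 3, 4, 5, 4, 3, 3, 4, 5]) = true := by decide +kernel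

theorem rot4_88 : T.rot 4 [5, 4, 3, 2, 5, 5, 3, 3, 4, 5, 4, 3, 2, 5, 5, 3, 2, 5, 5, 2, 3, 3, 4, 5, 4, 3, 2, 5, 5, 2, 2, 3, 3, 4, 5, 4, 2, 2, 3, 3, 4, 5, 4, 3, 3, 4, 5, 4, 3, 2, 5, 5, 3, 2, 5, 5, 2, 3, 3] (sel (ones 1755) ip4 88) = true := by decide +kernel

theorem rot4_88r : band (Rule.ok (2 * 1) EX RL ⟨4 :: [5, 4, 3, 2, 5, 5, 3, 3, 4, 5, 4, 3, 2, 5, 5, 3, 2, 5, 5, 2, 3, 3, 4, 5, 4, 3, 2, 5, 5, 2, 2, 3, 3, 4, 5, 4, 2, 2, 3, 3, 4, 5, 4, 3, 3, 4, 5, 4, 3, 2, 5, 5, 3, 2, 5, 5, 2, 3, 3], [5, 5, 2, 4, 2, 5, 3, 4, 3, 4, 4, 3, 5, 5], 2, false⟩) (lall (memL L) [5, 4, 3, 2, 5, 5, 3, 3, 4, 5, 4, 3, 2, 5, 5, 3, 2, 5, 5, 2, 3, 3, 4, 5, 4, 3, 2, 5, 5, 2, 2, 3, 3, 4, 5, 4, 2, 2, 3, 3, 4, 5, 4, 3, 3, 4, 5, 4, 3, 2, 5, 5, 3, 2, 5,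 5, 2, 3, 3]) = true := by decide +kernel

theorem rot4_89 : T.rot 4 [3, 2, 5, 5, 3, 2, 5, 5, 2, 2, 3, 3, 4, 5, 4, 3, 3, 4, 5, 2, 3, 2, 5, 5, 4, 3, 3, 4, 5, 3, 3, 4, 5, 2, 3, 2, 5, 5, 2, 3, 3, 4, 5, 4, 3, 2, 5, 5, 2, 3, 2, 5, 5, 4, 4, 3, 3, 4, 5] (sel (ones 1755) ip4 89) = true := by decide +kernel

theorem rot4_89r : band (Rule.ok (2 * 1) EX RL ⟨4 :: [3, 2, 5, 5, 3, 2, 5, 5, 2, 2, 3, 3, 4, 5, 4, 3, 3, 4, 5, 2, 3, 2, 5, 5, 4, 3, 3, 4, 5, 3, 3, 4, 5, 2, 3, 2, 5, 5, 2, 3, 3, 4, 5, 4, 3, 2, 5, 5, 2, 3, 2, 5, 5, 4, 4, 3, 3, 4, 5], [3, 5, 3, 4, 4, 2, 2, 5, 5, 2, 4], 3, true⟩) (lall (memL L) [3, 2, 5, 5, 3, 2, 5, 5, 2, 2, 3, 3, 4, 5, 4, 3, 3, 4, 5, 2, 3, 2, 5, 5, 4, 3, 3, 4, 5, 3, 3, 4, 5, 2, 3, 2, 5, 5, 2, 3, 3, 4, 5, 4,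 3, 2, 5, 5, 2, 3, 2, 5, 5, 4, 4, 3, 3, 4, 5]) = true := by decide +kernel

theorem rot4_90 : T.rot 4 [3, 3, 4, 5, 3, 3, 4, 5, 2, 3, 2, 5, 5, 2, 3, 3, 4, 5, 4, 3, 2, 5, 5, 2, 3, 2, 5, 5, 4, 4, 3, 3, 4, 5, 4, 3, 2, 5, 5, 3, 2, 5, 5, 2, 2, 3, 3, 4, 5, 4, 3, 3, 4, 5, 2, 3, 2, 5, 5] (sel (ones 1755) ip4 90) = true := by decide +kernel

theorem rot4_90r : band (Rule.ok (2 * 1) EX RL ⟨4 :: [3, 3, 4, 5, 3, 3, 4, 5, 2, 3, 2, 5, 5, 2, 3, 3, 4, 5, 4, 3, 2, 5, 5, 2, 3, 2, 5, 5, 4, 4, 3, 3, 4, 5, 4, 3, 2, 5, 5, 3, 2, 5, 5, 2, 2, 3, 3, 4, 5, 4, 3, 3, 4, 5, 2, 3, 2, 5, 5], [5, 5, 2, 4, 3, 5, 3, 4, 4, 2, 5, 5, 2, 4, 2, 5, 3, 4, 3, 4, 4, 3], 3, true⟩) (lall (memL L) [3, 3, 4, 5, 3, 3, 4, 5, 2, 3, 2, 5, 5, 2, 3, 3, 4, 5, 4, 3, 2, 5,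 5, 2, 3, 2, 5, 5, 4, 4, 3, 3, 4, 5, 4, 3, 2, 5, 5, 3, 2, 5, 5, 2, 2, 3, 3, 4, 5, 4, 3, 3, 4, 5, 2, 3, 2, 5, 5]) = true := by decide +kernel

theorem rot4_91 : T.rot 4 [5, 4, 3, 2, 5, 5, 2, 3, 2, 5, 5, 4, 4, 3, 3, 4, 5, 4, 3, 2, 5, 5, 3, 2, 5, 5, 2, 2, 3, 3, 4, 5, 4, 3, 3, 4, 5, 2, 3, 2, 5, 5, 4, 3, 3, 4, 5, 3, 3, 4, 5, 2, 3, 2, 5, 5, 2, 3, 3] (sel (ones 1755) ip4 91) = true := by decide +kernel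

theorem rot4_91r : band (Rule.ok (2 * 1) EX RL ⟨4 :: [5, 4, 3, 2, 5, 5, 2, 3, 2, 5, 5, 4, 4, 3, 3, 4, 5, 4, 3, 2, 5, 5, 3, 2, 5, 5, 2, 2, 3, 3, 4, 5, 4, 3, 3, 4, 5, 2, 3, 2, 5, 5, 4, 3, 3, 4, 5, 3, 3, 4, 5, 2, 3, 2, 5, 5, 2, 3, 3], [5, 5, 2, 4, 3, 5, 3], 3, true⟩) (lall (memL L) [5, 4, 3, 2, 5, 5, 2, 3, 2, 5, 5, 4, 4, 3, 3, 4, 5, 4, 3, 2, 5, 5, 3, 2, 5, 5, 2, 2, 3, 3, 4, 5, 4, 3, 3, 4, 5, 2, 3, 2, 5, 5, 4, 3, 3, 4, 5, 3, 3, 4, 5, 2, 3, 2, 5, 5, 2, 3, 3]) = true := by decide +kernel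

theorem rot4_92 : T.rot 4 [5, 4, 3, 2, 5, 5, 3, 2, 5, 5, 2, 3, 3, 4, 5, 4, 3, 2, 5, 5, 2, 3, 2, 5, 5, 4, 4, 3, 3, 4, 5, 3, 3, 4, 5, 2, 3, 2, 5, 5, 2, 2, 3, 3, 4, 5, 4, 3, 3, 4, 5, 2, 3, 2, 5, 5, 4, 3, 3] (sel (ones 1755) ip4 92) = true := by decide +kernel

theorem rot4_92r : band (Rule.ok (2 * 1) EX RL ⟨4 :: [5, 4, 3, 2, 5, 5, 3, 2, 5, 5, 2, 3, 3, 4, 5, 4, 3, 2, 5, 5, 2, 3, 2, 5, 5, 4, 4, 3, 3, 4, 5, 3, 3, 4, 5, 2, 3, 2, 5, 5, 2, 2, 3, 3, 4, 5, 4, 3, 3, 4, 5, 2, 3, 2, 5, 5, 4, 3, 3], [5, 5, 2, 4, 3, 5, 3, 4, 4, 2, 5, 5], 3, false⟩) (lall (memL L) [5, 4, 3, 2, 5, 5, 3, 2, 5, 5, 2, 3, 3, 4, 5, 4, 3, 2, 5, 5, 2, 3, 2, 5, 5, 4, 4, 3, 3, 4, 5, 3, 3, 4, 5, 2, 3, 2, 5, 5, 2, 2, 3, 3, 4, 5, 4, 3, 3, 4, 5, 2, 3, 2, 5, 5, 4,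 3, 3]) = true := by decide +kernel

theorem rot4_93 : T.rot 4 [5, 4, 3, 2, 5, 5, 2, 3, 2, 5, 5, 4, 4, 3, 3, 4, 5, 3, 3, 4, 5, 2, 3, 2, 5, 5, 2, 2, 3, 3, 4, 5, 4, 3, 3, 4, 5, 2, 3, 2, 5, 5, 4, 3, 3, 4, 5, 4, 3, 2, 5, 5, 3, 2, 5, 5, 2, 3, 3] (sel (ones 1755) ip4 93) = true := by decide +kernel

theorem rot4_93r : band (Rule.ok (2 * 1) EX RL ⟨4 :: [5, 4, 3, 2, 5, 5, 2, 3, 2, 5, 5, 4, 4, 3, 3, 4, 5, 3, 3, 4, 5, 2, 3, 2, 5, 5, 2, 2, 3, 3, 4, 5, 4, 3, 3, 4, 5, 2, 3, 2, 5, 5, 4, 3, 3, 4, 5, 4, 3, 2, 5, 5, 3, 2, 5, 5, 2, 3, 3], [5, 5, 2, 4, 3, 5, 3, 4, 4, 2, 5, 5, 2, 4, 2, 5, 3, 4, 3, 4, 4, 3, 5, 5], 3, false⟩) (lall (memL L) [5, 4, 3, 2, 5, 5, 2, 3, 2, 5, 5, 4, 4, 3, 3, 4, 5, 3, 3, 4, 5, 2, 3, 2, 5, 5, 2, 2, 3, 3, 4, 5, 4,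 3, 3, 4, 5, 2, 3, 2, 5, 5, 4, 3, 3, 4, 5, 4, 3, 2, 5, 5, 3, 2, 5, 5, 2, 3, 3]) = true := by decide +kernel

theorem rot4_94 : T.rot 4 [4, 3, 3, 4, 5, 3, 3, 4, 5, 2, 3, 2, 5, 5, 2, 2, 3, 3, 4, 5, 4, 3, 3, 4, 5, 2, 3, 2, 5, 5, 4, 3, 3, 4, 5, 4, 3, 2, 5, 5, 3, 2, 5, 5, 2, 3, 3, 4, 5, 4, 3, 2, 5, 5, 2, 3, 2, 5, 5] (sel (ones 1755) ip4 94) = true := by decide +kernel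

theorem rot4_94r : band (Rule.ok (2 * 1) EX RL ⟨4 :: [4, 3, 3, 4, 5, 3, 3, 4, 5, 2, 3, 2, 5, 5, 2, 2, 3, 3, 4, 5, 4, 3, 3, 4, 5, 2, 3, 2, 5, 5, 4, 3, 3, 4, 5, 4, 3, 2, 5, 5, 3, 2, 5, 5, 2, 3, 3, 4, 5, 4, 3, 2, 5, 5, 2, 3, 2, 5, 5], [3, 5, 3, 4, 4, 2, 2, 5, 5, 2, 4, 2, 5, 3, 4, 3, 4, 4, 3, 3], 3, false⟩) (lall (memL L) [4, 3, 3, 4, 5, 3, 3, 4, 5, 2, 3, 2, 5, 5, 2, 2, 3, 3, 4, 5, 4, 3, 3, 4, 5, 2, 3, 2, 5, 5, 4, 3, 3, 4, 5, 4, 3, 2, 5, 5, 3, 2, 5, 5, 2, 3, 3, 4, 5, 4, 3, 2, 5, 5, 2, 3, 2, 5, 5]) = true := by decide +kernel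

theorem rot4_95 : T.rot 4 [3, 3, 4, 5, 3, 3, 4, 5, 2, 3, 2, 5, 5, 2, 2, 3, 3, 4, 5, 4, 3, 3, 4, 5, 2, 3, 2, 5, 5, 4, 3, 3, 4, 5, 4, 3, 2, 5, 5, 3, 2, 5, 5, 2, 3, 3, 4, 5, 4, 3, 2, 5, 5, 2, 3, 2, 5, 5, 4] (sel (ones 1755) ip4 95) = true := by decide +kernel

theorem rot4_95r : band (Rule.ok (2 * 1) EX RL ⟨4 :: [3, 3, 4, 5, 3, 3, 4, 5, 2, 3, 2, 5, 5, 2, 2, 3, 3, 4, 5, 4, 3, 3, 4, 5, 2, 3, 2, 5, 5, 4, 3, 3, 4, 5, 4, 3, 2, 5, 5, 3, 2, 5, 5, 2, 3, 3, 4, 5, 4, 3, 2, 5, 5, 2, 3, 2, 5, 5, 4], [3, 5, 3, 4, 4, 2, 2, 5, 5, 2, 4, 2, 5, 3, 4, 3, 4, 4, 3], 3, false⟩) (lall (memL L) [3, 3, 4, 5, 3, 3, 4, 5, 2, 3, 2, 5, 5, 2, 2, 3, 3, 4, 5, 4, 3, 3, 4, 5, 2, 3, 2, 5, 5, 4, 3, 3, 4, 5, 4, 3, 2, 5, 5, 3, 2, 5, 5, 2, 3, 3, 4, 5, 4, 3,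 2, 5, 5, 2, 3, 2, 5, 5, 4]) = true := by decide +kernel

theorem rot4_96 : T.rot 4 [5, 3, 3, 4, 5, 2, 3, 2, 5, 5, 2, 2, 3, 3, 4, 5, 4, 3, 3, 4, 5, 2, 3, 2, 5, 5, 4, 3, 3, 4, 5, 4, 3, 2, 5, 5, 3, 2, 5, 5, 2, 3, 3, 4, 5, 4, 3, 2, 5, 5, 2, 3, 2, 5, 5, 4, 4, 3, 3] (sel (ones 1755) ip4 96) = true := by decide +kernel

theorem rot4_96r : band (Rule.ok (2 * 1) EX RL ⟨4 :: [5, 3, 3, 4, 5, 2, 3, 2, 5, 5, 2, 2, 3, 3, 4, 5, 4, 3, 3, 4, 5, 2, 3, 2, 5, 5, 4, 3, 3, 4, 5, 4, 3, 2, 5, 5, 3, 2, 5, 5, 2, 3, 3, 4, 5, 4, 3, 2, 5, 5, 2, 3, 2, 5, 5, 4, 4, 3, 3], [3, 5, 3, 4, 4, 2, 2, 5, 5, 2, 4, 2, 5, 3, 4, 3], 3, false⟩) (lall (memL L) [5, 3, 3, 4, 5, 2, 3, 2, 5, 5, 2, 2, 3, 3, 4, 5, 4, 3, 3, 4, 5, 2, 3, 2, 5, 5, 4, 3, 3, 4, 5, 4, 3, 2,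 5, 5, 3, 2, 5, 5, 2, 3, 3, 4, 5, 4, 3, 2, 5, 5, 2, 3, 2, 5, 5, 4, 4, 3, 3]) = true := by decide +kernel

theorem rot4_97 : T.rot 4 [5, 4, 3, 3, 4, 5, 2, 3, 2, 5, 5, 4, 3, 3, 4, 5, 4, 3, 2, 5, 5, 3, 2, 5, 5, 2, 3, 3, 4, 5, 4, 3, 2, 5, 5, 2, 3, 2, 5, 5, 4, 4, 3, 3, 4, 5, 3, 3, 4, 5, 2, 3, 2, 5, 5, 2, 2, 3, 3] (sel (ones 1755) ip4 97) = true := by decide +kernel

theorem rot4_97r : band (Rule.ok (2 * 1) EX RL ⟨4 :: [5, 4, 3, 3, 4, 5, 2, 3, 2, 5, 5, 4, 3, 3, 4, 5, 4, 3, 2, 5, 5, 3, 2, 5, 5, 2, 3, 3, 4, 5, 4, 3, 2, 5, 5, 2, 3, 2, 5, 5, 4, 4, 3, 3, 4, 5, 3, 3, 4, 5, 2, 3, 2, 5, 5, 2, 2, 3, 3], [3, 5, 3], 3, false⟩) (lall (memL L) [5, 4, 3, 3, 4, 5, 2, 3, 2, 5, 5, 4, 3, 3, 4, 5, 4, 3, 2, 5, 5, 3, 2, 5, 5, 2, 3, 3, 4, 5, 4,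 3, 2, 5, 5, 2, 3, 2, 5, 5, 4, 4, 3, 3, 4, 5, 3, 3, 4, 5, 2, 3, 2, 5, 5, 2, 2, 3, 3]) = true := by decide +kernel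

theorem rot4_98 : T.rot 4 [5, 4, 3, 2, 5, 5, 3, 3, 4, 5, 4, 3, 2, 5, 5, 3, 2, 5, 5, 3, 3, 4, 5, 2, 3, 2, 5, 5, 4, 2, 2, 3, 3, 4, 5, 4, 3, 3, 4, 5, 3, 3, 4, 5, 2, 3, 2, 5, 5, 2, 3, 2, 5, 5, 4, 4, 2, 3, 3] (sel (ones 1755) ip4 98) = true := by decide +kernel

theorem rot4_98r : band (Rule.ok (2 * 1) EX RL ⟨4 :: [5, 4, 3, 2, 5, 5, 3, 3, 4, 5, 4, 3, 2, 5, 5, 3, 2, 5, 5, 3, 3, 4, 5, 2, 3, 2, 5, 5, 4, 2, 2, 3, 3, 4, 5, 4, 3, 3, 4, 5, 3, 3, 4, 5, 2, 3, 2, 5, 5, 2, 3, 2, 5, 5, 4, 4, 2, 3, 3], [3, 5, 3, 4, 4, 2, 5, 5], 5, true⟩) (lall (memL L) [5, 4, 3, 2, 5, 5, 3, 3, 4, 5, 4, 3, 2, 5, 5, 3, 2, 5, 5, 3, 3, 4, 5, 2, 3, 2, 5, 5, 4, 2, 2, 3, 3, 4, 5, 4, 3, 3, 4, 5, 3, 3, 4, 5, 2, 3, 2, 5, 5, 2, 3, 2, 5, 5, 4, 4, 2, 3, 3]) = true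 := by decide +kernel

theorem rot4_99 : T.rot 4 [3, 2, 5, 5, 3, 3, 4, 5, 4, 3, 2, 5, 5, 3, 2, 5, 5, 3, 3, 4, 5, 2, 3, 2, 5, 5, 4, 2, 2, 3, 3, 4, 5, 4, 3, 3, 4, 5, 3, 3, 4, 5, 2, 3, 2, 5, 5, 2, 3, 2, 5, 5, 4, 4, 2, 3, 3, 4, 5] (sel (ones 1755) ip4 99) = true := by decide +kernel

theorem rot4_99r : band (Rule.ok (2 * 1) EX RL ⟨4 :: [3, 2, 5, 5, 3, 3, 4, 5, 4, 3, 2, 5, 5, 3, 2, 5, 5, 3, 3, 4, 5, 2, 3, 2, 5, 5, 4, 2, 2, 3, 3, 4, 5, 4, 3, 3, 4, 5, 3, 3, 4, 5, 2, 3, 2, 5, 5, 2, 3, 2, 5, 5, 4, 4, 2, 3, 3, 4, 5], [3, 5, 3, 4, 4, 2, 5, 5, 2, 4], 5, true⟩) (lall (memL L) [3, 2, 5, 5, 3, 3, 4, 5, 4, 3, 2, 5, 5, 3, 2, 5, 5, 3, 3, 4, 5, 2, 3, 2, 5, 5, 4, 2, 2, 3, 3, 4, 5, 4, 3, 3, 4, 5, 3, 3, 4, 5, 2, 3, 2, 5, 5, 2, 3, 2, 5, 5,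 4, 4, 2, 3, 3, 4, 5]) = true := by decide +kernel

theorem rot4_100 : T.rot 4 [3, 2, 5, 5, 3, 2, 5, 5, 3, 3, 4, 5, 2, 3, 2, 5, 5, 4, 2, 2, 3, 3, 4, 5, 4, 3, 3, 4, 5, 3, 3, 4, 5, 2, 3, 2, 5, 5, 2, 3, 2, 5, 5, 4, 4, 2, 3, 3, 4, 5, 4, 3, 2, 5, 5, 3, 3, 4, 5] (sel (ones 1755) ip4 100) = true := by decide +kernel

theorem rot4_100r : band (Rule.ok (2 * 1) EX RL ⟨4 :: [3, 2, 5, 5, 3, 2, 5, 5, 3, 3, 4, 5, 2, 3, 2, 5, 5, 4, 2, 2, 3, 3, 4, 5, 4, 3, 3, 4, 5, 3, 3, 4, 5, 2, 3, 2, 5, 5, 2, 3, 2, 5, 5, 4, 4, 2, 3, 3, 4, 5, 4, 3, 2, 5, 5, 3, 3, 4, 5], [3, 5, 3, 4, 4, 2, 5, 5, 2, 4, 2], 5, true⟩) (lall (memL L) [3, 2, 5, 5, 3, 2, 5, 5, 3, 3, 4, 5, 2, 3, 2, 5, 5, 4, 2, 2, 3, 3, 4, 5, 4, 3, 3, 4, 5, 3, 3, 4, 5, 2, 3, 2, 5, 5, 2, 3,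 2, 5, 5, 4, 4, 2, 3, 3, 4, 5, 4, 3, 2, 5, 5, 3, 3, 4, 5]) = true := by decide +kernel

theorem rot4_101 : T.rot 4 [5, 3, 3, 4, 5, 2, 3, 2, 5, 5, 2, 3, 2, 5, 5, 4, 4, 2, 3, 3, 4, 5, 4, 3, 2, 5, 5, 3, 3, 4, 5, 4, 3, 2, 5, 5, 3, 2, 5, 5, 3, 3, 4, 5, 2, 3, 2, 5, 5, 4, 2, 2, 3, 3, 4, 5, 4, 3, 3] (sel (ones 1755) ip4 101) = true := by decide +kernel

theorem rot4_101r : band (Rule.ok (2 * 1) EX RL ⟨4 :: [5, 3, 3, 4, 5, 2, 3, 2, 5, 5, 2, 3, 2, 5, 5, 4, 4, 2, 3, 3, 4, 5, 4, 3, 2, 5, 5, 3, 3, 4, 5, 4, 3, 2, 5, 5, 3, 2, 5, 5, 3, 3, 4, 5, 2, 3, 2, 5, 5, 4, 2, 2, 3, 3, 4, 5, 4, 3, 3], [5, 5, 2, 4, 2, 5, 3, 4, 3], 5, true⟩) (lall (memL L) [5, 3, 3, 4, 5, 2, 3, 2, 5, 5, 2, 3, 2, 5, 5, 4, 4, 2, 3, 3, 4, 5, 4, 3, 2, 5, 5, 3, 3, 4,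 5, 4, 3, 2, 5, 5, 3, 2, 5, 5, 3, 3, 4, 5, 2, 3, 2, 5, 5, 4, 2, 2, 3, 3, 4, 5, 4, 3, 3]) = true := by decide +kernel

theorem rot4_102 : T.rot 4 [3, 2, 5, 5, 3, 2, 5, 5, 2, 3, 2, 5, 5, 4, 4, 2, 3, 3, 4, 5, 4, 3, 2, 5, 5, 3, 3, 4, 5, 3, 3, 4, 5, 2, 3, 2, 5, 5, 3, 3, 4, 5, 2, 3, 2, 5, 5, 4, 2, 2, 3, 3, 4, 5, 4, 3, 3, 4, 5] (sel (ones 1755) ip4 102) = true := by decide +kernel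

theorem rot4_102r : band (Rule.ok (2 * 1) EX RL ⟨4 :: [3, 2, 5, 5, 3, 2, 5, 5, 2, 3, 2, 5, 5, 4, 4, 2, 3, 3, 4, 5, 4, 3, 2, 5, 5, 3, 3, 4, 5, 3, 3, 4, 5, 2, 3, 2, 5, 5, 3, 3, 4, 5, 2, 3, 2, 5, 5, 4, 2, 2, 3, 3, 4, 5, 4, 3, 3, 4, 5], [5, 5, 2, 4], 5, false⟩) (lall (memL L) [3, 2, 5, 5, 3, 2, 5, 5, 2, 3, 2, 5, 5, 4, 4, 2, 3, 3, 4, 5, 4, 3, 2, 5, 5, 3, 3, 4, 5, 3, 3, 4, 5, 2, 3, 2, 5, 5, 3, 3, 4, 5, 2, 3, 2, 5, 5, 4, 2, 2, 3, 3, 4, 5, 4, 3, 3, 4, 5]) = true := by decide +kernel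

theorem rot4_103 : T.rot 4 [4, 2, 3, 3, 4, 5, 4, 3, 2, 5, 5, 3, 3, 4, 5, 3, 3, 4, 5, 2, 3, 2, 5, 5, 3, 3, 4, 5, 2, 3, 2, 5, 5, 4, 2, 2, 3, 3, 4, 5, 4, 3, 3, 4, 5, 4, 3, 2, 5, 5, 3, 2, 5, 5, 2, 3, 2, 5, 5] (sel (ones 1755) ip4 103) = true := by decide +kernel

theorem rot4_103r : band (Rule.ok (2 * 1) EX RL ⟨4 :: [4, 2, 3, 3, 4, 5, 4, 3, 2, 5, 5, 3, 3, 4, 5, 3, 3, 4, 5, 2, 3, 2, 5, 5, 3, 3, 4, 5, 2, 3, 2, 5, 5, 4, 2, 2, 3, 3, 4, 5, 4, 3, 3, 4, 5, 4, 3, 2, 5, 5, 3, 2, 5, 5, 2, 3, 2, 5, 5], [5, 5, 2, 4, 2, 5, 3, 4, 3, 4, 4, 3, 5, 3, 4, 4], 5, false⟩) (lall (memL L) [4, 2, 3, 3, 4, 5, 4, 3, 2, 5, 5, 3, 3, 4, 5, 3, 3, 4, 5, 2, 3, 2, 5, 5, 3, 3, 4, 5, 2, 3, 2, 5, 5, 4, 2, 2, 3, 3, 4, 5, 4, 3, 3, 4, 5, 4, 3, 2, 5, 5, 3, 2,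 5, 5, 2, 3, 2, 5, 5]) = true := by decide +kernel

theorem rot4_104 : T.rot 4 [5, 4, 3, 2, 5, 5, 3, 3, 4, 5, 3, 3, 4, 5, 2, 3, 2, 5, 5, 3, 3, 4, 5, 2, 3, 2, 5, 5, 4, 2, 2, 3, 3, 4, 5, 4, 3, 3, 4, 5, 4, 3, 2, 5, 5, 3, 2, 5, 5, 2, 3, 2, 5, 5, 4, 4, 2, 3, 3] (sel (ones 1755) ip4 104) = true := by decide +kernel

theorem rot4_104r : band (Rule.ok (2 * 1) EX RL ⟨4 :: [5, 4, 3, 2, 5, 5, 3, 3, 4, 5, 3, 3, 4, 5, 2, 3, 2, 5, 5, 3, 3, 4, 5, 2, 3, 2, 5, 5, 4, 2, 2, 3, 3, 4, 5, 4, 3, 3, 4, 5, 4, 3, 2, 5, 5, 3, 2, 5, 5, 2, 3, 2, 5, 5, 4, 4, 2, 3, 3], [3, 5, 3, 4, 4, 2, 5, 5, 2, 4, 2, 2, 5, 3, 4, 4, 3, 5, 3], 5, false⟩) (lall (memL L) [5, 4, 3, 2, 5, 5, 3, 3, 4, 5, 3, 3, 4, 5, 2, 3, 2, 5, 5, 3, 3, 4, 5, 2, 3, 2, 5, 5, 4, 2, 2, 3,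 3, 4, 5, 4, 3, 3, 4, 5, 4, 3, 2, 5, 5, 3, 2, 5, 5, 2, 3, 2, 5, 5, 4, 4, 2, 3, 3]) = true := by decide +kernel

theorem rot4_105 : T.rot 4 [3, 2, 5, 5, 3, 3, 4, 5, 3, 3, 4, 5, 2, 3, 2, 5, 5, 3, 3, 4, 5, 2, 3, 2, 5, 5, 4, 2, 2, 3, 3, 4, 5, 4, 3, 3, 4, 5, 4, 3, 2, 5, 5, 3, 2, 5, 5, 2, 3, 2, 5, 5, 4, 4, 2, 3, 3, 4, 5] (sel (ones 1755) ip4 105) = true := by decide +kernel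

theorem rot4_105r : band (Rule.ok (2 * 1) EX RL ⟨4 :: [3, 2, 5, 5, 3, 3, 4, 5, 3, 3, 4, 5, 2, 3, 2, 5, 5, 3, 3, 4, 5, 2, 3, 2, 5, 5, 4, 2, 2, 3, 3, 4, 5, 4, 3, 3, 4, 5, 4, 3, 2, 5, 5, 3, 2, 5, 5, 2, 3, 2, 5, 5, 4, 4, 2, 3, 3, 4, 5], [3, 5, 3, 4, 4, 2, 5, 5, 2, 4, 2, 2, 5, 3, 4, 4, 3], 5, false⟩) (lall (memL L) [3, 2, 5, 5, 3, 3, 4, 5, 3, 3, 4, 5, 2, 3, 2, 5, 5, 3, 3, 4, 5, 2, 3, 2, 5, 5, 4, 2, 2, 3, 3, 4, 5, 4, 3, 3, 4, 5, 4, 3, 2, 5, 5, 3, 2, 5, 5, 2, 3, 2, 5, 5, 4, 4, 2, 3, 3, 4, 5]) = true := by decide +kernel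

theorem rot4_106 : T.rot 4 [5, 2, 3, 2, 5, 5, 3, 3, 4, 5, 2, 3, 2, 5, 5, 4, 2, 2, 3, 3, 4, 5, 4, 3, 3, 4, 5, 4, 3, 2, 5, 5, 3, 2, 5, 5, 2, 3, 2, 5, 5, 4, 4, 2, 3, 3, 4, 5, 4, 3, 2, 5, 5, 3, 3, 4, 5, 3, 3] (sel (ones 1755) ip4 106) = true := by decide +kernel

theorem rot4_106r : band (Rule.ok (2 * 1) EX RL ⟨4 :: [5, 2, 3, 2, 5, 5, 3, 3, 4, 5, 2, 3, 2, 5, 5, 4, 2, 2, 3, 3, 4, 5, 4, 3, 3, 4, 5, 4, 3, 2, 5, 5, 3, 2, 5, 5, 2, 3, 2, 5, 5, 4, 4, 2, 3, 3, 4, 5, 4, 3, 2, 5, 5, 3, 3, 4, 5, 3, 3], [3, 5, 3, 4, 4, 2, 5, 5, 2, 4, 2, 2, 5, 3], 5, false⟩) (lall (memL L) [5, 2, 3, 2, 5, 5, 3, 3, 4, 5, 2, 3, 2, 5, 5, 4, 2, 2, 3, 3, 4, 5, 4, 3, 3, 4, 5, 4, 3, 2, 5, 5, 3, 2, 5, 5, 2, 3, 2, 5, 5, 4, 4, 2, 3, 3, 4, 5, 4, 3, 2, 5, 5, 3,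 3, 4, 5, 3, 3]) = true := by decide +kernel

theorem rot4_107 : T.rot 4 [5, 4, 3, 3, 4, 5, 4, 3, 2, 5, 5, 3, 2, 5, 5, 2, 3, 2, 5, 5, 4, 4, 2, 3, 3, 4, 5, 4, 3, 2, 5, 5, 3, 3, 4, 5, 3, 3, 4, 5, 2, 3, 2, 5, 5, 3, 3, 4, 5, 2, 3, 2, 5, 5, 4, 2, 2, 3, 3] (sel (ones 1755) ip4 107) = true := by decide +kernel

theorem rot4_107r : band (Rule.ok (2 * 1) EX RL ⟨4 :: [5, 4, 3, 3, 4, 5, 4, 3, 2, 5, 5, 3, 2, 5, 5, 2, 3, 2, 5, 5, 4, 4, 2, 3, 3, 4, 5, 4, 3, 2, 5, 5, 3, 3, 4, 5, 3, 3, 4, 5, 2, 3, 2, 5, 5, 3, 3, 4, 5, 2, 3, 2, 5, 5, 4, 2, 2, 3, 3], [3, 5, 3], 5, false⟩) (lall (memL L) [5, 4, 3, 3, 4, 5, 4, 3, 2, 5, 5, 3, 2, 5, 5, 2, 3, 2, 5, 5, 4, 4, 2, 3, 3, 4, 5, 4, 3, 2, 5, 5, 3, 3, 4, 5, 3, 3, 4, 5, 2, 3, 2, 5, 5, 3, 3, 4, 5, 2,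 3, 2, 5, 5, 4, 2, 2, 3, 3]) = true := by decide +kernel

theorem rot4_108 : T.rot 4 [5, 2, 3, 2, 5, 5, 4, 3, 3, 4, 5, 3, 3, 4, 5, 2, 3, 2, 5, 5, 2, 3, 2, 5, 5, 4, 4, 3, 3, 4, 5, 2, 3, 2, 5, 5, 4, 3, 3, 4, 5, 3, 3, 4, 5, 2, 3, 2, 5, 5, 2, 3, 2, 5, 5, 4, 4, 3, 3] (sel (ones 1755) ip4 108) = true := by decide +kernel

theorem rot4_108r : band (Rule.ok (2 * 1) EX RL ⟨4 :: [5, 2, 3, 2, 5, 5, 4, 3, 3, 4, 5, 3, 3, 4, 5, 2, 3, 2, 5, 5, 2, 3, 2, 5, 5, 4, 4, 3, 3, 4, 5, 2, 3, 2, 5, 5, 4, 3, 3, 4, 5, 3, 3, 4, 5, 2, 3, 2, 5, 5, 2, 3, 2, 5, 5, 4, 4, 3, 3], [3, 5, 3, 4, 4, 2, 2, 5, 5], 6, true⟩) (lall (memL L) [5, 2, 3, 2, 5, 5, 4, 3, 3, 4, 5, 3, 3, 4, 5, 2, 3, 2, 5, 5, 2, 3, 2, 5, 5, 4, 4, 3, 3, 4, 5, 2, 3, 2, 5, 5, 4, 3, 3, 4,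 5, 3, 3, 4, 5, 2, 3, 2, 5, 5, 2, 3, 2, 5, 5, 4, 4, 3, 3]) = true := by decide +kernel

theorem rot4_109 : T.rot 4 [5, 2, 3, 2, 5, 5, 2, 3, 2, 5, 5, 4, 4, 3, 3, 4, 5, 2, 3, 2, 5, 5, 4, 3, 3, 4, 5, 3, 3, 4, 5, 2, 3, 2, 5, 5, 2, 3, 2, 5, 5, 4, 4, 3, 3, 4, 5, 2, 3, 2, 5, 5, 4, 3, 3, 4, 5, 3, 3] (sel (ones 1755) ip4 109) = true := by decide +kernel

theorem rot4_109r : band (Rule.ok (2 * 1) EX RL ⟨4 :: [5, 2, 3, 2, 5, 5, 2, 3, 2, 5, 5, 4, 4, 3, 3, 4, 5, 2, 3, 2, 5, 5, 4, 3, 3, 4, 5, 3, 3, 4, 5, 2, 3, 2, 5, 5, 2, 3, 2, 5, 5, 4, 4, 3, 3, 4, 5, 2, 3, 2, 5, 5, 4, 3, 3, 4, 5, 3, 3], [5, 5, 2, 4, 2, 5, 3], 6, true⟩) (lall (memL L) [5, 2, 3, 2, 5, 5, 2, 3, 2, 5, 5, 4, 4, 3, 3, 4, 5, 2, 3, 2, 5, 5, 4, 3, 3, 4, 5, 3, 3, 4, 5, 2,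 3, 2, 5, 5, 2, 3, 2, 5, 5, 4, 4, 3, 3, 4, 5, 2, 3, 2, 5, 5, 4, 3, 3, 4, 5, 3, 3]) = true := by decide +kernel

theorem cov4 : T.cover 4 [(sel (ones 1755) ip4 1), (sel (ones 1755) ip4 2), (sel (ones 1755) ip4 3), (sel (ones 1755) ip4 4), (sel (ones 1755) ip4 5), (sel (ones 1755) ip4 6), (sel (ones 1755) ip4 7), (sel (ones 1755) ip4 8), (sel (ones 1755) ip4 9), (sel (ones 1755) ip4 10), (sel (ones 1755) ip4 11), (sel (ones 1755) ip4 12), (sel (ones 1755) ip4 13), (sel (ones 1755) ip4 14), (sel (ones 1755) ip4 15), (sel (ones 1755) ip4 16), (sel (ones 1755) ip4 17), (sel (ones 1755) ip4 18), (sel (ones 1755) ip4 19), (sel (ones 1755) ip4 20), (sel (ones 1755) ip4 21), (sel (ones 1755) ip4 22), (sel (ones 1755) ip4 23),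 (sel (ones 1755) ip4 24), (sel (ones 1755) ip4 25), (sel (ones 1755) ip4 26), (sel (ones 1755) ip4 27), (sel (ones 1755) ip4 28), (sel (ones 1755) ip4 29), (sel (ones 1755) ip4 30), (sel (ones 1755) ip4 31), (sel (ones 1755) ip4 32), (sel (ones 1755) ip4 33), (sel (ones 1755) ip4 34), (sel (ones 1755) ip4 35), (sel (ones 1755) ip4 36), (sel (ones 1755) ip4 37), (sel (ones 1755) ip4 38), (sel (ones 1755) ip4 39), (sel (ones 1755) ip4 40), (sel (ones 1755) ip4 41), (sel (ones 1755) ip4 42), (sel (ones 1755) ip4 43), (sel (ones 1755) ip4 44), (sel (ones 1755) ip4 45), (sel (ones 1755) ip4 46), (sel (ones 1755) ip4 47), (sel (ones 1755) ip4 48), (sel (ones 1755) ip4 49), (sel (ones 1755) ip4 50), (sel (ones 1755) ip4 51),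 (sel (ones 1755) ip4 52), (sel (ones 1755) ip4 53), (sel (ones 1755) ip4 54), (sel (ones 1755) ip4 55), (sel (ones 1755) ip4 56), (sel (ones 1755) ip4 57), (sel (ones 1755) ip4 58), (sel (ones 1755) ip4 59), (sel (ones 1755) ip4 60), (sel (ones 1755) ip4 61), (sel (ones 1755) ip4 62), (sel (ones 1755) ip4 63), (sel (ones 1755) ip4 64), (sel (ones 1755) ip4 65), (sel (ones 1755) ip4 66), (sel (ones 1755) ip4 67), (sel (ones 1755) ip4 68), (sel (ones 1755) ip4 69), (sel (ones 1755) ip4 70), (sel (ones 1755) ip4 71), (sel (ones 1755) ip4 72), (sel (ones 1755) ip4 73), (sel (ones 1755) ip4 74), (sel (ones 1755) ip4 75), (sel (ones 1755) ip4 76), (sel (ones 1755) ip4 77), (sel (ones 1755) ip4 78), (sel (ones 1755) ip4 79),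 (sel (ones 1755) ip4 80), (sel (ones 1755) ip4 81), (sel (ones 1755) ip4 82), (sel (ones 1755) ip4 83), (sel (ones 1755) ip4 84), (sel (ones 1755) ip4 85), (sel (ones 1755) ip4 86), (sel (ones 1755) ip4 87), (sel (ones 1755) ip4 88), (sel (ones 1755) ip4 89), (sel (ones 1755) ip4 90), (sel (ones 1755) ip4 91), (sel (ones 1755) ip4 92), (sel (ones 1755) ip4 93), (sel (ones 1755) ip4 94), (sel (ones 1755) ip4 95), (sel (ones 1755) ip4 96), (sel (ones 1755) ip4 97), (sel (ones 1755) ip4 98), (sel (ones 1755) ip4 99), (sel (ones 1755) ip4 100), (sel (ones 1755) ip4 101), (sel (ones 1755) ip4 102), (sel (ones 1755) ip4 103), (sel (ones 1755) ip4 104), (sel (ones 1755) ip4 105), (sel (ones 1755) ip4 106), (sel (ones 1755)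 ip4 107), (sel (ones 1755) ip4 108), (sel (ones 1755) ip4 109)] = true := by decide +kernel

theorem tl4 : T.treeLt 11 4 = true := by decide +kernel

theorem rot5_1 : T.rot 5 [3] (sel (ones 1755) ip5 1) = true := by decide +kernel

theorem rot5_1r : band (Rule.ok (2 * 1) EX RL ⟨5 :: [3], [], 25, false⟩) (lall (memL L) [3]) = true := by decide +kernel

theorem rot5_2 : T.rot 5 [5, 5, 5, 5] (sel (ones 1755) ip5 2) = true := by decide +kernel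

theorem rot5_2r : band (Rule.ok (2 * 1) EX RL ⟨5 :: [5, 5, 5, 5], [], 13, false⟩) (lall (memL L) [5, 5, 5, 5]) = true := by decide +kernel

theorem rot5_3 : T.rot 5 [2, 5, 2, 5, 2, 5, 2] (sel (ones 1755) ip5 3) = true := by decide +kernel

theorem rot5_3r : band (Rule.ok (2 * 1) EX RL ⟨5 :: [2, 5, 2, 5, 2, 5, 2], [], 14, false⟩) (lall (memL L) [2, 5, 2, 5, 2, 5, 2]) = true := by decide +kernel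

theorem rot5_4 : T.rot 5 [4, 5, 4, 5, 4, 5, 4] (sel (ones 1755) ip5 4) = true := by decide +kernel

theorem rot5_4r : band (Rule.ok (2 * 1) EX RL ⟨5 :: [4, 5, 4, 5, 4, 5, 4], [5], 16, false⟩) (lall (memL L) [4, 5, 4, 5, 4, 5, 4]) = true := by decide +kernel

theorem rot5_5 : T.rot 5 [4, 5, 5, 2, 5, 4, 5, 5, 2] (sel (ones 1755) ip5 5) = true := by decide +kernel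

theorem rot5_5r : band (Rule.ok (2 * 1) EX RL ⟨5 :: [4, 5, 5, 2, 5, 4, 5, 5, 2], [3], 15, true⟩) (lall (memL L) [4, 5, 5, 2, 5, 4, 5, 5, 2]) = true := by decide +kernel

theorem rot5_6 : T.rot 5 [5, 2, 5, 4, 5, 5, 2, 5, 4] (sel (ones 1755) ip5 6) = true := by decide +kernel

theorem rot5_6r : band (Rule.ok (2 * 1) EX RL ⟨5 :: [5, 2, 5, 4, 5, 5, 2, 5, 4], [5, 5], 15, true⟩) (lall (memL L) [5, 2, 5, 4, 5, 5, 2, 5, 4]) = true := by decide +kernel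

theorem rot5_7 : T.rot 5 [2, 5, 4, 5, 5, 2, 5, 4, 5] (sel (ones 1755) ip5 7) = true := by decide +kernel

theorem rot5_7r : band (Rule.ok (2 * 1) EX RL ⟨5 :: [2, 5, 4, 5, 5, 2, 5, 4, 5], [5], 15, true⟩) (lall (memL L) [2, 5, 4, 5, 5, 2, 5, 4, 5]) = true := by decide +kernel

theorem rot5_8 : T.rot 5 [2, 3, 2, 5, 5, 4, 3, 1, 2, 1, 3, 4] (sel (ones 1755) ip5 8) = true := by decide +kernel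

theorem rot5_8r : band (Rule.ok (2 * 1) EX RL ⟨5 :: [2, 3, 2, 5, 5, 4, 3, 1, 2, 1, 3, 4], [0, 3, 0, 5, 2], 21, true⟩) (lall (memL L) [2, 3, 2, 5, 5, 4, 3, 1, 2, 1, 3, 4]) = true := by decide +kernel

theorem rot5_9 : T.rot 5 [5, 4, 3, 1, 2, 1, 3, 4, 5, 2, 3, 2] (sel (ones 1755) ip5 9) = true := by decide +kernel

theorem rot5_9r : band (Rule.ok (2 * 1) EX RL ⟨5 :: [5, 4, 3, 1, 2, 1, 3, 4, 5, 2, 3, 2], [4, 3, 5, 5], 21, true⟩) (lall (memL L) [5, 4, 3, 1, 2, 1, 3, 4, 5, 2, 3, 2]) = true := by decide +kernel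

theorem rot5_10 : T.rot 5 [4, 3, 1, 2, 1, 3, 4, 5, 2, 3, 2, 5] (sel (ones 1755) ip5 10) = true := by decide +kernel

theorem rot5_10r : band (Rule.ok (2 * 1) EX RL ⟨5 :: [4, 3, 1, 2, 1, 3, 4, 5, 2, 3, 2, 5], [4, 3, 5], 21, true⟩) (lall (memL L) [4, 3, 1, 2, 1, 3, 4, 5, 2, 3, 2, 5]) = true := by decide +kernel

theorem rot5_11 : T.rot 5 [2, 3, 3, 4, 5, 4, 3, 2, 5, 1, 4, 1] (sel (ones 1755) ip5 11) = true := by decide +kernel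

theorem rot5_11r : band (Rule.ok (2 * 1) EX RL ⟨5 :: [2, 3, 3, 4, 5, 4, 3, 2, 5, 1, 4, 1], [], 21, false⟩) (lall (memL L) [2, 3, 3, 4, 5, 4, 3, 2, 5, 1, 4, 1]) = true := by decide +kernel

theorem rot5_12 : T.rot 5 [4, 3, 2, 5, 1, 4, 1, 5, 2, 3, 3, 4] (sel (ones 1755) ip5 12) = true := by decide +kernel

theorem rot5_12r : band (Rule.ok (2 * 1) EX RL ⟨5 :: [4, 3, 2, 5, 1, 4, 1, 5, 2, 3, 3, 4], [4, 3, 5, 5, 2], 21, false⟩) (lall (memL L) [4, 3, 2, 5, 1, 4, 1, 5, 2, 3, 3, 4]) = true := by decide +kernel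

theorem rot5_13 : T.rot 5 [1, 4, 1, 5, 2, 3, 3, 4, 5, 4, 3, 2] (sel (ones 1755) ip5 13) = true := by decide +kernel

theorem rot5_13r : band (Rule.ok (2 * 1) EX RL ⟨5 :: [1, 4, 1, 5, 2, 3, 3, 4, 5, 4, 3, 2], [0, 3, 0, 5], 21, false⟩) (lall (memL L) [1, 4, 1, 5, 2, 3, 3, 4, 5, 4, 3, 2]) = true := by decide +kernel

theorem rot5_14 : T.rot 5 [2, 3, 3, 3, 4, 5, 4, 4, 3, 3, 4, 5, 3, 4] (sel (ones 1755) ip5 14) = true := by decide +kernel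

theorem rot5_14r : band (Rule.ok (2 * 1) EX RL ⟨5 :: [2, 3, 3, 3, 4, 5, 4, 4, 3, 3, 4, 5, 3, 4], [5, 2], 11, true⟩) (lall (memL L) [2, 3, 3, 3, 4, 5, 4, 4, 3, 3, 4, 5, 3, 4]) = true := by decide +kernel

theorem rot5_15 : T.rot 5 [4, 4, 3, 3, 4, 5, 3, 4, 5, 2, 3, 3, 3, 4] (sel (ones 1755) ip5 15) = true := by decide +kernel

theorem rot5_15r : band (Rule.ok (2 * 1) EX RL ⟨5 :: [4, 4, 3, 3, 4, 5, 3, 4, 5, 2, 3, 3, 3, 4], [5, 3, 4, 4, 3, 3, 5], 11, true⟩) (lall (memL L) [4, 4, 3, 3, 4, 5, 3, 4, 5, 2, 3, 3, 3, 4]) = true := by decide +kernel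

theorem rot5_16 : T.rot 5 [5, 2, 2, 3, 2, 5, 5, 5, 4, 3, 2, 5, 3, 2] (sel (ones 1755) ip5 16) = true := by decide +kernel

theorem rot5_16r : band (Rule.ok (2 * 1) EX RL ⟨5 :: [5, 2, 2, 3, 2, 5, 5, 5, 4, 3, 2, 5, 3, 2], [5, 3], 11, false⟩) (lall (memL L) [5, 2, 2, 3, 2, 5, 5, 5, 4, 3, 2, 5, 3, 2]) = true := by decide +kernel

theorem rot5_17 : T.rot 5 [2, 2, 3, 2, 5, 5, 5, 4, 3, 2, 5, 3, 2, 5] (sel (ones 1755) ip5 17) = true := by decide +kernel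

theorem rot5_17r : band (Rule.ok (2 * 1) EX RL ⟨5 :: [2, 2, 3, 2, 5, 5, 5, 4, 3, 2, 5, 3, 2, 5], [5, 3, 4], 11, false⟩) (lall (memL L) [2, 2, 3, 2, 5, 5, 5, 4, 3, 2, 5, 3, 2, 5]) = true := by decide +kernel

theorem rot5_18 : T.rot 5 [5, 5, 4, 3, 2, 5, 3, 2, 5, 5, 2, 2, 3, 2] (sel (ones 1755) ip5 18) = true := by decide +kernel

theorem rot5_18r : band (Rule.ok (2 * 1) EX RL ⟨5 :: [5, 5, 4, 3, 2, 5, 3, 2, 5, 5, 2, 2, 3, 2], [5, 2, 4, 3, 5, 5, 5], 11, false⟩) (lall (memL L) [5, 5, 4, 3, 2, 5, 3, 2, 5, 5, 2, 2, 3, 2]) = true := by decide +kernel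

theorem rot5_19 : T.rot 5 [5, 4, 3, 2, 5, 3, 2, 5, 5, 2, 2, 3, 2, 5] (sel (ones 1755) ip5 19) = true := by decide +kernel

theorem rot5_19r : band (Rule.ok (2 * 1) EX RL ⟨5 :: [5, 4, 3, 2, 5, 3, 2, 5, 5, 2, 2, 3, 2, 5], [5, 2, 4, 3, 5, 5], 11, false⟩) (lall (memL L) [5, 4, 3, 2, 5, 3, 2, 5, 5, 2, 2, 3, 2, 5]) = true := by decide +kernel

theorem rot5_20 : T.rot 5 [4, 3, 2, 5, 3, 2, 5, 5, 2, 2, 3, 2, 5, 5] (sel (ones 1755) ip5 20) = true := by decide +kernel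

theorem rot5_20r : band (Rule.ok (2 * 1) EX RL ⟨5 :: [4, 3, 2, 5, 3, 2, 5, 5, 2, 2, 3, 2, 5, 5], [5, 2, 4, 3, 5], 11, false⟩) (lall (memL L) [4, 3, 2, 5, 3, 2, 5, 5, 2, 2, 3, 2, 5, 5]) = true := by decide +kernel

theorem rot5_21 : T.rot 5 [5, 3, 2, 5, 5, 3, 2, 5, 5, 3, 2, 5, 5, 3, 2] (sel (ones 1755) ip5 21) = true := by decide +kernel

theorem rot5_21r : band (Rule.ok (2 * 1) EX RL ⟨5 :: [5, 3, 2, 5, 5, 3, 2, 5, 5, 3, 2, 5, 5, 3, 2], [], 14, false⟩) (lall (memL L) [5, 3, 2, 5, 5, 3, 2, 5, 5, 3, 2, 5, 5, 3, 2]) = true := by decide +kernel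

theorem rot5_22 : T.rot 5 [1, 2, 2, 1, 3, 1, 5, 5, 4, 3, 3, 2, 5, 5, 1] (sel (ones 1755) ip5 22) = true := by decide +kernel

theorem rot5_22r : band (Rule.ok (2 * 1) EX RL ⟨5 :: [1, 2, 2, 1, 3, 1, 5, 5, 4, 3, 3, 2, 5, 5, 1], [0], 19, true⟩) (lall (memL L) [1, 2, 2, 1, 3, 1, 5, 5, 4, 3, 3, 2, 5, 5, 1]) = true := by decide +kernel

theorem rot5_23 : T.rot 5 [5, 4, 3, 3, 2, 5, 5, 1, 5, 1, 2, 2, 1, 3, 1] (sel (ones 1755) ip5 23) = true := by decide +kernel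

theorem rot5_23r : band (Rule.ok (2 * 1) EX RL ⟨5 :: [5, 4, 3, 3, 2, 5, 5, 1, 5, 1, 2, 2, 1, 3, 1], [5, 5, 2, 4, 4, 3, 5, 5], 19, true⟩) (lall (memL L) [5, 4, 3, 3, 2, 5, 5, 1, 5, 1, 2, 2, 1, 3, 1]) = true := by decide +kernel

theorem rot5_24 : T.rot 5 [4, 3, 3, 2, 5, 5, 1, 5, 1, 2, 2, 1, 3, 1, 5] (sel (ones 1755) ip5 24) = true := by decide +kernel

theorem rot5_24r : band (Rule.ok (2 * 1) EX RL ⟨5 :: [4, 3, 3, 2, 5, 5, 1, 5, 1, 2, 2, 1, 3, 1, 5], [5, 5, 2, 4, 4, 3, 5], 19, true⟩) (lall (memL L) [4, 3, 3, 2, 5, 5, 1, 5, 1, 2, 2, 1, 3, 1, 5]) = true := by decide +kernel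

theorem rot5_25 : T.rot 5 [5, 1, 5, 1, 2, 2, 1, 3, 1, 5, 5, 4, 3, 3, 2] (sel (ones 1755) ip5 25) = true := by decide +kernel

theorem rot5_25r : band (Rule.ok (2 * 1) EX RL ⟨5 :: [5, 1, 5, 1, 2, 2, 1, 3, 1, 5, 5, 4, 3, 3, 2], [5, 5], 19, true⟩) (lall (memL L) [5, 1, 5, 1, 2, 2, 1, 3, 1, 5, 5, 4, 3, 3, 2]) = true := by decide +kernel

theorem rot5_26 : T.rot 5 [1, 5, 1, 2, 2, 1, 3, 1, 5, 5, 4, 3, 3, 2, 5] (sel (ones 1755) ip5 26) = true := by decide +kernel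

theorem rot5_26r : band (Rule.ok (2 * 1) EX RL ⟨5 :: [1, 5, 1, 2, 2, 1, 3, 1, 5, 5, 4, 3, 3, 2, 5], [5], 19, true⟩) (lall (memL L) [1, 5, 1, 2, 2, 1, 3, 1, 5, 5, 4, 3, 3, 2, 5]) = true := by decide +kernel

theorem rot5_27 : T.rot 5 [5, 2, 3, 3, 1, 5, 1, 4, 4, 1, 3, 1, 3, 3, 4] (sel (ones 1755) ip5 27) = true := by decide +kernel

theorem rot5_27r : band (Rule.ok (2 * 1) EX RL ⟨5 :: [5, 2, 3, 3, 1, 5, 1, 4, 4, 1, 3, 1, 3, 3, 4], [5, 5, 2], 19, false⟩) (lall (memL L) [5, 2, 3, 3, 1, 5, 1, 4, 4, 1, 3, 1, 3, 3, 4]) = true := by decide +kernel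

theorem rot5_28 : T.rot 5 [2, 3, 3, 1, 5, 1, 4, 4, 1, 3, 1, 3, 3, 4, 5] (sel (ones 1755) ip5 28) = true := by decide +kernel

theorem rot5_28r : band (Rule.ok (2 * 1) EX RL ⟨5 :: [2, 3, 3, 1, 5, 1, 4, 4, 1, 3, 1, 3, 3, 4, 5], [5, 5, 2, 4], 19, false⟩) (lall (memL L) [2, 3, 3, 1, 5, 1, 4, 4, 1, 3, 1, 3, 3, 4, 5]) = true := by decide +kernel

theorem rot5_29 : T.rot 5 [1, 4, 4, 1, 3, 1, 3, 3, 4, 5, 5, 2, 3, 3, 1] (sel (ones 1755) ip5 29) = true := by decide +kernel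

theorem rot5_29r : band (Rule.ok (2 * 1) EX RL ⟨5 :: [1, 4, 4, 1, 3, 1, 3, 3, 4, 5, 5, 2, 3, 3, 1], [0, 4, 0, 3, 3, 0, 5], 19, false⟩) (lall (memL L) [1, 4, 4, 1, 3, 1, 3, 3, 4, 5, 5, 2, 3, 3, 1]) = true := by decide +kernel

theorem rot5_30 : T.rot 5 [5, 1, 5, 5, 4, 5, 5, 4, 3, 3, 4, 3, 1, 3, 2] (sel (ones 1755) ip5 30) = true := by decide +kernel

theorem rot5_30r : band (Rule.ok (2 * 1) EX RL ⟨5 :: [5, 1, 5, 5, 4, 5, 5, 4, 3, 3, 4, 3, 1, 3, 2], [0, 5, 3], 22, true⟩) (lall (memL L) [5, 1, 5, 5, 4, 5, 5, 4, 3, 3, 4, 3, 1, 3, 2]) = true := by decide +kernel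

theorem rot5_31 : T.rot 5 [1, 5, 5, 4, 5, 5, 4, 3, 3, 4, 3, 1, 3, 2, 5] (sel (ones 1755) ip5 31) = true := by decide +kernel

theorem rot5_31r : band (Rule.ok (2 * 1) EX RL ⟨5 :: [1, 5, 5, 4, 5, 5, 4, 3, 3, 4, 3, 1, 3, 2, 5], [0, 5, 3, 4], 22, true⟩) (lall (memL L) [1, 5, 5, 4, 5, 5, 4, 3, 3, 4, 3, 1, 3, 2, 5]) = true := by decide +kernel

theorem rot5_32 : T.rot 5 [5, 4, 5, 5, 4, 3, 3, 4, 3, 1, 3, 2, 5, 5, 1] (sel (ones 1755) ip5 32) = true := by decide +kernel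

theorem rot5_32r : band (Rule.ok (2 * 1) EX RL ⟨5 :: [5, 4, 5, 5, 4, 3, 3, 4, 3, 1, 3, 2, 5, 5, 1], [0, 5, 3, 4, 4, 0], 22, true⟩) (lall (memL L) [5, 4, 5, 5, 4, 3, 3, 4, 3, 1, 3, 2, 5, 5, 1]) = true := by decide +kernel

theorem rot5_33 : T.rot 5 [4, 5, 5, 4, 3, 3, 4, 3, 1, 3, 2, 5, 5, 1, 5] (sel (ones 1755) ip5 33) = true := by decide +kernel

theorem rot5_33r : band (Rule.ok (2 * 1) EX RL ⟨5 :: [4, 5, 5, 4, 3, 3, 4, 3, 1, 3, 2, 5, 5, 1, 5], [0, 5, 3, 4, 4, 0, 4], 22, true⟩) (lall (memL L) [4, 5, 5, 4, 3, 3, 4, 3, 1, 3, 2, 5, 5, 1, 5]) = true := by decide +kernel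

theorem rot5_34 : T.rot 5 [5, 4, 3, 3, 4, 3, 1, 3, 2, 5, 5, 1, 5, 5, 4] (sel (ones 1755) ip5 34) = true := by decide +kernel

theorem rot5_34r : band (Rule.ok (2 * 1) EX RL ⟨5 :: [5, 4, 3, 3, 4, 3, 1, 3, 2, 5, 5, 1, 5, 5, 4], [4, 3, 4, 4, 3, 5, 5], 22, true⟩) (lall (memL L) [5, 4, 3, 3, 4, 3, 1, 3, 2, 5, 5, 1, 5, 5, 4]) = true := by decide +kernel

theorem rot5_35 : T.rot 5 [4, 3, 3, 4, 3, 1, 3, 2, 5, 5, 1, 5, 5, 4, 5] (sel (ones 1755) ip5 35) = true := by decide +kernel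

theorem rot5_35r : band (Rule.ok (2 * 1) EX RL ⟨5 :: [4, 3, 3, 4, 3, 1, 3, 2, 5, 5, 1, 5, 5, 4, 5], [4, 3, 4, 4, 3, 5], 22, true⟩) (lall (memL L) [4, 3, 3, 4, 3, 1, 3, 2, 5, 5, 1, 5, 5, 4, 5]) = true := by decide +kernel

theorem rot5_36 : T.rot 5 [2, 5, 5, 2, 3, 3, 2, 3, 3, 1, 3, 3, 4, 5, 1] (sel (ones 1755) ip5 36) = true := by decide +kernel

theorem rot5_36r : band (Rule.ok (2 * 1) EX RL ⟨5 :: [2, 5, 5, 2, 3, 3, 2, 3, 3, 1, 3, 3, 4, 5, 1], [], 22, false⟩) (lall (memL L) [2, 5, 5, 2, 3, 3, 2, 3, 3, 1, 3, 3, 4, 5, 1]) = true := by decide +kernel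

theorem rot5_37 : T.rot 5 [5, 2, 3, 3, 2, 3, 3, 1, 3, 3, 4, 5, 1, 5, 2] (sel (ones 1755) ip5 37) = true := by decide +kernel

theorem rot5_37r : band (Rule.ok (2 * 1) EX RL ⟨5 :: [5, 2, 3, 3, 2, 3, 3, 1, 3, 3, 4, 5, 1, 5, 2], [4, 3], 22, false⟩) (lall (memL L) [5, 2, 3, 3, 2, 3, 3, 1, 3, 3, 4, 5, 1, 5, 2]) = true := by decide +kernel

theorem rot5_38 : T.rot 5 [2, 3, 3, 2, 3, 3, 1, 3, 3, 4, 5, 1, 5, 2, 5] (sel (ones 1755) ip5 38) = true := by decide +kernel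

theorem rot5_38r : band (Rule.ok (2 * 1) EX RL ⟨5 :: [2, 3, 3, 2, 3, 3, 1, 3, 3, 4, 5, 1, 5, 2, 5], [4, 3, 4], 22, false⟩) (lall (memL L) [2, 3, 3, 2, 3, 3, 1, 3, 3, 4, 5, 1, 5, 2, 5]) = true := by decide +kernel

theorem rot5_39 : T.rot 5 [1, 5, 2, 5, 5, 2, 3, 3, 2, 3, 3, 1, 3, 3, 4] (sel (ones 1755) ip5 39) = true := by decide +kernel

theorem rot5_39r : band (Rule.ok (2 * 1) EX RL ⟨5 :: [1, 5, 2, 5, 5, 2, 3, 3, 2, 3, 3, 1, 3, 3, 4], [0, 5], 22, false⟩) (lall (memL L) [1, 5, 2, 5, 5, 2, 3, 3, 2, 3, 3, 1, 3, 3, 4]) = true := by decide +kernel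

theorem rot5_40 : T.rot 5 [1, 5, 1, 5, 1, 5, 1, 5, 1, 5, 1, 5, 1, 5, 1] (sel (ones 1755) ip5 40) = true := by decide +kernel

theorem rot5_40r : band (Rule.ok (2 * 1) EX RL ⟨5 :: [1, 5, 1, 5, 1, 5, 1, 5, 1, 5, 1, 5, 1, 5, 1], [], 23, false⟩) (lall (memL L) [1, 5, 1, 5, 1, 5, 1, 5, 1, 5, 1, 5, 1, 5, 1]) = true := by decide +kernel

theorem rot5_41 : T.rot 5 [2, 5, 3, 3, 4, 5, 4, 4, 3, 2, 5, 5, 4, 3, 2, 2] (sel (ones 1755) ip5 41) = true := by decide +kernel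

theorem rot5_41r : band (Rule.ok (2 * 1) EX RL ⟨5 :: [2, 5, 3, 3, 4, 5, 4, 4, 3, 2, 5, 5, 4, 3, 2, 2], [5, 3, 3], 12, true⟩) (lall (memL L) [2, 5, 3, 3, 4, 5, 4, 4, 3, 2, 5, 5, 4, 3, 2, 2]) = true := by decide +kernel

theorem rot5_42 : T.rot 5 [4, 4, 3, 2, 5, 5, 4, 3, 2, 2, 5, 2, 5, 3, 3, 4] (sel (ones 1755) ip5 42) = true := by decide +kernel

theorem rot5_42r : band (Rule.ok (2 * 1) EX RL ⟨5 :: [4, 4, 3, 2, 5, 5, 4, 3, 2, 2, 5, 2, 5, 3, 3, 4], [5, 3, 3, 4, 3, 5, 2], 12, true⟩) (lall (memL L) [4, 4, 3, 2, 5, 5, 4, 3, 2, 2, 5, 2, 5, 3, 3, 4]) = true := by decide +kernel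

theorem rot5_43 : T.rot 5 [5, 4, 3, 2, 2, 5, 2, 5, 3, 3, 4, 5, 4, 4, 3, 2] (sel (ones 1755) ip5 43) = true := by decide +kernel

theorem rot5_43r : band (Rule.ok (2 * 1) EX RL ⟨5 :: [5, 4, 3, 2, 2, 5, 2, 5, 3, 3, 4, 5, 4, 4, 3, 2], [3, 5, 5], 12, true⟩) (lall (memL L) [5, 4, 3, 2, 2, 5, 2, 5, 3, 3, 4, 5, 4, 4, 3, 2]) = true := by decide +kernel

theorem rot5_44 : T.rot 5 [2, 2, 3, 2, 5, 5, 3, 4, 3, 4, 4, 5, 2, 3, 3, 4] (sel (ones 1755) ip5 44) = true := by decide +kernel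

theorem rot5_44r : band (Rule.ok (2 * 1) EX RL ⟨5 :: [2, 2, 3, 2, 5, 5, 3, 4, 3, 4, 4, 5, 2, 3, 3, 4], [3, 5, 5, 2], 12, false⟩) (lall (memL L) [2, 2, 3, 2, 5, 5, 3, 4, 3, 4, 4, 5, 2, 3, 3, 4]) = true := by decide +kernel

theorem rot5_45 : T.rot 5 [5, 3, 4, 3, 4, 4, 5, 2, 3, 3, 4, 5, 2, 2, 3, 2] (sel (ones 1755) ip5 45) = true := by decide +kernel

theorem rot5_45r : band (Rule.ok (2 * 1) EX RL ⟨5 :: [5, 3, 4, 3, 4, 4, 5, 2, 3, 3, 4, 5, 2, 2, 3, 2], [5, 3, 3, 4, 3, 5], 12, false⟩) (lall (memL L) [5, 3, 4, 3, 4, 4, 5, 2, 3, 3, 4, 5, 2, 2, 3, 2]) = true := by decide +kernel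

theorem rot5_46 : T.rot 5 [2, 3, 3, 4, 5, 2, 2, 3, 2, 5, 5, 3, 4, 3, 4, 4] (sel (ones 1755) ip5 46) = true := by decide +kernel

theorem rot5_46r : band (Rule.ok (2 * 1) EX RL ⟨5 :: [2, 3, 3, 4, 5, 2, 2, 3, 2, 5, 5, 3, 4, 3, 4, 4], [5], 12, false⟩) (lall (memL L) [2, 3, 3, 4, 5, 2, 2, 3, 2, 5, 5, 3, 4, 3, 4, 4]) = true := by decide +kernel

theorem rot5_47 : T.rot 5 [1, 2, 3, 4, 3, 4, 4, 5, 1, 3, 1, 5, 2, 5, 4, 5, 1] (sel (ones 1755) ip5 47) = true := by decide +kernel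

theorem rot5_47r : band (Rule.ok (2 * 1) EX RL ⟨5 :: [1, 2, 3, 4, 3, 4, 4, 5, 1, 3, 1, 5, 2, 5, 4, 5, 1], [0], 17, true⟩) (lall (memL L) [1, 2, 3, 4, 3, 4, 4, 5, 1, 3, 1, 5, 2, 5, 4, 5, 1]) = true := by decide +kernel

theorem rot5_48 : T.rot 5 [1, 3, 1, 5, 2, 5, 4, 5, 1, 5, 1, 2, 3, 4, 3, 4, 4] (sel (ones 1755) ip5 48) = true := by decide +kernel

theorem rot5_48r : band (Rule.ok (2 * 1) EX RL ⟨5 :: [1, 3, 1, 5, 2, 5, 4, 5, 1, 5, 1, 2, 3, 4, 3, 4, 4], [5, 3, 5, 2, 5, 0, 4, 0, 5], 17, true⟩) (lall (memL L) [1, 3, 1, 5, 2, 5, 4, 5, 1, 5, 1, 2, 3, 4, 3, 4, 4]) = true := by decide +kernel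

theorem rot5_49 : T.rot 5 [2, 5, 4, 5, 1, 5, 1, 2, 3, 4, 3, 4, 4, 5, 1, 3, 1] (sel (ones 1755) ip5 49) = true := by decide +kernel

theorem rot5_49r : band (Rule.ok (2 * 1) EX RL ⟨5 :: [2, 5, 4, 5, 1, 5, 1, 2, 3, 4, 3, 4, 4, 5, 1, 3, 1], [5, 3, 5, 2, 5], 17, true⟩) (lall (memL L) [2, 5, 4, 5, 1, 5, 1, 2, 3, 4, 3, 4, 4, 5, 1, 3, 1]) = true := by decide +kernel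

theorem rot5_50 : T.rot 5 [4, 5, 1, 5, 1, 2, 3, 4, 3, 4, 4, 5, 1, 3, 1, 5, 2] (sel (ones 1755) ip5 50) = true := by decide +kernel

theorem rot5_50r : band (Rule.ok (2 * 1) EX RL ⟨5 :: [4, 5, 1, 5, 1, 2, 3, 4, 3, 4, 4, 5, 1, 3, 1, 5, 2], [5, 3, 5], 17, true⟩) (lall (memL L) [4, 5, 1, 5, 1, 2, 3, 4, 3, 4, 4, 5, 1, 3, 1, 5, 2]) = true := by decide +kernel

theorem rot5_51 : T.rot 5 [1, 5, 1, 2, 3, 4, 3, 4, 4, 5, 1, 3, 1, 5, 2, 5, 4] (sel (ones 1755) ip5 51) = true := by decide +kernel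

theorem rot5_51r : band (Rule.ok (2 * 1) EX RL ⟨5 :: [1, 5, 1, 2, 3, 4, 3, 4, 4, 5, 1, 3, 1, 5, 2, 5, 4], [5], 17, true⟩) (lall (memL L) [1, 5, 1, 2, 3, 4, 3, 4, 4, 5, 1, 3, 1, 5, 2, 5, 4]) = true := by decide +kernel

theorem rot5_52 : T.rot 5 [1, 3, 2, 2, 5, 2, 5, 4, 1, 3, 1, 3, 2, 3, 4, 3, 1] (sel (ones 1755) ip5 52) = true := by decide +kernel

theorem rot5_52r : band (Rule.ok (2 * 1) EX RL ⟨5 :: [1, 3, 2, 2, 5, 2, 5, 4, 1, 3, 1, 3, 2, 3, 4, 3, 1], [5, 3, 5, 2, 5, 0], 17, false⟩) (lall (memL L) [1, 3, 2, 2, 5, 2, 5, 4, 1, 3, 1, 3, 2, 3, 4, 3, 1]) = true := by decide +kernel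

theorem rot5_53 : T.rot 5 [2, 5, 4, 1, 3, 1, 3, 2, 3, 4, 3, 1, 5, 1, 3, 2, 2] (sel (ones 1755) ip5 53) = true := by decide +kernel

theorem rot5_53r : band (Rule.ok (2 * 1) EX RL ⟨5 :: [2, 5, 4, 1, 3, 1, 3, 2, 3, 4, 3, 1, 5, 1, 3, 2, 2], [0, 4, 0, 3, 5, 2, 5], 17, false⟩) (lall (memL L) [2, 5, 4, 1, 3, 1, 3, 2, 3, 4, 3, 1, 5, 1, 3, 2, 2]) = true := by decide +kernel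

theorem rot5_54 : T.rot 5 [4, 1, 3, 1, 3, 2, 3, 4, 3, 1, 5, 1, 3, 2, 2, 5, 2] (sel (ones 1755) ip5 54) = true := by decide +kernel

theorem rot5_54r : band (Rule.ok (2 * 1) EX RL ⟨5 :: [4, 1, 3, 1, 3, 2, 3, 4, 3, 1, 5, 1, 3, 2, 2, 5, 2], [0, 4, 0, 3, 5], 17, false⟩) (lall (memL L) [4, 1, 3, 1, 3, 2, 3, 4, 3, 1, 5, 1, 3, 2, 2, 5, 2]) = true := by decide +kernel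

theorem rot5_55 : T.rot 5 [1, 4, 4, 3, 3, 2, 5, 4, 4, 5, 5, 4, 1, 3, 1, 2, 1] (sel (ones 1755) ip5 55) = true := by decide +kernel

theorem rot5_55r : band (Rule.ok (2 * 1) EX RL ⟨5 :: [1, 4, 4, 3, 3, 2, 5, 4, 4, 5, 5, 4, 1, 3, 1, 2, 1], [0, 5, 0, 3, 0], 18, true⟩) (lall (memL L) [1, 4, 4, 3, 3, 2, 5, 4, 4, 5, 5, 4, 1, 3, 1, 2, 1]) = true := by decide +kernel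

theorem rot5_56 : T.rot 5 [4, 4, 5, 5, 4, 1, 3, 1, 2, 1, 5, 1, 4, 4, 3, 3, 2] (sel (ones 1755) ip5 56) = true := by decide +kernel

theorem rot5_56r : band (Rule.ok (2 * 1) EX RL ⟨5 :: [4, 4, 5, 5, 4, 1, 3, 1, 2, 1, 5, 1, 4, 4, 3, 3, 2], [3, 5, 5, 3, 3, 5], 18, true⟩) (lall (memL L) [4, 4, 5, 5, 4, 1, 3, 1, 2, 1, 5, 1, 4, 4, 3, 3, 2]) = true := by decide +kernel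

theorem rot5_57 : T.rot 5 [5, 4, 1, 3, 1, 2, 1, 5, 1, 4, 4, 3, 3, 2, 5, 4, 4] (sel (ones 1755) ip5 57) = true := by decide +kernel

theorem rot5_57r : band (Rule.ok (2 * 1) EX RL ⟨5 :: [5, 4, 1, 3, 1, 2, 1, 5, 1, 4, 4, 3, 3, 2, 5, 4, 4], [3, 5, 5], 18, true⟩) (lall (memL L) [5, 4, 1, 3, 1, 2, 1, 5, 1, 4, 4, 3, 3, 2, 5, 4, 4]) = true := by decide +kernel

theorem rot5_58 : T.rot 5 [4, 1, 3, 1, 2, 1, 5, 1, 4, 4, 3, 3, 2, 5, 4, 4, 5] (sel (ones 1755) ip5 58) = true := by decide +kernel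

theorem rot5_58r : band (Rule.ok (2 * 1) EX RL ⟨5 :: [4, 1, 3, 1, 2, 1, 5, 1, 4, 4, 3, 3, 2, 5, 4, 4, 5], [3, 5], 18, true⟩) (lall (memL L) [4, 1, 3, 1, 2, 1, 5, 1, 4, 4, 3, 3, 2, 5, 4, 4, 5]) = true := by decide +kernel

theorem rot5_59 : T.rot 5 [5, 2, 2, 1, 3, 1, 4, 1, 5, 1, 2, 3, 3, 2, 2, 3, 4] (sel (ones 1755) ip5 59) = true := by decide +kernel

theorem rot5_59r : band (Rule.ok (2 * 1) EX RL ⟨5 :: [5, 2, 2, 1, 3, 1, 4, 1, 5, 1, 2, 3, 3, 2, 2, 3, 4], [3, 5, 5, 3, 3, 5, 2], 18, false⟩) (lall (memL L) [5, 2, 2, 1, 3, 1, 4, 1, 5, 1, 2, 3, 3, 2, 2, 3, 4]) = true := by decide +kernel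

theorem rot5_60 : T.rot 5 [2, 2, 1, 3, 1, 4, 1, 5, 1, 2, 3, 3, 2, 2, 3, 4, 5] (sel (ones 1755) ip5 60) = true := by decide +kernel

theorem rot5_60r : band (Rule.ok (2 * 1) EX RL ⟨5 :: [2, 2, 1, 3, 1, 4, 1, 5, 1, 2, 3, 3, 2, 2, 3, 4, 5], [3, 5, 5, 3, 3, 5, 2, 4], 18, false⟩) (lall (memL L) [2, 2, 1, 3, 1, 4, 1, 5, 1, 2, 3, 3, 2, 2, 3, 4, 5]) = true := by decide +kernel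

theorem rot5_61 : T.rot 5 [1, 2, 3, 3, 2, 2, 3, 4, 5, 5, 2, 2, 1, 3, 1, 4, 1] (sel (ones 1755) ip5 61) = true := by decide +kernel

theorem rot5_61r : band (Rule.ok (2 * 1) EX RL ⟨5 :: [1, 2, 3, 3, 2, 2, 3, 4, 5, 5, 2, 2, 1, 3, 1, 4, 1], [0, 5], 18, false⟩) (lall (memL L) [1, 2, 3, 3, 2, 2, 3, 4, 5, 5, 2, 2, 1, 3, 1, 4, 1]) = true := by decide +kernel

theorem rot5_62 : T.rot 5 [1, 3, 2, 3, 4, 3, 1, 3, 1, 5, 1, 5, 2, 5, 4, 5, 1, 3, 1] (sel (ones 1755) ip5 62) = true := by decide +kernel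

theorem rot5_62r : band (Rule.ok (2 * 1) EX RL ⟨5 :: [1, 3, 2, 3, 4, 3, 1, 3, 1, 5, 1, 5, 2, 5, 4, 5, 1, 3, 1], [0, 5], 20, false⟩) (lall (memL L) [1, 3, 2, 3, 4, 3, 1, 3, 1, 5, 1, 5, 2, 5, 4, 5, 1, 3, 1]) = true := by decide +kernel

theorem rot5_63 : T.rot 5 [1, 5, 2, 5, 4, 5, 1, 3, 1, 5, 1, 3, 2, 3, 4, 3, 1, 3, 1] (sel (ones 1755) ip5 63) = true := by decide +kernel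

theorem rot5_63r : band (Rule.ok (2 * 1) EX RL ⟨5 :: [1, 5, 2, 5, 4, 5, 1, 3, 1, 5, 1, 3, 2, 3, 4, 3, 1, 3, 1], [5, 3, 5, 2, 5, 0, 5], 20, true⟩) (lall (memL L) [1, 5, 2, 5, 4, 5, 1, 3, 1, 5, 1, 3, 2, 3, 4, 3, 1, 3, 1]) = true := by decide +kernel

theorem rot5_64 : T.rot 5 [2, 5, 4, 5, 1, 3, 1, 5, 1, 3, 2, 3, 4, 3, 1, 3, 1, 5, 1] (sel (ones 1755) ip5 64) = true := by decide +kernel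

theorem rot5_64r : band (Rule.ok (2 * 1) EX RL ⟨5 :: [2, 5, 4, 5, 1, 3, 1, 5, 1, 3, 2, 3, 4, 3, 1, 3, 1, 5, 1], [5, 3, 5, 2, 5], 20, true⟩) (lall (memL L) [2, 5, 4, 5, 1, 3, 1, 5, 1, 3, 2, 3, 4, 3, 1, 3, 1, 5, 1]) = true := by decide +kernel

theorem rot5_65 : T.rot 5 [4, 5, 1, 3, 1, 5, 1, 3, 2, 3, 4, 3, 1, 3, 1, 5, 1, 5, 2] (sel (ones 1755) ip5 65) = true := by decide +kernel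

theorem rot5_65r : band (Rule.ok (2 * 1) EX RL ⟨5 :: [4, 5, 1, 3, 1, 5, 1, 3, 2, 3, 4, 3, 1, 3, 1, 5, 1, 5, 2], [5, 3, 5], 20, true⟩) (lall (memL L) [4, 5, 1, 3, 1, 5, 1, 3, 2, 3, 4, 3, 1, 3, 1, 5, 1, 5, 2]) = true := by decide +kernel

theorem rot5_66 : T.rot 5 [1, 3, 1, 5, 1, 3, 2, 3, 4, 3, 1, 3, 1, 5, 1, 5, 2, 5, 4] (sel (ones 1755) ip5 66) = true := by decide +kernel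

theorem rot5_66r : band (Rule.ok (2 * 1) EX RL ⟨5 :: [1, 3, 1, 5, 1, 3, 2, 3, 4, 3, 1, 3, 1, 5, 1, 5, 2, 5, 4], [5], 20, true⟩) (lall (memL L) [1, 3, 1, 5, 1, 3, 2, 3, 4, 3, 1, 3, 1, 5, 1, 5, 2, 5, 4]) = true := by decide +kernel

theorem rot5_67 : T.rot 5 [1, 2, 3, 4, 1, 5, 1, 5, 1, 3, 1, 5, 1, 3, 4, 4, 3, 3, 1, 3, 1, 3, 1] (sel (ones 1755) ip5 67) = true := by decide +kernel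

theorem rot5_67r : band (Rule.ok (2 * 1) EX RL ⟨5 :: [1, 2, 3, 4, 1, 5, 1, 5, 1, 3, 1, 5, 1, 3, 4, 4, 3, 3, 1, 3, 1, 3, 1], [0, 5, 0, 5, 0], 24, true⟩) (lall (memL L) [1, 2, 3, 4, 1, 5, 1, 5, 1, 3, 1, 5, 1, 3, 4, 4, 3, 3, 1, 3, 1, 3, 1]) = true := by decide +kernel

theorem rot5_68 : T.rot 5 [1, 5, 1, 3, 1, 5, 1, 3, 4, 4, 3, 3, 1, 3, 1, 3, 1, 5, 1, 2, 3, 4, 1] (sel (ones 1755) ip5 68) = true := by decide +kernel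

theorem rot5_68r : band (Rule.ok (2 * 1) EX RL ⟨5 :: [1, 5, 1, 3, 1, 5, 1, 3, 4, 4, 3, 3, 1, 3, 1, 3, 1, 5, 1, 2, 3, 4, 1], [0, 5, 0, 5, 0, 4, 0, 3, 5, 2, 0], 24, true⟩) (lall (memL L) [1, 5, 1, 3, 1, 5, 1, 3, 4, 4, 3, 3, 1, 3, 1, 3, 1, 5, 1, 2, 3, 4, 1]) = true := by decide +kernel

theorem rot5_69 : T.rot 5 [1, 3, 1, 5, 1, 3, 4, 4, 3, 3, 1, 3, 1, 3, 1, 5, 1, 2, 3, 4, 1, 5, 1] (sel (ones 1755) ip5 69) = true := by decide +kernel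

theorem rot5_69r : band (Rule.ok (2 * 1) EX RL ⟨5 :: [1, 3, 1, 5, 1, 3, 4, 4, 3, 3, 1, 3, 1, 3, 1, 5, 1, 2, 3, 4, 1, 5, 1], [4, 4, 3, 3, 4, 0, 5, 0, 4, 0, 5], 24, true⟩) (lall (memL L) [1, 3, 1, 5, 1, 3, 4, 4, 3, 3, 1, 3, 1, 3, 1, 5, 1, 2, 3, 4, 1, 5, 1]) = true := by decide +kernel

theorem rot5_70 : T.rot 5 [1, 3, 4, 4, 3, 3, 1, 3, 1, 3, 1, 5, 1, 2, 3, 4, 1, 5, 1, 5, 1, 3, 1] (sel (ones 1755) ip5 70) = true := by decide +kernel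

theorem rot5_70r : band (Rule.ok (2 * 1) EX RL ⟨5 :: [1, 3, 4, 4, 3, 3, 1, 3, 1, 3, 1, 5, 1, 2, 3, 4, 1, 5, 1, 5, 1, 3, 1], [4, 4, 3, 3, 4, 0, 5], 24, true⟩) (lall (memL L) [1, 3, 4, 4, 3, 3, 1, 3, 1, 3, 1, 5, 1, 2, 3, 4, 1, 5, 1, 5, 1, 3, 1]) = true := by decide +kernel

theorem rot5_71 : T.rot 5 [5, 2, 2, 5, 1, 3, 1, 5, 1, 3, 1, 3, 1, 2, 5, 4, 1, 3, 1, 5, 1, 5, 1] (sel (ones 1755) ip5 71) = true := by decide +kernel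

theorem rot5_71r : band (Rule.ok (2 * 1) EX RL ⟨5 :: [5, 2, 2, 5, 1, 3, 1, 5, 1, 3, 1, 3, 1, 2, 5, 4, 1, 3, 1, 5, 1, 5, 1], [], 24, false⟩) (lall (memL L) [5, 2, 2, 5, 1, 3, 1, 5, 1, 3, 1, 3, 1, 2, 5, 4, 1, 3, 1, 5, 1, 5, 1]) = true := by decide +kernel

theorem rot5_72 : T.rot 5 [2, 2, 5, 1, 3, 1, 5, 1, 3, 1, 3, 1, 2, 5, 4, 1, 3, 1, 5, 1, 5, 1, 5] (sel (ones 1755) ip5 72) = true := by decide +kernel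

theorem rot5_72r : band (Rule.ok (2 * 1) EX RL ⟨5 :: [2, 2, 5, 1, 3, 1, 5, 1, 3, 1, 3, 1, 2, 5, 4, 1, 3, 1, 5, 1, 5, 1, 5], [4], 24, false⟩) (lall (memL L) [2, 2, 5, 1, 3, 1, 5, 1, 3, 1, 3, 1, 2, 5, 4, 1, 3, 1, 5, 1, 5, 1, 5]) = true := by decide +kernel

theorem rot5_73 : T.rot 5 [1, 3, 1, 5, 1, 3, 1, 3, 1, 2, 5, 4, 1, 3, 1, 5, 1, 5, 1, 5, 5, 2, 2] (sel (ones 1755) ip5 73) = true := by decide +kernel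

theorem rot5_73r : band (Rule.ok (2 * 1) EX RL ⟨5 :: [1, 3, 1, 5, 1, 3, 1, 3, 1, 2, 5, 4, 1, 3, 1, 5, 1, 5, 1, 5, 5, 2, 2], [4, 4, 3, 3], 24, false⟩) (lall (memL L) [1, 3, 1, 5, 1, 3, 1, 3, 1, 2, 5, 4, 1, 3, 1, 5, 1, 5, 1, 5, 5, 2, 2]) = true := by decide +kernel

theorem rot5_74 : T.rot 5 [1, 3, 1, 3, 1, 2, 5, 4, 1, 3, 1, 5, 1, 5, 1, 5, 5, 2, 2, 5, 1, 3, 1] (sel (ones 1755) ip5 74) = true := by decide +kernel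

theorem rot5_74r : band (Rule.ok (2 * 1) EX RL ⟨5 :: [1, 3, 1, 3, 1, 2, 5, 4, 1, 3, 1, 5, 1, 5, 1, 5, 5, 2, 2, 5, 1, 3, 1], [4, 4, 3, 3, 4, 0, 5, 0], 24, false⟩) (lall (memL L) [1, 3, 1, 3, 1, 2, 5, 4, 1, 3, 1, 5, 1, 5, 1, 5, 5, 2, 2, 5, 1, 3, 1]) = true := by decide +kernel

theorem rot5_75 : T.rot 5 [4, 1, 3, 1, 5, 1, 5, 1, 5, 5, 2, 2, 5, 1, 3, 1, 5, 1, 3, 1, 3, 1, 2] (sel (ones 1755) ip5 75) = true := by decide +kernel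

theorem rot5_75r : band (Rule.ok (2 * 1) EX RL ⟨5 :: [4, 1, 3, 1, 5, 1, 5, 1, 5, 5, 2, 2, 5, 1, 3, 1, 5, 1, 3, 1, 3, 1, 2], [0, 5, 0, 5, 0, 4, 0, 3, 5], 24, false⟩) (lall (memL L) [4, 1, 3, 1, 5, 1, 5, 1, 5, 5, 2, 2, 5, 1, 3, 1, 5, 1, 3, 1, 3, 1, 2]) = true := by decide +kernel

theorem rot5_76 : T.rot 5 [1, 5, 1, 5, 5, 2, 2, 5, 1, 3, 1, 5, 1, 3, 1, 3, 1, 2, 5, 4, 1, 3, 1] (sel (ones 1755) ip5 76) = true := by decide +kernel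

theorem rot5_76r : band (Rule.ok (2 * 1) EX RL ⟨5 :: [1, 5, 1, 5, 5, 2, 2, 5, 1, 3, 1, 5, 1, 3, 1, 3, 1, 2, 5, 4, 1, 3, 1], [0, 5, 0, 5], 24, false⟩) (lall (memL L) [1, 5, 1, 5, 5, 2, 2, 5, 1, 3, 1, 5, 1, 3, 1, 3, 1, 2, 5, 4, 1, 3, 1]) = true := by decide +kernel

theorem rot5_77 : T.rot 5 [1, 5, 5, 2, 2, 5, 1, 3, 1, 5, 1, 3, 1, 3, 1, 2, 5, 4, 1, 3, 1, 5, 1] (sel (ones 1755) ip5 77) = true := by decide +kernel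

theorem rot5_77r : band (Rule.ok (2 * 1) EX RL ⟨5 :: [1, 5, 5, 2, 2, 5, 1, 3, 1, 5, 1, 3, 1, 3, 1, 2, 5, 4, 1, 3, 1, 5, 1], [0, 5], 24, false⟩) (lall (memL L) [1, 5, 5, 2, 2, 5, 1, 3, 1, 5, 1, 3, 1, 3, 1, 2, 5, 4, 1, 3, 1, 5, 1]) = true := by decide +kernel

theorem rot5_78 : T.rot 5 [5, 4, 4, 2, 3, 2, 5, 5, 4, 4, 2, 3, 2, 5, 5, 4, 4, 2, 3, 2, 5, 5, 4, 4, 2, 3, 2] (sel (ones 1755) ip5 78) = true := by decide +kernel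

theorem rot5_78r : band (Rule.ok (2 * 1) EX RL ⟨5 :: [5, 4, 4, 2, 3, 2, 5, 5, 4, 4, 2, 3, 2, 5, 5, 4, 4, 2, 3, 2, 5, 5, 4, 4, 2, 3, 2], [3, 5, 3], 0, true⟩) (lall (memL L) [5, 4, 4, 2, 3, 2, 5, 5, 4, 4, 2, 3, 2, 5, 5, 4, 4, 2, 3, 2, 5, 5, 4, 4, 2, 3, 2]) = true := by decide +kernel

theorem rot5_79 : T.rot 5 [4, 4, 2, 3, 2, 5, 5, 4, 4, 2, 3, 2, 5, 5, 4, 4, 2, 3, 2, 5, 5, 4, 4, 2, 3, 2, 5] (sel (ones 1755) ip5 79) = true := by decide +kernel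

theorem rot5_79r : band (Rule.ok (2 * 1) EX RL ⟨5 :: [4, 4, 2, 3, 2, 5, 5, 4, 4, 2, 3, 2, 5, 5, 4, 4, 2, 3, 2, 5, 5, 4, 4, 2, 3, 2, 5], [3, 3, 5], 0, true⟩) (lall (memL L) [4, 4, 2, 3, 2, 5, 5, 4, 4, 2, 3, 2, 5, 5, 4, 4, 2, 3, 2, 5, 5, 4, 4, 2, 3, 2, 5]) = true := by decide +kernel

theorem rot5_80 : T.rot 5 [4, 2, 2, 3, 3, 4, 5, 4, 2, 2, 3, 3, 4, 5, 4, 2, 2, 3, 3, 4, 5, 4, 2, 2, 3, 3, 4] (sel (ones 1755) ip5 80) = true := by decide +kernel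

theorem rot5_80r : band (Rule.ok (2 * 1) EX RL ⟨5 :: [4, 2, 2, 3, 3, 4, 5, 4, 2, 2, 3, 3, 4, 5, 4, 2, 2, 3, 3, 4, 5, 4, 2, 2, 3, 3, 4], [3, 5], 0, false⟩) (lall (memL L) [4, 2, 2, 3, 3, 4, 5, 4, 2, 2, 3, 3, 4, 5, 4, 2, 2, 3, 3, 4, 5, 4, 2, 2, 3, 3, 4]) = true := by decide +kernel

theorem rot5_81 : T.rot 5 [2, 3, 2, 5, 5, 4, 3, 3, 4, 5, 2, 3, 2, 5, 5, 4, 3, 3, 4, 5, 2, 3, 2, 5, 5, 4, 3, 3, 4, 5, 2, 3, 2, 5, 5, 4, 3, 3, 4] (sel (ones 1755) ip5 81) = true := by decide +kernel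

theorem rot5_81r : band (Rule.ok (2 * 1) EX RL ⟨5 :: [2, 3, 2, 5, 5, 4, 3, 3, 4, 5, 2, 3, 2, 5, 5, 4, 3, 3, 4, 5, 2, 3, 2, 5, 5, 4, 3, 3, 4, 5, 2, 3, 2, 5, 5, 4, 3, 3, 4], [5, 5, 2], 4, true⟩) (lall (memL L) [2, 3, 2, 5, 5, 4, 3, 3, 4, 5, 2, 3, 2, 5, 5, 4, 3, 3, 4, 5, 2, 3, 2, 5, 5, 4, 3, 3, 4, 5, 2, 3, 2, 5, 5, 4, 3, 3, 4]) = true := by decide +kernel

theorem rot5_82 : T.rot 5 [4, 3, 3, 4, 5, 2, 3, 2, 5, 5, 4, 3, 3, 4, 5, 2, 3, 2, 5, 5, 4, 3, 3, 4, 5, 2, 3, 2, 5, 5, 4, 3, 3, 4, 5, 2, 3, 2, 5] (sel (ones 1755) ip5 82) = true := by decide +kernel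

theorem rot5_82r : band (Rule.ok (2 * 1) EX RL ⟨5 :: [4, 3, 3, 4, 5, 2, 3, 2, 5, 5, 4, 3, 3, 4, 5, 2, 3, 2, 5, 5, 4, 3, 3, 4, 5, 2, 3, 2, 5, 5, 4, 3, 3, 4, 5, 2, 3, 2, 5], [3, 5], 4, true⟩) (lall (memL L) [4, 3, 3, 4, 5, 2, 3, 2, 5, 5, 4, 3, 3, 4, 5, 2, 3, 2, 5, 5, 4, 3, 3, 4, 5, 2, 3, 2, 5, 5, 4, 3, 3, 4, 5, 2, 3, 2, 5]) = true := by decide +kernel

theorem rot5_83 : T.rot 5 [4, 3, 2, 5, 5, 2, 3, 3, 4, 5, 4, 3, 2, 5, 5, 2, 3, 3, 4, 5, 4, 3, 2, 5, 5, 2, 3, 3, 4, 5, 4, 3, 2, 5, 5, 2, 3, 3, 4] (sel (ones 1755) ip5 83) = true := by decide +kernel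

theorem rot5_83r : band (Rule.ok (2 * 1) EX RL ⟨5 :: [4, 3, 2, 5, 5, 2, 3, 3, 4, 5, 4, 3, 2, 5, 5, 2, 3, 3, 4, 5, 4, 3, 2, 5, 5, 2, 3, 3, 4, 5, 4, 3, 2, 5, 5, 2, 3, 3, 4], [3, 5, 5, 2], 4, false⟩) (lall (memL L) [4, 3, 2, 5, 5, 2, 3, 3, 4, 5, 4, 3, 2, 5, 5, 2, 3, 3, 4, 5, 4, 3, 2, 5, 5, 2, 3, 3, 4, 5, 4, 3, 2, 5, 5, 2, 3, 3, 4]) = true := by decide +kernel

theorem rot5_84 : T.rot 5 [4, 4, 3, 3, 4, 5, 2, 3, 2, 5, 5, 4, 3, 3, 4, 5, 4, 3, 2, 5, 5, 3, 2, 5, 5, 3, 3, 4, 5, 2, 3, 2, 5, 5, 4, 4, 3, 3, 4] (sel (ones 1755) ip5 84) = true := by decide +kernel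

theorem rot5_84r : band (Rule.ok (2 * 1) EX RL ⟨5 :: [4, 4, 3, 3, 4, 5, 2, 3, 2, 5, 5, 4, 3, 3, 4, 5, 4, 3, 2, 5, 5, 3, 2, 5, 5, 3, 3, 4, 5, 2, 3, 2, 5, 5, 4, 4, 3, 3, 4], [2, 5, 5, 2], 8, true⟩) (lall (memL L) [4, 4, 3, 3, 4, 5, 2, 3, 2, 5, 5, 4, 3, 3, 4, 5, 4, 3, 2, 5, 5, 3, 2, 5, 5, 3, 3, 4, 5, 2, 3, 2, 5, 5, 4, 4, 3, 3, 4]) = true := by decide +kernel

theorem rot5_85 : T.rot 5 [2, 3, 2, 5, 5, 4, 3, 3, 4, 5, 4, 3, 2, 5, 5, 3, 2, 5, 5, 3, 3, 4, 5, 2, 3, 2, 5, 5, 4, 4, 3, 3, 4, 5, 4, 4, 3, 3, 4] (sel (ones 1755) ip5 85) = true := by decide +kernel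

theorem rot5_85r : band (Rule.ok (2 * 1) EX RL ⟨5 :: [2, 3, 2, 5, 5, 4, 3, 3, 4, 5, 4, 3, 2, 5, 5, 3, 2, 5, 5, 3, 3, 4, 5, 2, 3, 2, 5, 5, 4, 4, 3, 3, 4, 5, 4, 4, 3, 3, 4], [2, 5, 5, 2, 4, 2, 2, 5, 5, 2], 8, true⟩) (lall (memL L) [2, 3, 2, 5, 5, 4, 3, 3, 4, 5, 4, 3, 2, 5, 5, 3, 2, 5, 5, 3, 3, 4, 5, 2, 3, 2, 5, 5, 4, 4, 3, 3, 4, 5, 4, 4, 3, 3, 4]) = true := by decide +kernel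

theorem rot5_86 : T.rot 5 [5, 4, 3, 3, 4, 5, 4, 3, 2, 5, 5, 3, 2, 5, 5, 3, 3, 4, 5, 2, 3, 2, 5, 5, 4, 4, 3, 3, 4, 5, 4, 4, 3, 3, 4, 5, 2, 3, 2] (sel (ones 1755) ip5 86) = true := by decide +kernel

theorem rot5_86r : band (Rule.ok (2 * 1) EX RL ⟨5 :: [5, 4, 3, 3, 4, 5, 4, 3, 2, 5, 5, 3, 2, 5, 5, 3, 3, 4, 5, 2, 3, 2, 5, 5, 4, 4, 3, 3, 4, 5, 4, 4, 3, 3, 4, 5, 2, 3, 2], [2, 5, 5, 2, 4, 2, 2, 5, 5, 2, 4, 3, 5, 3], 8, true⟩) (lall (memL L) [5, 4, 3, 3, 4, 5, 4, 3, 2, 5, 5, 3, 2, 5, 5, 3, 3, 4, 5, 2, 3, 2, 5, 5, 4, 4, 3, 3, 4, 5, 4, 4, 3, 3, 4, 5, 2, 3, 2]) = true := by decide +kernel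

theorem rot5_87 : T.rot 5 [4, 3, 3, 4, 5, 4, 3, 2, 5, 5, 3, 2, 5, 5, 3, 3, 4, 5, 2, 3, 2, 5, 5, 4, 4, 3, 3, 4, 5, 4, 4, 3, 3, 4, 5, 2, 3, 2, 5] (sel (ones 1755) ip5 87) = true := by decide +kernel

theorem rot5_87r : band (Rule.ok (2 * 1) EX RL ⟨5 :: [4, 3, 3, 4, 5, 4, 3, 2, 5, 5, 3, 2, 5, 5, 3, 3, 4, 5, 2, 3, 2, 5, 5, 4, 4, 3, 3, 4, 5, 4, 4, 3, 3, 4, 5, 2, 3, 2, 5], [2, 5, 5, 2, 4, 2, 2, 5, 5, 2, 4, 3, 5, 3, 4], 8, true⟩) (lall (memL L) [4, 3, 3, 4, 5, 4, 3, 2, 5, 5, 3, 2, 5, 5, 3, 3, 4, 5, 2, 3, 2, 5, 5, 4, 4, 3, 3, 4, 5, 4, 4, 3, 3, 4, 5, 2, 3, 2, 5]) = true := by decide +kernel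

theorem rot5_88 : T.rot 5 [4, 3, 2, 5, 5, 3, 2, 5, 5, 3, 3, 4, 5, 2, 3, 2, 5, 5, 4, 4, 3, 3, 4, 5, 4, 4, 3, 3, 4, 5, 2, 3, 2, 5, 5, 4, 3, 3, 4] (sel (ones 1755) ip5 88) = true := by decide +kernel

theorem rot5_88r : band (Rule.ok (2 * 1) EX RL ⟨5 :: [4, 3, 2, 5, 5, 3, 2, 5, 5, 3, 3, 4, 5, 2, 3, 2, 5, 5, 4, 4, 3, 3, 4, 5, 4, 4, 3, 3, 4, 5, 2, 3, 2, 5, 5, 4, 3, 3, 4], [3, 5, 5, 2, 4, 2, 5, 5, 2, 4, 3, 5], 8, true⟩) (lall (memL L) [4, 3, 2, 5, 5, 3, 2, 5, 5, 3, 3, 4, 5, 2, 3, 2, 5, 5, 4, 4, 3, 3, 4, 5, 4, 4, 3, 3, 4, 5, 2, 3, 2, 5, 5, 4, 3, 3, 4]) = true := by decide +kernel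

theorem rot5_89 : T.rot 5 [5, 3, 2, 5, 5, 3, 3, 4, 5, 2, 3, 2, 5, 5, 4, 4, 3, 3, 4, 5, 4, 4, 3, 3, 4, 5, 2, 3, 2, 5, 5, 4, 3, 3, 4, 5, 4, 3, 2] (sel (ones 1755) ip5 89) = true := by decide +kernel

theorem rot5_89r : band (Rule.ok (2 * 1) EX RL ⟨5 :: [5, 3, 2, 5, 5, 3, 3, 4, 5, 2, 3, 2, 5, 5, 4, 4, 3, 3, 4, 5, 4, 4, 3, 3, 4, 5, 2, 3, 2, 5, 5, 4, 3, 3, 4, 5, 4, 3, 2], [3, 5, 5, 2, 4, 2, 5, 5], 8, true⟩) (lall (memL L) [5, 3, 2, 5, 5, 3, 3, 4, 5, 2, 3, 2, 5, 5, 4, 4, 3, 3, 4, 5, 4, 4, 3, 3, 4, 5, 2, 3, 2, 5, 5, 4, 3, 3, 4, 5, 4, 3, 2]) = true := by decide +kernel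

theorem rot5_90 : T.rot 5 [5, 4, 4, 3, 3, 4, 5, 4, 4, 3, 3, 4, 5, 2, 3, 2, 5, 5, 4, 3, 3, 4, 5, 4, 3, 2, 5, 5, 3, 2, 5, 5, 3, 3, 4, 5, 2, 3, 2] (sel (ones 1755) ip5 90) = true := by decide +kernel

theorem rot5_90r : band (Rule.ok (2 * 1) EX RL ⟨5 :: [5, 4, 4, 3, 3, 4, 5, 4, 4, 3, 3, 4, 5, 2, 3, 2, 5, 5, 4, 3, 3, 4, 5, 4, 3, 2, 5, 5, 3, 2, 5, 5, 3, 3, 4, 5, 2, 3, 2], [3, 5, 5], 8, true⟩) (lall (memL L) [5, 4, 4, 3, 3, 4, 5, 4, 4, 3, 3, 4, 5, 2, 3, 2, 5, 5, 4, 3, 3, 4, 5, 4, 3, 2, 5, 5, 3, 2, 5, 5, 3, 3, 4, 5, 2, 3, 2]) = true := by decide +kernel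

theorem rot5_91 : T.rot 5 [4, 4, 3, 3, 4, 5, 4, 4, 3, 3, 4, 5, 2, 3, 2, 5, 5, 4, 3, 3, 4, 5, 4, 3, 2, 5, 5, 3, 2, 5, 5, 3, 3, 4, 5, 2, 3, 2, 5] (sel (ones 1755) ip5 91) = true := by decide +kernel

theorem rot5_91r : band (Rule.ok (2 * 1) EX RL ⟨5 :: [4, 4, 3, 3, 4, 5, 4, 4, 3, 3, 4, 5, 2, 3, 2, 5, 5, 4, 3, 3, 4, 5, 4, 3, 2, 5, 5, 3, 2, 5, 5, 3, 3, 4, 5, 2, 3, 2, 5], [3, 5], 8, true⟩) (lall (memL L) [4, 4, 3, 3, 4, 5, 4, 4, 3, 3, 4, 5, 2, 3, 2, 5, 5, 4, 3, 3, 4, 5, 4, 3, 2, 5, 5, 3, 2, 5, 5, 3, 3, 4, 5, 2, 3, 2, 5]) = true := by decide +kernel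

theorem rot5_92 : T.rot 5 [4, 3, 2, 5, 5, 3, 3, 4, 5, 3, 3, 4, 5, 2, 3, 2, 5, 5, 2, 3, 3, 4, 5, 4, 3, 2, 5, 5, 2, 2, 3, 2, 5, 5, 2, 2, 3, 3, 4] (sel (ones 1755) ip5 92) = true := by decide +kernel

theorem rot5_92r : band (Rule.ok (2 * 1) EX RL ⟨5 :: [4, 3, 2, 5, 5, 3, 3, 4, 5, 3, 3, 4, 5, 2, 3, 2, 5, 5, 2, 3, 3, 4, 5, 4, 3, 2, 5, 5, 2, 2, 3, 2, 5, 5, 2, 2, 3, 3, 4], [3, 5, 5, 2], 8, false⟩) (lall (memL L) [4, 3, 2, 5, 5, 3, 3, 4, 5, 3, 3, 4, 5, 2, 3, 2, 5, 5, 2, 3, 3, 4, 5, 4, 3, 2, 5, 5, 2, 2, 3, 2, 5, 5, 2, 2, 3, 3, 4]) = true := by decide +kernel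

theorem rot5_93 : T.rot 5 [5, 2, 2, 3, 3, 4, 5, 4, 3, 2, 5, 5, 3, 3, 4, 5, 3, 3, 4, 5, 2, 3, 2, 5, 5, 2, 3, 3, 4, 5, 4, 3, 2, 5, 5, 2, 2, 3, 2] (sel (ones 1755) ip5 93) = true := by decide +kernel

theorem rot5_93r : band (Rule.ok (2 * 1) EX RL ⟨5 :: [5, 2, 2, 3, 3, 4, 5, 4, 3, 2, 5, 5, 3, 3, 4, 5, 3, 3, 4, 5, 2, 3, 2, 5, 5, 2, 3, 3, 4, 5, 4, 3, 2, 5, 5, 2, 2, 3, 2], [2, 5, 5], 8, false⟩) (lall (memL L) [5, 2, 2, 3, 3, 4, 5, 4, 3, 2, 5, 5, 3, 3, 4, 5, 3, 3, 4, 5, 2, 3, 2, 5, 5, 2, 3, 3, 4, 5, 4, 3, 2, 5, 5, 2, 2, 3, 2]) = true := by decide +kernel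

theorem rot5_94 : T.rot 5 [2, 2, 3, 3, 4, 5, 4, 3, 2, 5, 5, 3, 3, 4, 5, 3, 3, 4, 5, 2, 3, 2, 5, 5, 2, 3, 3, 4, 5, 4, 3, 2, 5, 5, 2, 2, 3, 2, 5] (sel (ones 1755) ip5 94) = true := by decide +kernel

theorem rot5_94r : band (Rule.ok (2 * 1) EX RL ⟨5 :: [2, 2, 3, 3, 4, 5, 4, 3, 2, 5, 5, 3, 3, 4, 5, 3, 3, 4, 5, 2, 3, 2, 5, 5, 2, 3, 3, 4, 5, 4, 3, 2, 5, 5, 2, 2, 3, 2, 5], [2, 5], 8, false⟩) (lall (memL L) [2, 2, 3, 3, 4, 5, 4, 3, 2, 5, 5, 3, 3, 4, 5, 3, 3, 4, 5, 2, 3, 2, 5, 5, 2, 3, 3, 4, 5, 4, 3, 2, 5, 5, 2, 2, 3, 2, 5]) = true := by decide +kernel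

theorem rot5_95 : T.rot 5 [2, 3, 2, 5, 5, 3, 3, 4, 5, 3, 3, 4, 5, 2, 3, 2, 5, 5, 3, 3, 4, 5, 3, 3, 4, 5, 2, 3, 2, 5, 5, 3, 3, 4, 5, 3, 3, 4, 5, 2, 3, 2, 5, 5, 3, 3, 4, 5, 3, 3, 4] (sel (ones 1755) ip5 95) = true := by decide +kernel

theorem rot5_95r : band (Rule.ok (2 * 1) EX RL ⟨5 :: [2, 3, 2, 5, 5, 3, 3, 4, 5, 3, 3, 4, 5, 2, 3, 2, 5, 5, 3, 3, 4, 5, 3, 3, 4, 5, 2, 3, 2, 5, 5, 3, 3, 4, 5, 3, 3, 4, 5, 2, 3, 2, 5, 5, 3, 3, 4, 5, 3, 3, 4], [3, 5], 0, false⟩) (lall (memL L) [2, 3, 2, 5, 5, 3, 3, 4, 5, 3, 3, 4, 5, 2, 3, 2, 5, 5, 3, 3, 4, 5, 3, 3, 4, 5, 2, 3, 2, 5, 5, 3, 3, 4, 5, 3, 3, 4, 5, 2, 3, 2, 5, 5, 3, 3, 4, 5, 3, 3, 4]) = true := by decide +kernel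

theorem rot5_96 : T.rot 5 [5, 4, 4, 2, 3, 2, 5, 5, 4, 4, 3, 3, 4, 5, 2, 3, 2, 5, 5, 4, 3, 3, 4, 5, 4, 3, 2, 5, 5, 3, 2, 5, 5, 3, 3, 4, 5, 2, 3, 2, 5, 5, 4, 3, 3, 4, 5, 4, 3, 2, 5, 5, 3, 2, 5, 5, 2, 3, 2] (sel (ones 1755) ip5 96) = true := by decide +kernel

theorem rot5_96r : band (Rule.ok (2 * 1) EX RL ⟨5 :: [5, 4, 4, 2, 3, 2, 5, 5, 4, 4, 3, 3, 4, 5, 2, 3, 2, 5, 5, 4, 3, 3, 4, 5, 4, 3, 2, 5, 5, 3, 2, 5, 5, 3, 3, 4, 5, 2, 3, 2, 5, 5, 4, 3, 3, 4, 5, 4, 3, 2, 5, 5, 3, 2, 5, 5, 2, 3, 2], [3, 5, 3], 1, true⟩) (lall (memL L) [5, 4, 4, 2, 3, 2, 5, 5, 4, 4, 3, 3, 4, 5, 2, 3, 2, 5, 5, 4, 3, 3, 4, 5, 4, 3, 2, 5, 5, 3, 2, 5, 5, 3, 3, 4, 5, 2, 3, 2, 5, 5, 4, 3, 3, 4, 5, 4, 3, 2, 5, 5, 3, 2, 5, 5, 2, 3, 2]) = true := by decide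 +kernel

theorem rot5_97 : T.rot 5 [5, 4, 4, 3, 3, 4, 5, 2, 3, 2, 5, 5, 4, 3, 3, 4, 5, 4, 3, 2, 5, 5, 3, 2, 5, 5, 3, 3, 4, 5, 2, 3, 2, 5, 5, 4, 3, 3, 4, 5, 4, 3, 2, 5, 5, 3, 2, 5, 5, 2, 3, 2, 5, 5, 4, 4, 2, 3, 2] (sel (ones 1755) ip5 97) = true := by decide +kernel

theorem rot5_97r : band (Rule.ok (2 * 1) EX RL ⟨5 :: [5, 4, 4, 3, 3, 4, 5, 2, 3, 2, 5, 5, 4, 3, 3, 4, 5, 4, 3, 2, 5, 5, 3, 2, 5, 5, 3, 3, 4, 5, 2, 3, 2, 5, 5, 4, 3, 3, 4, 5, 4, 3, 2, 5, 5, 3, 2, 5, 5, 2, 3, 2, 5, 5, 4, 4, 2, 3, 2], [3, 5, 3, 4, 4, 2, 5, 3], 1, true⟩) (lall (memL L) [5, 4, 4, 3, 3, 4, 5, 2, 3, 2, 5, 5, 4, 3, 3, 4, 5, 4, 3, 2, 5, 5, 3, 2, 5, 5, 3, 3, 4, 5, 2, 3, 2, 5, 5, 4, 3, 3, 4, 5, 4, 3, 2, 5, 5, 3, 2, 5, 5, 2, 3, 2, 5, 5, 4, 4, 2, 3,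 2]) = true := by decide +kernel

theorem rot5_98 : T.rot 5 [4, 4, 3, 3, 4, 5, 2, 3, 2, 5, 5, 4, 3, 3, 4, 5, 4, 3, 2, 5, 5, 3, 2, 5, 5, 3, 3, 4, 5, 2, 3, 2, 5, 5, 4, 3, 3, 4, 5, 4, 3, 2, 5, 5, 3, 2, 5, 5, 2, 3, 2, 5, 5, 4, 4, 2, 3, 2, 5] (sel (ones 1755) ip5 98) = true := by decide +kernel

theorem rot5_98r : band (Rule.ok (2 * 1) EX RL ⟨5 :: [4, 4, 3, 3, 4, 5, 2, 3, 2, 5, 5, 4, 3, 3, 4, 5, 4, 3, 2, 5, 5, 3, 2, 5, 5, 3, 3, 4, 5, 2, 3, 2, 5, 5, 4, 3, 3, 4, 5, 4, 3, 2, 5, 5, 3, 2, 5, 5, 2, 3, 2, 5, 5, 4, 4, 2, 3, 2, 5], [3, 5, 3, 4, 4, 2, 5, 3, 4], 1, true⟩) (lall (memL L) [4, 4, 3, 3, 4, 5, 2, 3, 2, 5, 5, 4, 3, 3, 4, 5, 4, 3, 2, 5, 5, 3, 2, 5, 5, 3, 3, 4, 5, 2, 3, 2, 5, 5, 4, 3, 3, 4, 5, 4, 3, 2, 5, 5, 3, 2, 5, 5, 2,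 3, 2, 5, 5, 4, 4, 2, 3, 2, 5]) = true := by decide +kernel

theorem rot5_99 : T.rot 5 [5, 2, 3, 2, 5, 5, 4, 4, 2, 3, 2, 5, 5, 4, 4, 3, 3, 4, 5, 2, 3, 2, 5, 5, 4, 3, 3, 4, 5, 4, 3, 2, 5, 5, 3, 2, 5, 5, 3, 3, 4, 5, 2, 3, 2, 5, 5, 4, 3, 3, 4, 5, 4, 3, 2, 5, 5, 3, 2] (sel (ones 1755) ip5 99) = true := by decide +kernel

theorem rot5_99r : band (Rule.ok (2 * 1) EX RL ⟨5 :: [5, 2, 3, 2, 5, 5, 4, 4, 2, 3, 2, 5, 5, 4, 4, 3, 3, 4, 5, 2, 3, 2, 5, 5, 4, 3, 3, 4, 5, 4, 3, 2, 5, 5, 3, 2, 5, 5, 3, 3, 4, 5, 2, 3, 2, 5, 5, 4, 3, 3, 4, 5, 4, 3, 2, 5, 5, 3, 2], [5, 5], 1, true⟩) (lall (memL L) [5, 2, 3, 2, 5, 5, 4, 4, 2, 3, 2, 5, 5, 4, 4, 3, 3, 4, 5, 2, 3, 2, 5, 5, 4, 3, 3, 4, 5, 4, 3, 2, 5, 5, 3, 2, 5, 5, 3, 3, 4, 5, 2, 3, 2, 5, 5,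 4, 3, 3, 4, 5, 4, 3, 2, 5, 5, 3, 2]) = true := by decide +kernel

theorem rot5_100 : T.rot 5 [5, 2, 3, 3, 4, 5, 4, 3, 2, 5, 5, 2, 2, 3, 3, 4, 5, 4, 2, 2, 3, 3, 4, 5, 4, 3, 3, 4, 5, 3, 3, 4, 5, 2, 3, 2, 5, 5, 2, 3, 3, 4, 5, 4, 3, 2, 5, 5, 3, 3, 4, 5, 3, 3, 4, 5, 2, 3, 2] (sel (ones 1755) ip5 100) = true := by decide +kernel

theorem rot5_100r : band (Rule.ok (2 * 1) EX RL ⟨5 :: [5, 2, 3, 3, 4, 5, 4, 3, 2, 5, 5, 2, 2, 3, 3, 4, 5, 4, 2, 2, 3, 3, 4, 5, 4, 3, 3, 4, 5, 3, 3, 4, 5, 2, 3, 2, 5, 5, 2, 3, 3, 4, 5, 4, 3, 2, 5, 5, 3, 3, 4, 5, 3, 3, 4, 5, 2, 3, 2], [3, 5, 3, 4, 4, 2, 5, 3, 4, 4, 2, 2, 5, 5, 2, 4, 3, 5, 3, 4, 4, 2, 5, 5], 1, false⟩) (lall (memL L) [5, 2, 3, 3, 4, 5, 4, 3, 2, 5, 5, 2, 2, 3, 3, 4, 5, 4, 2, 2, 3, 3,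 4, 5, 4, 3, 3, 4, 5, 3, 3, 4, 5, 2, 3, 2, 5, 5, 2, 3, 3, 4, 5, 4, 3, 2, 5, 5, 3, 3, 4, 5, 3, 3, 4, 5, 2, 3, 2]) = true := by decide +kernel

theorem rot5_101 : T.rot 5 [5, 2, 2, 3, 3, 4, 5, 4, 2, 2, 3, 3, 4, 5, 4, 3, 3, 4, 5, 3, 3, 4, 5, 2, 3, 2, 5, 5, 2, 3, 3, 4, 5, 4, 3, 2, 5, 5, 3, 3, 4, 5, 3, 3, 4, 5, 2, 3, 2, 5, 5, 2, 3, 3, 4, 5, 4, 3, 2] (sel (ones 1755) ip5 101) = true := by decide +kernel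

theorem rot5_101r : band (Rule.ok (2 * 1) EX RL ⟨5 :: [5, 2, 2, 3, 3, 4, 5, 4, 2, 2, 3, 3, 4, 5, 4, 3, 3, 4, 5, 3, 3, 4, 5, 2, 3, 2, 5, 5, 2, 3, 3, 4, 5, 4, 3, 2, 5, 5, 3, 3, 4, 5, 3, 3, 4, 5, 2, 3, 2, 5, 5, 2, 3, 3, 4, 5, 4, 3, 2], [3, 5, 3, 4, 4, 2, 5, 3, 4, 4, 2, 2, 5, 5], 1, false⟩) (lall (memL L) [5, 2, 2, 3, 3, 4, 5, 4, 2, 2, 3, 3, 4, 5, 4, 3, 3, 4, 5, 3, 3, 4, 5, 2, 3, 2, 5, 5, 2, 3, 3, 4, 5, 4, 3, 2, 5, 5, 3, 3, 4, 5, 3, 3, 4, 5, 2, 3, 2, 5, 5, 2, 3, 3, 4, 5, 4, 3, 2]) = true := by decide +kernel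

theorem rot5_102 : T.rot 5 [5, 4, 4, 2, 3, 2, 5, 5, 4, 4, 3, 3, 4, 5, 2, 3, 2, 5, 5, 4, 3, 3, 4, 5, 3, 3, 4, 5, 2, 3, 2, 5, 5, 3, 3, 4, 5, 2, 3, 2, 5, 5, 4, 3, 3, 4, 5, 3, 3, 4, 5, 2, 3, 2, 5, 5, 2, 3, 2] (sel (ones 1755) ip5 102) = true := by decide +kernel

theorem rot5_102r : band (Rule.ok (2 * 1) EX RL ⟨5 :: [5, 4, 4, 2, 3, 2, 5, 5, 4, 4, 3, 3, 4, 5, 2, 3, 2, 5, 5, 4, 3, 3, 4, 5, 3, 3, 4, 5, 2, 3, 2, 5, 5, 3, 3, 4, 5, 2, 3, 2, 5, 5, 4, 3, 3, 4, 5, 3, 3, 4, 5, 2, 3, 2, 5, 5, 2, 3, 2], [3, 5, 3], 2, true⟩) (lall (memL L) [5, 4, 4, 2, 3, 2, 5, 5, 4, 4, 3, 3, 4, 5, 2, 3, 2, 5, 5, 4, 3, 3, 4, 5, 3, 3, 4, 5, 2, 3, 2, 5, 5, 3, 3, 4, 5, 2, 3, 2, 5, 5, 4, 3, 3, 4, 5, 3, 3, 4, 5, 2, 3, 2, 5, 5, 2, 3, 2]) = true := by decide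 +kernel

theorem rot5_103 : T.rot 5 [4, 4, 2, 3, 2, 5, 5, 4, 4, 3, 3, 4, 5, 2, 3, 2, 5, 5, 4, 3, 3, 4, 5, 3, 3, 4, 5, 2, 3, 2, 5, 5, 3, 3, 4, 5, 2, 3, 2, 5, 5, 4, 3, 3, 4, 5, 3, 3, 4, 5, 2, 3, 2, 5, 5, 2, 3, 2, 5] (sel (ones 1755) ip5 103) = true := by decide +kernel

theorem rot5_103r : band (Rule.ok (2 * 1) EX RL ⟨5 :: [4, 4, 2, 3, 2, 5, 5, 4, 4, 3, 3, 4, 5, 2, 3, 2, 5, 5, 4, 3, 3, 4, 5, 3, 3, 4, 5, 2, 3, 2, 5, 5, 3, 3, 4, 5, 2, 3, 2, 5, 5, 4, 3, 3, 4, 5, 3, 3, 4, 5, 2, 3, 2, 5, 5, 2, 3, 2, 5], [3, 5, 3, 4], 2, true⟩) (lall (memL L) [4, 4, 2, 3, 2, 5, 5, 4, 4, 3, 3, 4, 5, 2, 3, 2, 5, 5, 4, 3, 3, 4, 5, 3, 3, 4, 5, 2, 3, 2, 5, 5, 3, 3, 4, 5, 2, 3, 2, 5, 5, 4, 3, 3, 4, 5, 3, 3, 4, 5, 2, 3, 2, 5, 5, 2, 3, 2, 5]) = true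 := by decide +kernel

theorem rot5_104 : T.rot 5 [4, 4, 3, 3, 4, 5, 2, 3, 2, 5, 5, 4, 3, 3, 4, 5, 3, 3, 4, 5, 2, 3, 2, 5, 5, 3, 3, 4, 5, 2, 3, 2, 5, 5, 4, 3, 3, 4, 5, 3, 3, 4, 5, 2, 3, 2, 5, 5, 2, 3, 2, 5, 5, 4, 4, 2, 3, 2, 5] (sel (ones 1755) ip5 104) = true := by decide +kernel

theorem rot5_104r : band (Rule.ok (2 * 1) EX RL ⟨5 :: [4, 4, 3, 3, 4, 5, 2, 3, 2, 5, 5, 4, 3, 3, 4, 5, 3, 3, 4, 5, 2, 3, 2, 5, 5, 3, 3, 4, 5, 2, 3, 2, 5, 5, 4, 3, 3, 4, 5, 3, 3, 4, 5, 2, 3, 2, 5, 5, 2, 3, 2, 5, 5, 4, 4, 2, 3, 2, 5], [3, 5, 3, 4, 4, 2, 5, 3, 4], 2, true⟩) (lall (memL L) [4, 4, 3, 3, 4, 5, 2, 3, 2, 5, 5, 4, 3, 3, 4, 5, 3, 3, 4, 5, 2, 3, 2, 5, 5, 3, 3, 4, 5, 2, 3, 2, 5, 5, 4, 3, 3, 4, 5, 3, 3, 4, 5, 2, 3, 2, 5, 5, 2, 3, 2, 5,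 5, 4, 4, 2, 3, 2, 5]) = true := by decide +kernel

theorem rot5_105 : T.rot 5 [2, 3, 2, 5, 5, 4, 3, 3, 4, 5, 3, 3, 4, 5, 2, 3, 2, 5, 5, 3, 3, 4, 5, 2, 3, 2, 5, 5, 4, 3, 3, 4, 5, 3, 3, 4, 5, 2, 3, 2, 5, 5, 2, 3, 2, 5, 5, 4, 4, 2, 3, 2, 5, 5, 4, 4, 3, 3, 4] (sel (ones 1755) ip5 105) = true := by decide +kernel

theorem rot5_105r : band (Rule.ok (2 * 1) EX RL ⟨5 :: [2, 3, 2, 5, 5, 4, 3, 3, 4, 5, 3, 3, 4, 5, 2, 3, 2, 5, 5, 3, 3, 4, 5, 2, 3, 2, 5, 5, 4, 3, 3, 4, 5, 3, 3, 4, 5, 2, 3, 2, 5, 5, 2, 3, 2, 5, 5, 4, 4, 2, 3, 2, 5, 5, 4, 4, 3, 3, 4], [3, 5, 3, 4, 4, 2, 5, 3, 4, 4, 2, 2, 5, 5, 2], 2, true⟩) (lall (memL L) [2, 3, 2, 5, 5, 4, 3, 3, 4, 5, 3, 3, 4, 5, 2, 3, 2, 5, 5, 3, 3, 4, 5, 2, 3, 2, 5, 5, 4, 3, 3, 4, 5, 3, 3, 4,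 5, 2, 3, 2, 5, 5, 2, 3, 2, 5, 5, 4, 4, 2, 3, 2, 5, 5, 4, 4, 3, 3, 4]) = true := by decide +kernel

theorem rot5_106 : T.rot 5 [5, 4, 3, 3, 4, 5, 3, 3, 4, 5, 2, 3, 2, 5, 5, 3, 3, 4, 5, 2, 3, 2, 5, 5, 4, 3, 3, 4, 5, 3, 3, 4, 5, 2, 3, 2, 5, 5, 2, 3, 2, 5, 5, 4, 4, 2, 3, 2, 5, 5, 4, 4, 3, 3, 4, 5, 2, 3, 2] (sel (ones 1755) ip5 106) = true := by decide +kernel

theorem rot5_106r : band (Rule.ok (2 * 1) EX RL ⟨5 :: [5, 4, 3, 3, 4, 5, 3, 3, 4, 5, 2, 3, 2, 5, 5, 3, 3, 4, 5, 2, 3, 2, 5, 5, 4, 3, 3, 4, 5, 3, 3, 4, 5, 2, 3, 2, 5, 5, 2, 3, 2, 5, 5, 4, 4, 2, 3, 2, 5, 5, 4, 4, 3, 3, 4, 5, 2, 3, 2], [3, 5, 3, 4, 4, 2, 5, 3, 4, 4, 2, 2, 5, 5, 2, 4, 3, 5, 3], 2, true⟩) (lall (memL L) [5, 4, 3, 3, 4, 5, 3, 3, 4, 5, 2, 3, 2, 5, 5, 3,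 3, 4, 5, 2, 3, 2, 5, 5, 4, 3, 3, 4, 5, 3, 3, 4, 5, 2, 3, 2, 5, 5, 2, 3, 2, 5, 5, 4, 4, 2, 3, 2, 5, 5, 4, 4, 3, 3, 4, 5, 2, 3, 2]) = true := by decide +kernel

theorem rot5_107 : T.rot 5 [2, 3, 2, 5, 5, 3, 3, 4, 5, 2, 3, 2, 5, 5, 4, 3, 3, 4, 5, 3, 3, 4, 5, 2, 3, 2, 5, 5, 2, 3, 2, 5, 5, 4, 4, 2, 3, 2, 5, 5, 4, 4, 3, 3, 4, 5, 2, 3, 2, 5, 5, 4, 3, 3, 4, 5, 3, 3, 4] (sel (ones 1755) ip5 107) = true := by decide +kernel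

theorem rot5_107r : band (Rule.ok (2 * 1) EX RL ⟨5 :: [2, 3, 2, 5, 5, 3, 3, 4, 5, 2, 3, 2, 5, 5, 4, 3, 3, 4, 5, 3, 3, 4, 5, 2, 3, 2, 5, 5, 2, 3, 2, 5, 5, 4, 4, 2, 3, 2, 5, 5, 4, 4, 3, 3, 4, 5, 2, 3, 2, 5, 5, 4, 3, 3, 4, 5, 3, 3, 4], [5, 5, 2, 4, 2, 5, 3, 4, 3, 4, 4, 3, 5, 5, 2, 4, 2, 2, 5], 2, true⟩) (lall (memL L) [2, 3, 2, 5, 5, 3, 3, 4, 5, 2, 3, 2, 5, 5, 4, 3, 3, 4, 5, 3, 3, 4, 5, 2, 3, 2, 5, 5, 2, 3, 2, 5, 5, 4, 4, 2, 3, 2, 5, 5, 4, 4, 3, 3, 4, 5, 2, 3, 2, 5, 5, 4, 3, 3, 4, 5, 3, 3, 4]) = true := by decide +kernel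

theorem rot5_108 : T.rot 5 [5, 3, 2, 5, 5, 2, 3, 3, 4, 5, 4, 3, 2, 5, 5, 3, 3, 4, 5, 4, 3, 2, 5, 5, 3, 2, 5, 5, 2, 3, 3, 4, 5, 4, 3, 2, 5, 5, 2, 2, 3, 3, 4, 5, 4, 2, 2, 3, 3, 4, 5, 4, 3, 3, 4, 5, 4, 3, 2] (sel (ones 1755) ip5 108) = true := by decide +kernel

theorem rot5_108r : band (Rule.ok (2 * 1) EX RL ⟨5 :: [5, 3, 2, 5, 5, 2, 3, 3, 4, 5, 4, 3, 2, 5, 5, 3, 3, 4, 5, 4, 3, 2, 5, 5, 3, 2, 5, 5, 2, 3, 3, 4, 5, 4, 3, 2, 5, 5, 2, 2, 3, 3, 4, 5, 4, 2, 2, 3, 3, 4, 5, 4, 3, 3, 4, 5, 4, 3, 2], [5, 5, 2, 4, 2, 5, 3], 2, false⟩) (lall (memL L) [5, 3, 2, 5, 5, 2, 3, 3, 4, 5, 4, 3, 2, 5, 5, 3, 3, 4, 5, 4, 3, 2, 5, 5, 3, 2, 5, 5, 2, 3, 3, 4, 5, 4, 3, 2, 5, 5, 2, 2, 3, 3, 4, 5, 4, 2, 2, 3, 3, 4, 5, 4, 3, 3, 4, 5, 4, 3, 2]) = true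 := by decide +kernel

theorem rot5_109 : T.rot 5 [4, 3, 2, 5, 5, 3, 3, 4, 5, 4, 3, 2, 5, 5, 3, 2, 5, 5, 2, 3, 3, 4, 5, 4, 3, 2, 5, 5, 2, 2, 3, 3, 4, 5, 4, 2, 2, 3, 3, 4, 5, 4, 3, 3, 4, 5, 4, 3, 2, 5, 5, 3, 2, 5, 5, 2, 3, 3, 4] (sel (ones 1755) ip5 109) = true := by decide +kernel

theorem rot5_109r : band (Rule.ok (2 * 1) EX RL ⟨5 :: [4, 3, 2, 5, 5, 3, 3, 4, 5, 4, 3, 2, 5, 5, 3, 2, 5, 5, 2, 3, 3, 4, 5, 4, 3, 2, 5, 5, 2, 2, 3, 3, 4, 5, 4, 2, 2, 3, 3, 4, 5, 4, 3, 3, 4, 5, 4, 3, 2, 5, 5, 3, 2, 5, 5, 2, 3, 3, 4], [5, 5, 2, 4, 2, 5, 3, 4, 3, 4, 4, 3, 5, 5, 2], 2, false⟩) (lall (memL L) [4, 3, 2, 5, 5, 3, 3, 4, 5, 4, 3, 2, 5, 5, 3, 2, 5, 5, 2, 3, 3, 4, 5, 4, 3, 2, 5, 5, 2, 2, 3, 3, 4, 5, 4, 2, 2, 3, 3, 4, 5, 4, 3, 3, 4, 5,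 4, 3, 2, 5, 5, 3, 2, 5, 5, 2, 3, 3, 4]) = true := by decide +kernel

theorem rot5_110 : T.rot 5 [2, 2, 3, 3, 4, 5, 4, 2, 2, 3, 3, 4, 5, 4, 3, 3, 4, 5, 4, 3, 2, 5, 5, 3, 2, 5, 5, 2, 3, 3, 4, 5, 4, 3, 2, 5, 5, 3, 3, 4, 5, 4, 3, 2, 5, 5, 3, 2, 5, 5, 2, 3, 3, 4, 5, 4, 3, 2, 5] (sel (ones 1755) ip5 110) = true := by decide +kernel

theorem rot5_110r : band (Rule.ok (2 * 1) EX RL ⟨5 :: [2, 2, 3, 3, 4, 5, 4, 2, 2, 3, 3, 4, 5, 4, 3, 3, 4, 5, 4, 3, 2, 5, 5, 3, 2, 5, 5, 2, 3, 3, 4, 5, 4, 3, 2, 5, 5, 3, 3, 4, 5, 4, 3, 2, 5, 5, 3, 2, 5, 5, 2, 3, 3, 4, 5, 4, 3, 2, 5], [3, 5, 3, 4, 4, 2, 5, 3, 4, 4, 2, 2, 5], 2, false⟩) (lall (memL L) [2, 2, 3, 3, 4, 5, 4, 2, 2, 3, 3, 4, 5, 4, 3, 3, 4, 5, 4, 3, 2, 5, 5, 3, 2, 5, 5, 2, 3, 3, 4, 5,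 4, 3, 2, 5, 5, 3, 3, 4, 5, 4, 3, 2, 5, 5, 3, 2, 5, 5, 2, 3, 3, 4, 5, 4, 3, 2, 5]) = true := by decide +kernel

theorem rot5_111 : T.rot 5 [5, 4, 4, 3, 3, 4, 5, 4, 3, 2, 5, 5, 3, 2, 5, 5, 2, 2, 3, 3, 4, 5, 4, 3, 3, 4, 5, 2, 3, 2, 5, 5, 4, 3, 3, 4, 5, 3, 3, 4, 5, 2, 3, 2, 5, 5, 2, 3, 3, 4, 5, 4, 3, 2, 5, 5, 2, 3, 2] (sel (ones 1755) ip5 111) = true := by decide +kernel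

theorem rot5_111r : band (Rule.ok (2 * 1) EX RL ⟨5 :: [5, 4, 4, 3, 3, 4, 5, 4, 3, 2, 5, 5, 3, 2, 5, 5, 2, 2, 3, 3, 4, 5, 4, 3, 3, 4, 5, 2, 3, 2, 5, 5, 4, 3, 3, 4, 5, 3, 3, 4, 5, 2, 3, 2, 5, 5, 2, 3, 3, 4, 5, 4, 3, 2, 5, 5, 2, 3, 2], [3, 5, 3], 3, true⟩) (lall (memL L) [5, 4, 4, 3, 3, 4, 5, 4, 3, 2, 5, 5, 3, 2, 5, 5, 2, 2, 3, 3, 4, 5, 4, 3, 3, 4, 5, 2, 3, 2, 5, 5, 4, 3, 3, 4, 5, 3, 3, 4, 5, 2, 3, 2, 5, 5, 2, 3, 3, 4, 5, 4, 3, 2, 5, 5, 2, 3, 2]) = true := by decide +kernel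

theorem rot5_112 : T.rot 5 [5, 2, 2, 3, 3, 4, 5, 4, 3, 3, 4, 5, 2, 3, 2, 5, 5, 4, 3, 3, 4, 5, 3, 3, 4, 5, 2, 3, 2, 5, 5, 2, 3, 3, 4, 5, 4, 3, 2, 5, 5, 2, 3, 2, 5, 5, 4, 4, 3, 3, 4, 5, 4, 3, 2, 5, 5, 3, 2] (sel (ones 1755) ip5 112) = true := by decide +kernel

theorem rot5_112r : band (Rule.ok (2 * 1) EX RL ⟨5 :: [5, 2, 2, 3, 3, 4, 5, 4, 3, 3, 4, 5, 2, 3, 2, 5, 5, 4, 3, 3, 4, 5, 3, 3, 4, 5, 2, 3, 2, 5, 5, 2, 3, 3, 4, 5, 4, 3, 2, 5, 5, 2, 3, 2, 5, 5, 4, 4, 3, 3, 4, 5, 4, 3, 2, 5, 5, 3, 2], [3, 5, 3, 4, 4, 2, 2, 5, 5, 2, 4, 2, 5, 3, 4, 3], 3, true⟩) (lall (memL L) [5, 2, 2, 3, 3, 4, 5, 4, 3, 3, 4, 5, 2, 3, 2, 5, 5, 4, 3, 3, 4, 5, 3, 3, 4, 5, 2, 3, 2, 5, 5, 2, 3, 3, 4, 5, 4, 3, 2, 5, 5, 2, 3, 2, 5, 5, 4, 4, 3, 3, 4, 5,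 4, 3, 2, 5, 5, 3, 2]) = true := by decide +kernel

theorem rot5_113 : T.rot 5 [2, 3, 3, 4, 5, 4, 3, 2, 5, 5, 2, 3, 2, 5, 5, 4, 4, 3, 3, 4, 5, 4, 3, 2, 5, 5, 3, 2, 5, 5, 2, 2, 3, 3, 4, 5, 4, 3, 3, 4, 5, 2, 3, 2, 5, 5, 4, 3, 3, 4, 5, 3, 3, 4, 5, 2, 3, 2, 5] (sel (ones 1755) ip5 113) = true := by decide +kernel

theorem rot5_113r : band (Rule.ok (2 * 1) EX RL ⟨5 :: [2, 3, 3, 4, 5, 4, 3, 2, 5, 5, 2, 3, 2, 5, 5, 4, 4, 3, 3, 4, 5, 4, 3, 2, 5, 5, 3, 2, 5, 5, 2, 2, 3, 3, 4, 5, 4, 3, 3, 4, 5, 2, 3, 2, 5, 5, 4, 3, 3, 4, 5, 3, 3, 4, 5, 2, 3, 2, 5], [5, 5, 2, 4, 3, 5, 3, 4, 4, 2, 5], 3, true⟩) (lall (memL L) [2, 3, 3, 4, 5, 4, 3, 2, 5, 5, 2, 3, 2, 5, 5, 4, 4, 3, 3, 4, 5, 4, 3, 2, 5, 5, 3, 2, 5, 5, 2, 2, 3, 3, 4, 5, 4, 3, 3, 4,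 5, 2, 3, 2, 5, 5, 4, 3, 3, 4, 5, 3, 3, 4, 5, 2, 3, 2, 5]) = true := by decide +kernel

theorem rot5_114 : T.rot 5 [5, 4, 3, 3, 4, 5, 4, 3, 2, 5, 5, 3, 2, 5, 5, 2, 3, 3, 4, 5, 4, 3, 2, 5, 5, 2, 3, 2, 5, 5, 4, 4, 3, 3, 4, 5, 3, 3, 4, 5, 2, 3, 2, 5, 5, 2, 2, 3, 3, 4, 5, 4, 3, 3, 4, 5, 2, 3, 2] (sel (ones 1755) ip5 114) = true := by decide +kernel

theorem rot5_114r : band (Rule.ok (2 * 1) EX RL ⟨5 :: [5, 4, 3, 3, 4, 5, 4, 3, 2, 5, 5, 3, 2, 5, 5, 2, 3, 3, 4, 5, 4, 3, 2, 5, 5, 2, 3, 2, 5, 5, 4, 4, 3, 3, 4, 5, 3, 3, 4, 5, 2, 3, 2, 5, 5, 2, 2, 3, 3, 4, 5, 4, 3, 3, 4, 5, 2, 3, 2], [5, 5, 2, 4, 3, 5, 3], 3, false⟩) (lall (memL L) [5, 4, 3, 3, 4, 5, 4, 3, 2, 5, 5, 3, 2, 5, 5, 2, 3, 3, 4, 5, 4, 3, 2, 5, 5, 2, 3, 2, 5, 5, 4, 4,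 3, 3, 4, 5, 3, 3, 4, 5, 2, 3, 2, 5, 5, 2, 2, 3, 3, 4, 5, 4, 3, 3, 4, 5, 2, 3, 2]) = true := by decide +kernel

theorem rot5_115 : T.rot 5 [5, 3, 2, 5, 5, 2, 3, 3, 4, 5, 4, 3, 2, 5, 5, 2, 3, 2, 5, 5, 4, 4, 3, 3, 4, 5, 3, 3, 4, 5, 2, 3, 2, 5, 5, 2, 2, 3, 3, 4, 5, 4, 3, 3, 4, 5, 2, 3, 2, 5, 5, 4, 3, 3, 4, 5, 4, 3, 2] (sel (ones 1755) ip5 115) = true := by decide +kernel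

theorem rot5_115r : band (Rule.ok (2 * 1) EX RL ⟨5 :: [5, 3, 2, 5, 5, 2, 3, 3, 4, 5, 4, 3, 2, 5, 5, 2, 3, 2, 5, 5, 4, 4, 3, 3, 4, 5, 3, 3, 4, 5, 2, 3, 2, 5, 5, 2, 2, 3, 3, 4, 5, 4, 3, 3, 4, 5, 2, 3, 2, 5, 5, 4, 3, 3, 4, 5, 4, 3, 2], [5, 5, 2, 4, 3, 5, 3, 4, 4, 2, 5, 5, 2, 4, 2, 5, 3], 3, false⟩) (lall (memL L) [5, 3, 2, 5, 5, 2, 3, 3, 4, 5, 4, 3, 2, 5, 5, 2, 3, 2, 5, 5, 4, 4, 3, 3, 4, 5, 3, 3, 4, 5, 2, 3, 2, 5, 5, 2, 2, 3, 3, 4, 5, 4, 3, 3, 4, 5, 2, 3, 2, 5, 5, 4, 3, 3, 4, 5, 4, 3, 2]) = true := by decide +kernel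

theorem rot5_116 : T.rot 5 [2, 3, 2, 5, 5, 4, 4, 3, 3, 4, 5, 3, 3, 4, 5, 2, 3, 2, 5, 5, 2, 2, 3, 3, 4, 5, 4, 3, 3, 4, 5, 2, 3, 2, 5, 5, 4, 3, 3, 4, 5, 4, 3, 2, 5, 5, 3, 2, 5, 5, 2, 3, 3, 4, 5, 4, 3, 2, 5] (sel (ones 1755) ip5 116) = true := by decide +kernel

theorem rot5_116r : band (Rule.ok (2 * 1) EX RL ⟨5 :: [2, 3, 2, 5, 5, 4, 4, 3, 3, 4, 5, 3, 3, 4, 5, 2, 3, 2, 5, 5, 2, 2, 3, 3, 4, 5, 4, 3, 3, 4, 5, 2, 3, 2, 5, 5, 4, 3, 3, 4, 5, 4, 3, 2, 5, 5, 3, 2, 5, 5, 2, 3, 3, 4, 5, 4, 3, 2, 5], [3, 5, 3, 4, 4, 2, 2, 5, 5, 2, 4, 2, 5, 3, 4, 3, 4, 4, 3, 3, 5, 5, 2, 4, 2, 5], 3, false⟩) (lall (memL L) [2, 3, 2, 5, 5, 4, 4, 3, 3, 4, 5, 3, 3, 4, 5, 2, 3, 2, 5, 5, 2, 2, 3, 3, 4, 5, 4, 3, 3, 4, 5, 2, 3, 2, 5, 5, 4, 3, 3, 4, 5, 4,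 3, 2, 5, 5, 3, 2, 5, 5, 2, 3, 3, 4, 5, 4, 3, 2, 5]) = true := by decide +kernel

theorem rot5_117 : T.rot 5 [5, 4, 4, 3, 3, 4, 5, 3, 3, 4, 5, 2, 3, 2, 5, 5, 2, 2, 3, 3, 4, 5, 4, 3, 3, 4, 5, 2, 3, 2, 5, 5, 4, 3, 3, 4, 5, 4, 3, 2, 5, 5, 3, 2, 5, 5, 2, 3, 3, 4, 5, 4, 3, 2, 5, 5, 2, 3, 2] (sel (ones 1755) ip5 117) = true := by decide +kernel

theorem rot5_117r : band (Rule.ok (2 * 1) EX RL ⟨5 :: [5, 4, 4, 3, 3, 4, 5, 3, 3, 4, 5, 2, 3, 2, 5, 5, 2, 2, 3, 3, 4, 5, 4, 3, 3, 4, 5, 2, 3, 2, 5, 5, 4, 3, 3, 4, 5, 4, 3, 2, 5, 5, 3, 2, 5, 5, 2, 3, 3, 4, 5, 4, 3, 2, 5, 5, 2, 3, 2], [3, 5, 3, 4, 4, 2, 2, 5, 5, 2, 4, 2, 5, 3, 4, 3, 4, 4, 3, 3, 5, 5], 3, false⟩) (lall (memL L) [5, 4, 4, 3, 3, 4, 5, 3, 3, 4, 5, 2, 3, 2, 5, 5, 2, 2, 3,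 3, 4, 5, 4, 3, 3, 4, 5, 2, 3, 2, 5, 5, 4, 3, 3, 4, 5, 4, 3, 2, 5, 5, 3, 2, 5, 5, 2, 3, 3, 4, 5, 4, 3, 2, 5, 5, 2, 3, 2]) = true := by decide +kernel

theorem rot5_118 : T.rot 5 [5, 4, 4, 2, 3, 3, 4, 5, 4, 3, 2, 5, 5, 3, 3, 4, 5, 4, 3, 2, 5, 5, 3, 2, 5, 5, 3, 3, 4, 5, 2, 3, 2, 5, 5, 4, 2, 2, 3, 3, 4, 5, 4, 3, 3, 4, 5, 3, 3, 4, 5, 2, 3, 2, 5, 5, 2, 3, 2] (sel (ones 1755) ip5 118) = true := by decide +kernel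

theorem rot5_118r : band (Rule.ok (2 * 1) EX RL ⟨5 :: [5, 4, 4, 2, 3, 3, 4, 5, 4, 3, 2, 5, 5, 3, 3, 4, 5, 4, 3, 2, 5, 5, 3, 2, 5, 5, 3, 3, 4, 5, 2, 3, 2, 5, 5, 4, 2, 2, 3, 3, 4, 5, 4, 3, 3, 4, 5, 3, 3, 4, 5, 2, 3, 2, 5, 5, 2, 3, 2], [3, 5, 3], 5, true⟩) (lall (memL L) [5, 4, 4, 2, 3, 3, 4, 5, 4, 3, 2, 5, 5, 3, 3, 4, 5, 4, 3, 2, 5, 5, 3, 2, 5, 5, 3, 3, 4, 5, 2, 3, 2, 5, 5, 4, 2, 2, 3, 3, 4, 5, 4, 3, 3, 4, 5, 3, 3, 4, 5, 2, 3, 2, 5, 5, 2, 3, 2]) = true := by decide +kernel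

theorem rot5_119 : T.rot 5 [4, 4, 2, 3, 3, 4, 5, 4, 3, 2, 5, 5, 3, 3, 4, 5, 4, 3, 2, 5, 5, 3, 2, 5, 5, 3, 3, 4, 5, 2, 3, 2, 5, 5, 4, 2, 2, 3, 3, 4, 5, 4, 3, 3, 4, 5, 3, 3, 4, 5, 2, 3, 2, 5, 5, 2, 3, 2, 5] (sel (ones 1755) ip5 119) = true := by decide +kernel

theorem rot5_119r : band (Rule.ok (2 * 1) EX RL ⟨5 :: [4, 4, 2, 3, 3, 4, 5, 4, 3, 2, 5, 5, 3, 3, 4, 5, 4, 3, 2, 5, 5, 3, 2, 5, 5, 3, 3, 4, 5, 2, 3, 2, 5, 5, 4, 2, 2, 3, 3, 4, 5, 4, 3, 3, 4, 5, 3, 3, 4, 5, 2, 3, 2, 5, 5, 2, 3, 2, 5], [3, 5, 3, 4], 5, true⟩) (lall (memL L) [4, 4, 2, 3, 3, 4, 5, 4, 3, 2, 5, 5, 3, 3, 4, 5, 4, 3, 2, 5, 5, 3, 2, 5, 5, 3, 3, 4, 5, 2, 3, 2, 5, 5, 4, 2, 2, 3, 3, 4, 5, 4, 3, 3, 4, 5, 3, 3, 4, 5, 2, 3, 2, 5, 5, 2, 3, 2, 5]) = true := by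 decide +kernel

theorem rot5_120 : T.rot 5 [5, 4, 2, 2, 3, 3, 4, 5, 4, 3, 3, 4, 5, 3, 3, 4, 5, 2, 3, 2, 5, 5, 2, 3, 2, 5, 5, 4, 4, 2, 3, 3, 4, 5, 4, 3, 2, 5, 5, 3, 3, 4, 5, 4, 3, 2, 5, 5, 3, 2, 5, 5, 3, 3, 4, 5, 2, 3, 2] (sel (ones 1755) ip5 120) = true := by decide +kernel

theorem rot5_120r : band (Rule.ok (2 * 1) EX RL ⟨5 :: [5, 4, 2, 2, 3, 3, 4, 5, 4, 3, 3, 4, 5, 3, 3, 4, 5, 2, 3, 2, 5, 5, 2, 3, 2, 5, 5, 4, 4, 2, 3, 3, 4, 5, 4, 3, 2, 5, 5, 3, 3, 4, 5, 4, 3, 2, 5, 5, 3, 2, 5, 5, 3, 3, 4, 5, 2, 3, 2], [5, 5, 2, 4, 2, 5, 3, 4, 3, 4, 4, 3, 5, 3, 4, 4, 2, 5, 5], 5, true⟩) (lall (memL L) [5, 4, 2, 2, 3, 3, 4, 5, 4, 3, 3, 4, 5, 3, 3, 4, 5, 2, 3, 2, 5, 5, 2, 3, 2, 5, 5, 4, 4, 2, 3, 3, 4, 5, 4, 3, 2, 5, 5, 3, 3, 4, 5, 4,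 3, 2, 5, 5, 3, 2, 5, 5, 3, 3, 4, 5, 2, 3, 2]) = true := by decide +kernel

theorem rot5_121 : T.rot 5 [4, 3, 3, 4, 5, 3, 3, 4, 5, 2, 3, 2, 5, 5, 2, 3, 2, 5, 5, 4, 4, 2, 3, 3, 4, 5, 4, 3, 2, 5, 5, 3, 3, 4, 5, 4, 3, 2, 5, 5, 3, 2, 5, 5, 3, 3, 4, 5, 2, 3, 2, 5, 5, 4, 2, 2, 3, 3, 4] (sel (ones 1755) ip5 121) = true := by decide +kernel

theorem rot5_121r : band (Rule.ok (2 * 1) EX RL ⟨5 :: [4, 3, 3, 4, 5, 3, 3, 4, 5, 2, 3, 2, 5, 5, 2, 3, 2, 5, 5, 4, 4, 2, 3, 3, 4, 5, 4, 3, 2, 5, 5, 3, 3, 4, 5, 4, 3, 2, 5, 5, 3, 2, 5, 5, 3, 3, 4, 5, 2, 3, 2, 5, 5, 4, 2, 2, 3, 3, 4], [5, 5, 2, 4, 2, 5, 3, 4, 3, 4, 4, 3, 5], 5, true⟩) (lall (memL L) [4, 3, 3, 4, 5, 3, 3, 4, 5, 2, 3, 2, 5, 5, 2, 3, 2, 5, 5, 4, 4, 2, 3, 3, 4, 5, 4, 3, 2, 5,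 5, 3, 3, 4, 5, 4, 3, 2, 5, 5, 3, 2, 5, 5, 3, 3, 4, 5, 2, 3, 2, 5, 5, 4, 2, 2, 3, 3, 4]) = true := by decide +kernel

theorem rot5_122 : T.rot 5 [5, 2, 3, 2, 5, 5, 4, 4, 2, 3, 3, 4, 5, 4, 3, 2, 5, 5, 3, 3, 4, 5, 4, 3, 2, 5, 5, 3, 2, 5, 5, 3, 3, 4, 5, 2, 3, 2, 5, 5, 4, 2, 2, 3, 3, 4, 5, 4, 3, 3, 4, 5, 3, 3, 4, 5, 2, 3, 2] (sel (ones 1755) ip5 122) = true := by decide +kernel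

theorem rot5_122r : band (Rule.ok (2 * 1) EX RL ⟨5 :: [5, 2, 3, 2, 5, 5, 4, 4, 2, 3, 3, 4, 5, 4, 3, 2, 5, 5, 3, 3, 4, 5, 4, 3, 2, 5, 5, 3, 2, 5, 5, 3, 3, 4, 5, 2, 3, 2, 5, 5, 4, 2, 2, 3, 3, 4, 5, 4, 3, 3, 4, 5, 3, 3, 4, 5, 2, 3, 2], [5, 5], 5, true⟩) (lall (memL L) [5, 2, 3, 2, 5, 5, 4, 4, 2, 3, 3, 4, 5, 4, 3, 2, 5, 5, 3, 3, 4, 5, 4, 3, 2, 5, 5, 3, 2, 5, 5, 3, 3, 4, 5, 2, 3, 2, 5, 5, 4, 2, 2, 3, 3, 4, 5, 4, 3, 3, 4, 5, 3, 3, 4, 5, 2, 3, 2]) = true := by decide +kernel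

theorem rot5_123 : T.rot 5 [2, 3, 2, 5, 5, 4, 4, 2, 3, 3, 4, 5, 4, 3, 2, 5, 5, 3, 3, 4, 5, 4, 3, 2, 5, 5, 3, 2, 5, 5, 3, 3, 4, 5, 2, 3, 2, 5, 5, 4, 2, 2, 3, 3, 4, 5, 4, 3, 3, 4, 5, 3, 3, 4, 5, 2, 3, 2, 5] (sel (ones 1755) ip5 123) = true := by decide +kernel

theorem rot5_123r : band (Rule.ok (2 * 1) EX RL ⟨5 :: [2, 3, 2, 5, 5, 4, 4, 2, 3, 3, 4, 5, 4, 3, 2, 5, 5, 3, 3, 4, 5, 4, 3, 2, 5, 5, 3, 2, 5, 5, 3, 3, 4, 5, 2, 3, 2, 5, 5, 4, 2, 2, 3, 3, 4, 5, 4, 3, 3, 4, 5, 3, 3, 4, 5, 2, 3, 2, 5], [5], 5, true⟩) (lall (memL L) [2, 3, 2, 5, 5, 4, 4, 2, 3, 3, 4, 5, 4, 3, 2, 5, 5, 3, 3, 4, 5, 4, 3, 2, 5, 5, 3, 2, 5, 5, 3, 3, 4, 5, 2, 3, 2, 5, 5, 4, 2, 2, 3, 3, 4, 5, 4, 3, 3, 4, 5, 3, 3, 4, 5, 2, 3, 2, 5]) = true := by decide +kernel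

theorem rot5_124 : T.rot 5 [5, 2, 3, 2, 5, 5, 4, 4, 2, 3, 3, 4, 5, 4, 3, 2, 5, 5, 3, 3, 4, 5, 3, 3, 4, 5, 2, 3, 2, 5, 5, 3, 3, 4, 5, 2, 3, 2, 5, 5, 4, 2, 2, 3, 3, 4, 5, 4, 3, 3, 4, 5, 4, 3, 2, 5, 5, 3, 2] (sel (ones 1755) ip5 124) = true := by decide +kernel

theorem rot5_124r : band (Rule.ok (2 * 1) EX RL ⟨5 :: [5, 2, 3, 2, 5, 5, 4, 4, 2, 3, 3, 4, 5, 4, 3, 2, 5, 5, 3, 3, 4, 5, 3, 3, 4, 5, 2, 3, 2, 5, 5, 3, 3, 4, 5, 2, 3, 2, 5, 5, 4, 2, 2, 3, 3, 4, 5, 4, 3, 3, 4, 5, 4, 3, 2, 5, 5, 3, 2], [5, 5, 2, 4, 2, 5, 3, 4, 3], 5, false⟩) (lall (memL L) [5, 2, 3, 2, 5, 5, 4, 4, 2, 3, 3, 4, 5, 4, 3, 2, 5, 5, 3, 3, 4, 5, 3, 3, 4, 5, 2, 3, 2, 5, 5, 3, 3, 4, 5, 2, 3, 2, 5, 5, 4, 2, 2, 3, 3, 4, 5, 4, 3, 3, 4, 5, 4, 3, 2, 5, 5, 3, 2])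 = true := by decide +kernel

theorem rot5_125 : T.rot 5 [5, 4, 4, 2, 3, 3, 4, 5, 4, 3, 2, 5, 5, 3, 3, 4, 5, 3, 3, 4, 5, 2, 3, 2, 5, 5, 3, 3, 4, 5, 2, 3, 2, 5, 5, 4, 2, 2, 3, 3, 4, 5, 4, 3, 3, 4, 5, 4, 3, 2, 5, 5, 3, 2, 5, 5, 2, 3, 2] (sel (ones 1755) ip5 125) = true := by decide +kernel

theorem rot5_125r : band (Rule.ok (2 * 1) EX RL ⟨5 :: [5, 4, 4, 2, 3, 3, 4, 5, 4, 3, 2, 5, 5, 3, 3, 4, 5, 3, 3, 4, 5, 2, 3, 2, 5, 5, 3, 3, 4, 5, 2, 3, 2, 5, 5, 4, 2, 2, 3, 3, 4, 5, 4, 3, 3, 4, 5, 4, 3, 2, 5, 5, 3, 2, 5, 5, 2, 3, 2], [5, 5, 2, 4, 2, 5, 3, 4, 3, 4, 4, 3, 5, 3], 5, false⟩) (lall (memL L) [5, 4, 4, 2, 3, 3, 4, 5, 4, 3, 2, 5, 5, 3, 3, 4, 5, 3, 3, 4, 5, 2, 3, 2, 5, 5, 3, 3, 4, 5, 2, 3, 2, 5, 5, 4, 2, 2, 3, 3, 4, 5, 4, 3,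 3, 4, 5, 4, 3, 2, 5, 5, 3, 2, 5, 5, 2, 3, 2]) = true := by decide +kernel

theorem rot5_126 : T.rot 5 [4, 4, 2, 3, 3, 4, 5, 4, 3, 2, 5, 5, 3, 3, 4, 5, 3, 3, 4, 5, 2, 3, 2, 5, 5, 3, 3, 4, 5, 2, 3, 2, 5, 5, 4, 2, 2, 3, 3, 4, 5, 4, 3, 3, 4, 5, 4, 3, 2, 5, 5, 3, 2, 5, 5, 2, 3, 2, 5] (sel (ones 1755) ip5 126) = true := by decide +kernel

theorem rot5_126r : band (Rule.ok (2 * 1) EX RL ⟨5 :: [4, 4, 2, 3, 3, 4, 5, 4, 3, 2, 5, 5, 3, 3, 4, 5, 3, 3, 4, 5, 2, 3, 2, 5, 5, 3, 3, 4, 5, 2, 3, 2, 5, 5, 4, 2, 2, 3, 3, 4, 5, 4, 3, 3, 4, 5, 4, 3, 2, 5, 5, 3, 2, 5, 5, 2, 3, 2, 5], [5, 5, 2, 4, 2, 5, 3, 4, 3, 4, 4, 3, 5, 3, 4], 5, false⟩) (lall (memL L) [4, 4, 2, 3, 3, 4, 5, 4, 3, 2, 5, 5, 3, 3, 4, 5, 3, 3, 4, 5, 2, 3, 2, 5, 5, 3, 3, 4,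 5, 2, 3, 2, 5, 5, 4, 2, 2, 3, 3, 4, 5, 4, 3, 3, 4, 5, 4, 3, 2, 5, 5, 3, 2, 5, 5, 2, 3, 2, 5]) = true := by decide +kernel

theorem rot5_127 : T.rot 5 [4, 3, 2, 5, 5, 3, 3, 4, 5, 3, 3, 4, 5, 2, 3, 2, 5, 5, 3, 3, 4, 5, 2, 3, 2, 5, 5, 4, 2, 2, 3, 3, 4, 5, 4, 3, 3, 4, 5, 4, 3, 2, 5, 5, 3, 2, 5, 5, 2, 3, 2, 5, 5, 4, 4, 2, 3, 3, 4] (sel (ones 1755) ip5 127) = true := by decide +kernel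

theorem rot5_127r : band (Rule.ok (2 * 1) EX RL ⟨5 :: [4, 3, 2, 5, 5, 3, 3, 4, 5, 3, 3, 4, 5, 2, 3, 2, 5, 5, 3, 3, 4, 5, 2, 3, 2, 5, 5, 4, 2, 2, 3, 3, 4, 5, 4, 3, 3, 4, 5, 4, 3, 2, 5, 5, 3, 2, 5, 5, 2, 3, 2, 5, 5, 4, 4, 2, 3, 3, 4], [3, 5, 3, 4, 4, 2, 5, 5, 2, 4, 2, 2, 5, 3, 4, 4, 3, 5], 5, false⟩) (lall (memL L) [4, 3, 2, 5, 5, 3, 3, 4, 5, 3, 3, 4, 5, 2, 3, 2, 5, 5, 3, 3, 4, 5, 2, 3, 2, 5, 5, 4, 2, 2, 3, 3, 4, 5, 4, 3, 3, 4, 5, 4, 3, 2, 5, 5, 3, 2, 5, 5, 2, 3, 2, 5, 5, 4, 4, 2, 3, 3, 4]) = true := by decide +kernel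

theorem rot5_128 : T.rot 5 [2, 3, 2, 5, 5, 3, 3, 4, 5, 2, 3, 2, 5, 5, 4, 2, 2, 3, 3, 4, 5, 4, 3, 3, 4, 5, 4, 3, 2, 5, 5, 3, 2, 5, 5, 2, 3, 2, 5, 5, 4, 4, 2, 3, 3, 4, 5, 4, 3, 2, 5, 5, 3, 3, 4, 5, 3, 3, 4] (sel (ones 1755) ip5 128) = true := by decide +kernel

theorem rot5_128r : band (Rule.ok (2 * 1) EX RL ⟨5 :: [2, 3, 2, 5, 5, 3, 3, 4, 5, 2, 3, 2, 5, 5, 4, 2, 2, 3, 3, 4, 5, 4, 3, 3, 4, 5, 4, 3, 2, 5, 5, 3, 2, 5, 5, 2, 3, 2, 5, 5, 4, 4, 2, 3, 3, 4, 5, 4, 3, 2, 5, 5, 3, 3, 4, 5, 3, 3, 4], [3, 5, 3, 4, 4, 2, 5, 5, 2, 4, 2, 2, 5], 5, false⟩) (lall (memL L) [2, 3, 2, 5, 5, 3, 3, 4, 5, 2, 3, 2, 5, 5, 4, 2, 2, 3, 3, 4, 5, 4, 3, 3, 4, 5, 4, 3, 2, 5, 5, 3, 2, 5, 5, 2, 3, 2, 5, 5, 4, 4, 2, 3, 3, 4, 5, 4, 3, 2, 5, 5, 3, 3, 4,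 5, 3, 3, 4]) = true := by decide +kernel

theorem rot5_129 : T.rot 5 [4, 3, 3, 4, 5, 4, 3, 2, 5, 5, 3, 2, 5, 5, 2, 3, 2, 5, 5, 4, 4, 2, 3, 3, 4, 5, 4, 3, 2, 5, 5, 3, 3, 4, 5, 3, 3, 4, 5, 2, 3, 2, 5, 5, 3, 3, 4, 5, 2, 3, 2, 5, 5, 4, 2, 2, 3, 3, 4] (sel (ones 1755) ip5 129) = true := by decide +kernel

theorem rot5_129r : band (Rule.ok (2 * 1) EX RL ⟨5 :: [4, 3, 3, 4, 5, 4, 3, 2, 5, 5, 3, 2, 5, 5, 2, 3, 2, 5, 5, 4, 4, 2, 3, 3, 4, 5, 4, 3, 2, 5, 5, 3, 3, 4, 5, 3, 3, 4, 5, 2, 3, 2, 5, 5, 3, 3, 4, 5, 2, 3, 2, 5, 5, 4, 2, 2, 3, 3, 4], [3, 5], 5, false⟩) (lall (memL L) [4, 3, 3, 4, 5, 4, 3, 2, 5, 5, 3, 2, 5, 5, 2, 3, 2, 5, 5, 4, 4, 2, 3, 3, 4, 5, 4, 3, 2, 5, 5, 3, 3, 4, 5, 3, 3, 4, 5, 2, 3, 2, 5, 5, 3, 3, 4, 5, 2, 3, 2, 5,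 5, 4, 2, 2, 3, 3, 4]) = true := by decide +kernel

theorem rot5_130 : T.rot 5 [5, 4, 4, 3, 3, 4, 5, 2, 3, 2, 5, 5, 4, 3, 3, 4, 5, 3, 3, 4, 5, 2, 3, 2, 5, 5, 2, 3, 2, 5, 5, 4, 4, 3, 3, 4, 5, 2, 3, 2, 5, 5, 4, 3, 3, 4, 5, 3, 3, 4, 5, 2, 3, 2, 5, 5, 2, 3, 2] (sel (ones 1755) ip5 130) = true := by decide +kernel

theorem rot5_130r : band (Rule.ok (2 * 1) EX RL ⟨5 :: [5, 4, 4, 3, 3, 4, 5, 2, 3, 2, 5, 5, 4, 3, 3, 4, 5, 3, 3, 4, 5, 2, 3, 2, 5, 5, 2, 3, 2, 5, 5, 4, 4, 3, 3, 4, 5, 2, 3, 2, 5, 5, 4, 3, 3, 4, 5, 3, 3, 4, 5, 2, 3, 2, 5, 5, 2, 3, 2], [3, 5, 3], 6, true⟩) (lall (memL L) [5, 4, 4, 3, 3, 4, 5, 2, 3, 2, 5, 5, 4, 3, 3, 4, 5, 3, 3, 4, 5, 2, 3, 2, 5, 5, 2, 3, 2, 5, 5, 4, 4, 3, 3, 4, 5, 2, 3, 2, 5, 5, 4, 3, 3, 4, 5, 3,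 3, 4, 5, 2, 3, 2, 5, 5, 2, 3, 2]) = true := by decide +kernel

theorem rot5_131 : T.rot 5 [4, 3, 3, 4, 5, 3, 3, 4, 5, 2, 3, 2, 5, 5, 2, 3, 2, 5, 5, 4, 4, 3, 3, 4, 5, 2, 3, 2, 5, 5, 4, 3, 3, 4, 5, 3, 3, 4, 5, 2, 3, 2, 5, 5, 2, 3, 2, 5, 5, 4, 4, 3, 3, 4, 5, 2, 3, 2, 5] (sel (ones 1755) ip5 131) = true := by decide +kernel

theorem rot5_131r : band (Rule.ok (2 * 1) EX RL ⟨5 :: [4, 3, 3, 4, 5, 3, 3, 4, 5, 2, 3, 2, 5, 5, 2, 3, 2, 5, 5, 4, 4, 3, 3, 4, 5, 2, 3, 2, 5, 5, 4, 3, 3, 4, 5, 3, 3, 4, 5, 2, 3, 2, 5, 5, 2, 3, 2, 5, 5, 4, 4, 3, 3, 4, 5, 2, 3, 2, 5], [5, 5, 2, 4, 2, 5, 3, 4, 3, 4, 4, 3, 5], 6, true⟩) (lall (memL L) [4, 3, 3, 4, 5, 3, 3, 4, 5, 2, 3, 2, 5, 5, 2, 3, 2, 5, 5, 4, 4, 3, 3, 4, 5, 2, 3, 2, 5, 5, 4, 3, 3, 4,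 5, 3, 3, 4, 5, 2, 3, 2, 5, 5, 2, 3, 2, 5, 5, 4, 4, 3, 3, 4, 5, 2, 3, 2, 5]) = true := by decide +kernel

theorem rot5_132 : T.rot 5 [5, 2, 3, 2, 5, 5, 4, 4, 3, 3, 4, 5, 2, 3, 2, 5, 5, 4, 3, 3, 4, 5, 3, 3, 4, 5, 2, 3, 2, 5, 5, 2, 3, 2, 5, 5, 4, 4, 3, 3, 4, 5, 2, 3, 2, 5, 5, 4, 3, 3, 4, 5, 3, 3, 4, 5, 2, 3, 2] (sel (ones 1755) ip5 132) = true := by decide +kernel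

theorem rot5_132r : band (Rule.ok (2 * 1) EX RL ⟨5 :: [5, 2, 3, 2, 5, 5, 4, 4, 3, 3, 4, 5, 2, 3, 2, 5, 5, 4, 3, 3, 4, 5, 3, 3, 4, 5, 2, 3, 2, 5, 5, 2, 3, 2, 5, 5, 4, 4, 3, 3, 4, 5, 2, 3, 2, 5, 5, 4, 3, 3, 4, 5, 3, 3, 4, 5, 2, 3, 2], [5, 5], 6, true⟩) (lall (memL L) [5, 2, 3, 2, 5, 5, 4, 4, 3, 3, 4, 5, 2, 3, 2, 5, 5, 4, 3, 3, 4, 5, 3, 3, 4, 5, 2, 3, 2, 5, 5, 2, 3, 2, 5, 5, 4, 4, 3, 3, 4, 5, 2, 3, 2, 5, 5, 4, 3, 3, 4, 5, 3, 3, 4, 5, 2, 3, 2]) = true := by decide +kernel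

theorem rot5_133 : T.rot 5 [5, 3, 2, 5, 5, 2, 3, 3, 4, 5, 4, 3, 2, 5, 5, 2, 2, 3, 3, 4, 5, 4, 3, 3, 4, 5, 4, 3, 2, 5, 5, 3, 2, 5, 5, 2, 3, 3, 4, 5, 4, 3, 2, 5, 5, 2, 2, 3, 3, 4, 5, 4, 3, 3, 4, 5, 4, 3, 2] (sel (ones 1755) ip5 133) = true := by decide +kernel

theorem rot5_133r : band (Rule.ok (2 * 1) EX RL ⟨5 :: [5, 3, 2, 5, 5, 2, 3, 3, 4, 5, 4, 3, 2, 5, 5, 2, 2, 3, 3, 4, 5, 4, 3, 3, 4, 5, 4, 3, 2, 5, 5, 3, 2, 5, 5, 2, 3, 3, 4, 5, 4, 3, 2, 5, 5, 2, 2, 3, 3, 4, 5, 4, 3, 3, 4, 5, 4, 3, 2], [5, 5, 2, 4, 2, 5, 3], 6, false⟩) (lall (memL L) [5, 3, 2, 5, 5, 2, 3, 3, 4, 5, 4, 3, 2, 5, 5, 2, 2, 3, 3, 4, 5, 4, 3, 3, 4, 5, 4, 3, 2, 5, 5, 3, 2, 5, 5, 2, 3, 3, 4, 5, 4, 3, 2, 5, 5, 2, 2, 3, 3, 4, 5, 4, 3, 3, 4, 5, 4, 3, 2]) = true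 := by decide +kernel

theorem rot5_134 : T.rot 5 [5, 2, 3, 3, 4, 5, 4, 3, 2, 5, 5, 2, 2, 3, 3, 4, 5, 4, 3, 3, 4, 5, 4, 3, 2, 5, 5, 3, 2, 5, 5, 2, 3, 3, 4, 5, 4, 3, 2, 5, 5, 2, 2, 3, 3, 4, 5, 4, 3, 3, 4, 5, 4, 3, 2, 5, 5, 3, 2] (sel (ones 1755) ip5 134) = true := by decide +kernel

theorem rot5_134r : band (Rule.ok (2 * 1) EX RL ⟨5 :: [5, 2, 3, 3, 4, 5, 4, 3, 2, 5, 5, 2, 2, 3, 3, 4, 5, 4, 3, 3, 4, 5, 4, 3, 2, 5, 5, 3, 2, 5, 5, 2, 3, 3, 4, 5, 4, 3, 2, 5, 5, 2, 2, 3, 3, 4, 5, 4, 3, 3, 4, 5, 4, 3, 2, 5, 5, 3, 2], [5, 5, 2, 4, 2, 5, 3, 4, 3], 6, false⟩) (lall (memL L) [5, 2, 3, 3, 4, 5, 4, 3, 2, 5, 5, 2, 2, 3, 3, 4, 5, 4, 3, 3, 4, 5, 4, 3, 2, 5, 5, 3, 2, 5, 5, 2, 3, 3, 4, 5, 4, 3, 2, 5, 5, 2, 2, 3, 3, 4, 5, 4, 3, 3, 4, 5,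 4, 3, 2, 5, 5, 3, 2]) = true := by decide +kernel

theorem rot5_135 : T.rot 5 [5, 2, 2, 3, 3, 4, 5, 4, 3, 3, 4, 5, 4, 3, 2, 5, 5, 3, 2, 5, 5, 2, 3, 3, 4, 5, 4, 3, 2, 5, 5, 2, 2, 3, 3, 4, 5, 4, 3, 3, 4, 5, 4, 3, 2, 5, 5, 3, 2, 5, 5, 2, 3, 3, 4, 5, 4, 3, 2] (sel (ones 1755) ip5 135) = true := by decide +kernel

theorem rot5_135r : band (Rule.ok (2 * 1) EX RL ⟨5 :: [5, 2, 2, 3, 3, 4, 5, 4, 3, 3, 4, 5, 4, 3, 2, 5, 5, 3, 2, 5, 5, 2, 3, 3, 4, 5, 4, 3, 2, 5, 5, 2, 2, 3, 3, 4, 5, 4, 3, 3, 4, 5, 4, 3, 2, 5, 5, 3, 2, 5, 5, 2, 3, 3, 4, 5, 4, 3, 2], [3, 5, 3, 4, 4, 2, 2, 5, 5], 6, false⟩) (lall (memL L) [5, 2, 2, 3, 3, 4, 5, 4, 3, 3, 4, 5, 4, 3, 2, 5, 5, 3, 2, 5, 5, 2, 3, 3, 4, 5, 4, 3, 2, 5, 5, 2, 2, 3, 3, 4, 5, 4, 3, 3, 4, 5,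 4, 3, 2, 5, 5, 3, 2, 5, 5, 2, 3, 3, 4, 5, 4, 3, 2]) = true := by decide +kernel

theorem cov5 : T.cover 5 [(sel (ones 1755) ip5 1), (sel (ones 1755) ip5 2), (sel (ones 1755) ip5 3), (sel (ones 1755) ip5 4), (sel (ones 1755) ip5 5), (sel (ones 1755) ip5 6), (sel (ones 1755) ip5 7), (sel (ones 1755) ip5 8), (sel (ones 1755) ip5 9), (sel (ones 1755) ip5 10), (sel (ones 1755) ip5 11), (sel (ones 1755) ip5 12), (sel (ones 1755) ip5 13), (sel (ones 1755) ip5 14), (sel (ones 1755) ip5 15), (sel (ones 1755) ip5 16), (sel (ones 1755) ip5 17), (sel (ones 1755) ip5 18), (sel (ones 1755) ip5 19), (sel (ones 1755) ip5 20), (sel (ones 1755) ip5 21), (sel (ones 1755) ip5 22), (sel (ones 1755) ip5 23), (sel (ones 1755) ip5 24), (sel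 (ones 1755) ip5 25), (sel (ones 1755) ip5 26), (sel (ones 1755) ip5 27), (sel (ones 1755) ip5 28), (sel (ones 1755) ip5 29), (sel (ones 1755) ip5 30), (sel (ones 1755) ip5 31), (sel (ones 1755) ip5 32), (sel (ones 1755) ip5 33), (sel (ones 1755) ip5 34), (sel (ones 1755) ip5 35), (sel (ones 1755) ip5 36), (sel (ones 1755) ip5 37), (sel (ones 1755) ip5 38), (sel (ones 1755) ip5 39), (sel (ones 1755) ip5 40), (sel (ones 1755) ip5 41), (sel (ones 1755) ip5 42), (sel (ones 1755) ip5 43), (sel (ones 1755) ip5 44), (sel (ones 1755) ip5 45), (sel (ones 1755) ip5 46), (sel (ones 1755) ip5 47), (sel (ones 1755) ip5 48), (sel (ones 1755) ip5 49), (sel (ones 1755) ip5 50), (sel (ones 1755) ip5 51), (sel (ones 1755) ip5 52), (sel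 (ones 1755) ip5 53), (sel (ones 1755) ip5 54), (sel (ones 1755) ip5 55), (sel (ones 1755) ip5 56), (sel (ones 1755) ip5 57), (sel (ones 1755) ip5 58), (sel (ones 1755) ip5 59), (sel (ones 1755) ip5 60), (sel (ones 1755) ip5 61), (sel (ones 1755) ip5 62), (sel (ones 1755) ip5 63), (sel (ones 1755) ip5 64), (sel (ones 1755) ip5 65), (sel (ones 1755) ip5 66), (sel (ones 1755) ip5 67), (sel (ones 1755) ip5 68), (sel (ones 1755) ip5 69), (sel (ones 1755) ip5 70), (sel (ones 1755) ip5 71), (sel (ones 1755) ip5 72), (sel (ones 1755) ip5 73), (sel (ones 1755) ip5 74), (sel (ones 1755) ip5 75), (sel (ones 1755) ip5 76), (sel (ones 1755) ip5 77), (sel (ones 1755) ip5 78), (sel (ones 1755) ip5 79), (sel (ones 1755) ip5 80), (sel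 (ones 1755) ip5 81), (sel (ones 1755) ip5 82), (sel (ones 1755) ip5 83), (sel (ones 1755) ip5 84), (sel (ones 1755) ip5 85), (sel (ones 1755) ip5 86), (sel (ones 1755) ip5 87), (sel (ones 1755) ip5 88), (sel (ones 1755) ip5 89), (sel (ones 1755) ip5 90), (sel (ones 1755) ip5 91), (sel (ones 1755) ip5 92), (sel (ones 1755) ip5 93), (sel (ones 1755) ip5 94), (sel (ones 1755) ip5 95), (sel (ones 1755) ip5 96), (sel (ones 1755) ip5 97), (sel (ones 1755) ip5 98), (sel (ones 1755) ip5 99), (sel (ones 1755) ip5 100), (sel (ones 1755) ip5 101), (sel (ones 1755) ip5 102), (sel (ones 1755) ip5 103), (sel (ones 1755) ip5 104), (sel (ones 1755) ip5 105), (sel (ones 1755) ip5 106), (sel (ones 1755) ip5 107), (sel (ones 1755) ip5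 108), (sel (ones 1755) ip5 109), (sel (ones 1755) ip5 110), (sel (ones 1755) ip5 111), (sel (ones 1755) ip5 112), (sel (ones 1755) ip5 113), (sel (ones 1755) ip5 114), (sel (ones 1755) ip5 115), (sel (ones 1755) ip5 116), (sel (ones 1755) ip5 117), (sel (ones 1755) ip5 118), (sel (ones 1755) ip5 119), (sel (ones 1755) ip5 120), (sel (ones 1755) ip5 121), (sel (ones 1755) ip5 122), (sel (ones 1755) ip5 123), (sel (ones 1755) ip5 124), (sel (ones 1755) ip5 125), (sel (ones 1755) ip5 126), (sel (ones 1755) ip5 127), (sel (ones 1755) ip5 128), (sel (ones 1755) ip5 129), (sel (ones 1755) ip5 130), (sel (ones 1755) ip5 131), (sel (ones 1755) ip5 132), (sel (ones 1755) ip5 133), (sel (ones 1755) ip5 134), (sel (ones 1755)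 ip5 135)] = true := by decide +kernel

theorem tl5 : T.treeLt 11 5 = true := by decide +kernel

end Cfsg.Agent.Spor.Tia
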