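import Cfsg.Agent.Spor.Cert
import Cfsg.Agent.Spor.Tia.C0
import Cfsg.Agent.Spor.Tia.C1

set_option autoImplicit false
set_option maxRecDepth 100000000
set_option Elab.async false
set_option linter.unusedSectionVars false

namespace Cfsg.Agent.Spor.Tia

theorem hT : T.Ok 11 := T.ok_of 11 (show AllP (fun n => Net.okb 11 n = true) [n0, n1, n2] from AllP.cons ok0 (AllP.cons ok1 (AllP.cons ok2 (AllP.nil))))

noncomputable def fP : ℕ → Equiv.Perm ℕ := T.fP gs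

theorem hsq : ∀ j < 1, j < 3 → T.fP gs j * T.fP gs j = 1 :=
  Tab.sq (show AllP (fun z => evA T.τ [z, z] = 1) [1] from AllP.cons (hT.one rel0) (AllP.nil)) 3 rfl

theorem hiv : IvOk (2 * 1) (atm 3 (T.fP gs)) := ivOk_atm hsq

theorem pz1 : PZ T (atm 3 (T.fP gs)) EX 1 := PZ.of_atom (y := 2 * 0) (by decide +kernel) (atm_two_mul _ (by decide))
theorem pz2 : PZ T (atm 3 (T.fP gs)) EX 2 := PZ.of_atom (y := 2 * 1) (by decide +kernel) (atm_two_mul _ (by decide))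
theorem pz3 : PZ T (atm 3 (T.fP gs)) EX 3 := PZ.of_atom (y := 2 * 2) (by decide +kernel) (atm_two_mul _ (by decide))
theorem pz4 : PZ T (atm 3 (T.fP gs)) EX 4 := PZ.of_inv hiv pz2 (by decide +kernel)
theorem pz5 : PZ T (atm 3 (T.fP gs)) EX 5 := PZ.of_inv hiv pz3 (by decide +kernel)
theorem hPZ : AllP (PZ T (atm 3 (T.fP gs)) EX) L :=
  show AllP (PZ T (atm 3 (T.fP gs)) EX) [1, 2, 3, 4, 5] from AllP.cons pz1 (AllP.cons pz2 (AllP.cons pz3 (AllP.cons pz4 (AllP.cons pz5 (AllP.nil)))))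

theorem hrel : ∀ l ∈ RL, ev (atm 3 (T.fP gs)) l = 1 :=
  relAll_sound hiv (W := [[2, 3, 2, 5, 5, 4, 4, 2, 3, 2, 5, 5, 4, 4, 2, 3, 2, 5, 5, 4, 4, 2, 3, 2, 5, 5, 4, 4], [2, 3, 2, 5, 5, 4, 4, 2, 3, 2, 5, 5, 4, 4, 3, 3, 4, 5, 2, 3, 2, 5, 5, 4, 3, 3, 4, 5, 4, 3, 2, 5, 5, 3, 2, 5, 5, 3, 3, 4, 5, 2, 3, 2, 5, 5, 4, 3, 3, 4, 5, 4, 3, 2, 5, 5, 3, 2, 5, 5], [2, 3, 2, 5, 5, 4, 4, 2, 3, 2, 5, 5, 4, 4, 3, 3, 4, 5, 2, 3, 2, 5, 5, 4, 3, 3, 4, 5, 3, 3, 4, 5, 2, 3, 2, 5, 5, 3, 3, 4, 5, 2, 3, 2, 5, 5, 4, 3, 3, 4, 5, 3, 3, 4, 5, 2, 3, 2, 5, 5], [2, 3, 2, 5, 5, 4, 4, 3, 3, 4, 5, 4, 3, 2, 5, 5, 3, 2, 5, 5, 2, 2, 3, 3, 4, 5, 4, 3, 3, 4, 5, 2, 3, 2, 5, 5, 4, 3, 3, 4, 5, 3, 3, 4, 5, 2, 3, 2, 5, 5, 2, 3, 3, 4, 5, 4, 3, 2, 5, 5], [3, 3, 4, 5, 2, 3, 2, 5, 5, 4, 3, 3, 4, 5, 2, 3, 2, 5, 5, 4, 3, 3, 4, 5, 2, 3, 2, 5, 5, 4, 3, 3, 4, 5, 2, 3, 2, 5, 5, 4], [2, 3, 2, 5, 5, 4, 4,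 2, 3, 3, 4, 5, 4, 3, 2, 5, 5, 3, 3, 4, 5, 4, 3, 2, 5, 5, 3, 2, 5, 5, 3, 3, 4, 5, 2, 3, 2, 5, 5, 4, 2, 2, 3, 3, 4, 5, 4, 3, 3, 4, 5, 3, 3, 4, 5, 2, 3, 2, 5, 5], [2, 3, 2, 5, 5, 4, 4, 3, 3, 4, 5, 2, 3, 2, 5, 5, 4, 3, 3, 4, 5, 3, 3, 4, 5, 2, 3, 2, 5, 5, 2, 3, 2, 5, 5, 4, 4, 3, 3, 4, 5, 2, 3, 2, 5, 5, 4, 3, 3, 4, 5, 3, 3, 4, 5, 2, 3, 2, 5, 5], [3, 3, 4, 5, 4, 3, 2, 5, 5, 3, 2, 5, 5, 3, 3, 4, 5, 4, 3, 2, 5, 5, 3, 2, 5, 5, 3, 3, 4, 5, 4, 3, 2, 5, 5, 3, 2, 5, 5, 3, 3, 4, 5, 4, 3, 2, 5, 5, 3, 2, 5, 5], [4, 3, 3, 4, 5, 4, 4, 3, 3, 4, 5, 2, 3, 2, 5, 5, 4, 3, 3, 4, 5, 4, 3, 2, 5, 5, 3, 2, 5, 5, 3, 3, 4, 5, 2, 3, 2, 5, 5, 4], [2, 2, 2, 2], [3, 3, 4, 5, 3, 3, 4, 5, 3, 3, 4, 5, 3, 3, 4, 5], [3, 4, 5, 2, 3, 3, 3, 4, 5, 4, 4, 3, 3, 4, 5], [3, 2, 2, 5, 2, 5, 3, 3, 4, 5, 4, 4, 3, 2, 5, 5, 4], [3, 3, 3, 3, 3], [4, 3, 4, 3, 4, 3, 4, 3], [2, 5, 4, 5, 5, 2, 5, 4, 5,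 5], [3, 2, 3, 2, 3, 2, 3, 2], [1, 5, 1, 2, 3, 4, 3, 4, 4, 5, 1, 3, 1, 5, 2, 5, 4, 5], [1, 3, 1, 2, 1, 5, 1, 4, 4, 3, 3, 2, 5, 4, 4, 5, 5, 4], [1, 5, 1, 2, 2, 1, 3, 1, 5, 5, 4, 3, 3, 2, 5, 5], [1, 3, 1, 5, 1, 3, 2, 3, 4, 3, 1, 3, 1, 5, 1, 5, 2, 5, 4, 5], [1, 2, 1, 3, 4, 5, 2, 3, 2, 5, 5, 4, 3], [1, 3, 2, 5, 5, 1, 5, 5, 4, 5, 5, 4, 3, 3, 4, 3], [1, 3, 1, 3, 1, 3, 1, 3, 1, 3, 1, 3, 1, 3, 1, 3], [1, 3, 1, 3, 1, 5, 1, 2, 3, 4, 1, 5, 1, 5, 1, 3, 1, 5, 1, 3, 4, 4, 3, 3]]) (rules := [⟨[2, 3, 2, 5, 5, 4, 4, 2, 3, 2, 5, 5, 4, 4, 2, 3, 2, 5, 5, 4, 4, 2, 3, 2, 5, 5, 4, 4], [], 0, true⟩, ⟨[2, 3, 2, 5, 5, 4, 4, 2, 3, 2, 5, 5, 4, 4, 3, 3, 4, 5, 2, 3, 2, 5, 5, 4, 3, 3, 4, 5, 4, 3, 2, 5, 5, 3, 2, 5, 5, 3, 3, 4, 5, 2, 3, 2, 5, 5, 4, 3, 3, 4, 5, 4, 3, 2, 5, 5, 3, 2, 5, 5], [], 1, true⟩, ⟨[2, 3, 2, 5, 5, 4, 4, 2, 3, 2, 5, 5, 4, 4, 3, 3, 4, 5, 2, 3, 2, 5, 5, 4, 3,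 3, 4, 5, 3, 3, 4, 5, 2, 3, 2, 5, 5, 3, 3, 4, 5, 2, 3, 2, 5, 5, 4, 3, 3, 4, 5, 3, 3, 4, 5, 2, 3, 2, 5, 5], [], 2, true⟩, ⟨[2, 3, 2, 5, 5, 4, 4, 3, 3, 4, 5, 4, 3, 2, 5, 5, 3, 2, 5, 5, 2, 2, 3, 3, 4, 5, 4, 3, 3, 4, 5, 2, 3, 2, 5, 5, 4, 3, 3, 4, 5, 3, 3, 4, 5, 2, 3, 2, 5, 5, 2, 3, 3, 4, 5, 4, 3, 2, 5, 5], [], 3, true⟩, ⟨[3, 3, 4, 5, 2, 3, 2, 5, 5, 4, 3, 3, 4, 5, 2, 3, 2, 5, 5, 4, 3, 3, 4, 5, 2, 3, 2, 5, 5, 4, 3, 3, 4, 5, 2, 3, 2, 5, 5, 4], [], 4, true⟩, ⟨[2, 3, 2, 5, 5, 4, 4, 2, 3, 3, 4, 5, 4, 3, 2, 5, 5, 3, 3, 4, 5, 4, 3, 2, 5, 5, 3, 2, 5, 5, 3, 3, 4, 5, 2, 3, 2, 5, 5, 4, 2, 2, 3, 3, 4, 5, 4, 3, 3, 4, 5, 3, 3, 4, 5, 2, 3, 2, 5, 5], [], 5, true⟩, ⟨[2, 3, 2, 5, 5, 4, 4, 3, 3, 4, 5, 2, 3, 2, 5, 5, 4, 3, 3, 4, 5, 3, 3, 4, 5, 2, 3, 2, 5, 5, 2, 3, 2, 5, 5, 4, 4, 3, 3, 4, 5, 2, 3, 2, 5, 5, 4, 3, 3, 4, 5, 3, 3, 4, 5, 2, 3, 2, 5, 5], [], 6, true⟩, ⟨[3, 3,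 4, 5, 4, 3, 2, 5, 5, 3, 2, 5, 5, 3, 3, 4, 5, 4, 3, 2, 5, 5, 3, 2, 5, 5, 3, 3, 4, 5, 4, 3, 2, 5, 5, 3, 2, 5, 5, 3, 3, 4, 5, 4, 3, 2, 5, 5, 3, 2, 5, 5], [], 7, true⟩, ⟨[4, 3, 3, 4, 5, 4, 4, 3, 3, 4, 5, 2, 3, 2, 5, 5, 4, 3, 3, 4, 5, 4, 3, 2, 5, 5, 3, 2, 5, 5, 3, 3, 4, 5, 2, 3, 2, 5, 5, 4], [], 8, true⟩, ⟨[2, 2, 2, 2], [], 9, true⟩, ⟨[3, 3, 4, 5, 3, 3, 4, 5, 3, 3, 4, 5, 3, 3, 4, 5], [], 10, true⟩, ⟨[3, 4, 5, 2, 3, 3, 3, 4, 5, 4, 4, 3, 3, 4, 5], [], 11, true⟩, ⟨[3, 2, 2, 5, 2, 5, 3, 3, 4, 5, 4, 4, 3, 2, 5, 5, 4], [], 12, true⟩, ⟨[3, 3, 3, 3, 3], [], 13, true⟩, ⟨[4, 3, 4, 3, 4, 3, 4, 3], [], 14, true⟩, ⟨[2, 5, 4, 5, 5, 2, 5, 4, 5, 5], [], 15, true⟩, ⟨[3, 2, 3, 2, 3, 2, 3, 2], [], 16, true⟩, ⟨[1, 5, 1, 2, 3, 4, 3, 4, 4, 5, 1, 3, 1, 5, 2, 5, 4, 5], [], 17, true⟩, ⟨[1, 3, 1, 2, 1, 5, 1, 4, 4, 3, 3, 2, 5, 4, 4, 5, 5, 4], [], 18, true⟩, ⟨[1, 5, 1, 2, 2, 1,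 3, 1, 5, 5, 4, 3, 3, 2, 5, 5], [], 19, true⟩, ⟨[1, 3, 1, 5, 1, 3, 2, 3, 4, 3, 1, 3, 1, 5, 1, 5, 2, 5, 4, 5], [], 20, true⟩, ⟨[1, 2, 1, 3, 4, 5, 2, 3, 2, 5, 5, 4, 3], [], 21, true⟩, ⟨[1, 3, 2, 5, 5, 1, 5, 5, 4, 5, 5, 4, 3, 3, 4, 3], [], 22, true⟩, ⟨[1, 3, 1, 3, 1, 3, 1, 3, 1, 3, 1, 3, 1, 3, 1, 3], [], 23, true⟩, ⟨[1, 3, 1, 3, 1, 5, 1, 2, 3, 4, 1, 5, 1, 5, 1, 3, 1, 5, 1, 3, 4, 4, 3, 3], [], 24, true⟩]) hPZ (AllP.cons (hT.one rel1) (AllP.cons (hT.one rel2) (AllP.cons (hT.one rel3) (AllP.cons (hT.one rel4) (AllP.cons (hT.one rel5) (AllP.cons (hT.one rel6) (AllP.cons (hT.one rel7) (AllP.cons (hT.one rel8) (AllP.cons (hT.one rel9) (AllP.cons (hT.one rel10) (AllP.cons (hT.one rel11) (AllP.cons (hT.one rel12) (AllP.cons (hT.one rel13) (AllP.cons (hT.one rel14) (AllP.cons (hT.one rel15) (AllP.cons (hT.one rel16) (AllP.cons (hT.one rel17) (AllP.cons (hT.one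 rel18) (AllP.cons (hT.one rel19) (AllP.cons (hT.one rel20) (AllP.cons (hT.one rel21) (AllP.cons (hT.one rel22) (AllP.cons (hT.one rel23) (AllP.cons (hT.one rel24) (AllP.cons (hT.one rel25) (AllP.nil)))))))))))))))))))))))))) (by decide +kernel)

section
variable {G : Type} [Group G] {a : ℕ → G} (hi : IvOk (2 * 1) a) (hR : ∀ r ∈ RL, ev a r = 1)
  {H : Subgroup G} (hb : ∀ z ∈ base, letV a EX z ∈ H)
include hi hR hb

theorem let1 : LetOk H (letV a EX) T L 1 :=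
  LetOk.of hT tl1 cov1 (AllP.cons (Just.rot hT hi hR rot1_1 rot1_1r) (AllP.cons (Just.rot hT hi hR rot1_2 rot1_2r) (AllP.cons (Just.rot hT hi hR rot1_3 rot1_3r) (AllP.cons (Just.rot hT hi hR rot1_4 rot1_4r) (AllP.cons (Just.rot hT hi hR rot1_5 rot1_5r) (AllP.cons (Just.rot hT hi hR rot1_6 rot1_6r) (AllP.cons (Just.rot hT hi hR rot1_7 rot1_7r) (AllP.cons (Just.rot hT hi hR rot1_8 rot1_8r) (AllP.cons (Just.rot hT hi hR rot1_9 rot1_9r) (AllP.cons (Just.rot hT hi hR rot1_10 rot1_10r) (AllP.cons (Just.rot hT hi hR rot1_11 rot1_11r) (AllP.cons (Just.rot hT hi hR rot1_12 rot1_12r) (AllP.cons (Just.rot hT hi hR rot1_13 rot1_13r) (AllP.cons (Just.rot hT hi hR rot1_14 rot1_14r) (AllP.cons (Just.rot hT hi hR rot1_15 rot1_15r) (AllP.cons (Just.rot hT hi hR rot1_16 rot1_16r) (AllP.cons (Just.rot hT hi hR rot1_17 rot1_17r) (AllP.cons (Just.rot hT hi hR rot1_18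 rot1_18r) (AllP.cons (Just.rot hT hi hR rot1_19 rot1_19r) (AllP.cons (Just.rot hT hi hR rot1_20 rot1_20r) (AllP.cons (Just.rot hT hi hR rot1_21 rot1_21r) (AllP.cons (Just.rot hT hi hR rot1_22 rot1_22r) (AllP.cons (Just.rot hT hi hR rot1_23 rot1_23r) (AllP.cons (Just.rot hT hi hR rot1_24 rot1_24r) (AllP.cons (Just.rot hT hi hR rot1_25 rot1_25r) (AllP.cons (Just.rot hT hi hR rot1_26 rot1_26r) (AllP.cons (Just.rot hT hi hR rot1_27 rot1_27r) (AllP.cons (Just.rot hT hi hR rot1_28 rot1_28r) (AllP.cons (Just.rot hT hi hR rot1_29 rot1_29r) (AllP.cons (Just.rot hT hi hR rot1_30 rot1_30r) (AllP.cons (Just.rot hT hi hR rot1_31 rot1_31r) (AllP.cons (Just.rot hT hi hR rot1_32 rot1_32r) (AllP.cons (Just.rot hT hi hR rot1_33 rot1_33r) (AllP.cons (Just.rot hT hi hR rot1_34 rot1_34r) (AllP.cons (Just.rot hT hi hR rot1_35 rot1_35r) (AllP.cons (Just.rot hT hi hR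 rot1_36 rot1_36r) (AllP.cons (Just.rot hT hi hR rot1_37 rot1_37r) (AllP.cons (Just.rot hT hi hR rot1_38 rot1_38r) (AllP.cons (Just.rot hT hi hR rot1_39 rot1_39r) (AllP.cons (Just.rot hT hi hR rot1_40 rot1_40r) (AllP.cons (Just.rot hT hi hR rot1_41 rot1_41r) (AllP.cons (Just.rot hT hi hR rot1_42 rot1_42r) (AllP.cons (Just.rot hT hi hR rot1_43 rot1_43r) (AllP.cons (Just.rot hT hi hR rot1_44 rot1_44r) (AllP.cons (Just.rot hT hi hR rot1_45 rot1_45r) (AllP.cons (Just.rot hT hi hR rot1_46 rot1_46r) (AllP.cons (Just.rot hT hi hR rot1_47 rot1_47r) (AllP.cons (Just.rot hT hi hR rot1_48 rot1_48r) (AllP.cons (Just.rot hT hi hR rot1_49 rot1_49r) (AllP.cons (Just.rot hT hi hR rot1_50 rot1_50r) (AllP.cons (Just.rot hT hi hR rot1_51 rot1_51r) (AllP.cons (Just.rot hT hi hR rot1_52 rot1_52r) (AllP.cons (Just.rot hT hi hR rot1_53 rot1_53r) (AllP.cons (Just.rot hT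 hi hR rot1_54 rot1_54r) (AllP.cons (Just.rot hT hi hR rot1_55 rot1_55r) (AllP.cons (Just.rot hT hi hR rot1_56 rot1_56r) (AllP.cons (Just.rot hT hi hR rot1_57 rot1_57r) (AllP.cons (Just.rot hT hi hR rot1_58 rot1_58r) (AllP.cons (Just.rot hT hi hR rot1_59 rot1_59r) (AllP.nil))))))))))))))))))))))))))))))))))))))))))))))))))))))))))))
theorem let2 : LetOk H (letV a EX) T L 2 :=
  LetOk.of hT tl2 cov2 (AllP.cons (Just.rot hT hi hR rot2_1 rot2_1r) (AllP.cons (Just.rot hT hi hR rot2_2 rot2_2r) (AllP.cons (Just.rot hT hi hR rot2_3 rot2_3r) (AllP.cons (Just.rot hT hi hR rot2_4 rot2_4r) (AllP.cons (Just.rot hT hi hR rot2_5 rot2_5r) (AllP.cons (Just.rot hT hi hR rot2_6 rot2_6r) (AllP.cons (Just.rot hT hi hR rot2_7 rot2_7r) (AllP.cons (Just.rot hT hi hR rot2_8 rot2_8r) (AllP.cons (Just.rot hT hi hR rot2_9 rot2_9r) (AllP.cons (Just.rot hT hi hR rot2_10 rot2_10r)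 (AllP.cons (Just.rot hT hi hR rot2_11 rot2_11r) (AllP.cons (Just.rot hT hi hR rot2_12 rot2_12r) (AllP.cons (Just.rot hT hi hR rot2_13 rot2_13r) (AllP.cons (Just.rot hT hi hR rot2_14 rot2_14r) (AllP.cons (Just.rot hT hi hR rot2_15 rot2_15r) (AllP.cons (Just.rot hT hi hR rot2_16 rot2_16r) (AllP.cons (Just.rot hT hi hR rot2_17 rot2_17r) (AllP.cons (Just.rot hT hi hR rot2_18 rot2_18r) (AllP.cons (Just.rot hT hi hR rot2_19 rot2_19r) (AllP.cons (Just.rot hT hi hR rot2_20 rot2_20r) (AllP.cons (Just.rot hT hi hR rot2_21 rot2_21r) (AllP.cons (Just.rot hT hi hR rot2_22 rot2_22r) (AllP.cons (Just.rot hT hi hR rot2_23 rot2_23r) (AllP.cons (Just.rot hT hi hR rot2_24 rot2_24r) (AllP.cons (Just.rot hT hi hR rot2_25 rot2_25r) (AllP.cons (Just.rot hT hi hR rot2_26 rot2_26r) (AllP.cons (Just.rot hT hi hR rot2_27 rot2_27r) (AllP.cons (Just.rot hT hi hR rot2_28 rot2_28r)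 (AllP.cons (Just.rot hT hi hR rot2_29 rot2_29r) (AllP.cons (Just.rot hT hi hR rot2_30 rot2_30r) (AllP.cons (Just.rot hT hi hR rot2_31 rot2_31r) (AllP.cons (Just.rot hT hi hR rot2_32 rot2_32r) (AllP.cons (Just.rot hT hi hR rot2_33 rot2_33r) (AllP.cons (Just.rot hT hi hR rot2_34 rot2_34r) (AllP.cons (Just.rot hT hi hR rot2_35 rot2_35r) (AllP.cons (Just.rot hT hi hR rot2_36 rot2_36r) (AllP.cons (Just.rot hT hi hR rot2_37 rot2_37r) (AllP.cons (Just.rot hT hi hR rot2_38 rot2_38r) (AllP.cons (Just.rot hT hi hR rot2_39 rot2_39r) (AllP.cons (Just.rot hT hi hR rot2_40 rot2_40r) (AllP.cons (Just.rot hT hi hR rot2_41 rot2_41r) (AllP.cons (Just.rot hT hi hR rot2_42 rot2_42r) (AllP.cons (Just.rot hT hi hR rot2_43 rot2_43r) (AllP.cons (Just.rot hT hi hR rot2_44 rot2_44r) (AllP.cons (Just.rot hT hi hR rot2_45 rot2_45r) (AllP.cons (Just.rot hT hi hR rot2_46 rot2_46r)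 (AllP.cons (Just.rot hT hi hR rot2_47 rot2_47r) (AllP.cons (Just.rot hT hi hR rot2_48 rot2_48r) (AllP.cons (Just.rot hT hi hR rot2_49 rot2_49r) (AllP.cons (Just.rot hT hi hR rot2_50 rot2_50r) (AllP.cons (Just.rot hT hi hR rot2_51 rot2_51r) (AllP.cons (Just.rot hT hi hR rot2_52 rot2_52r) (AllP.cons (Just.rot hT hi hR rot2_53 rot2_53r) (AllP.cons (Just.rot hT hi hR rot2_54 rot2_54r) (AllP.cons (Just.rot hT hi hR rot2_55 rot2_55r) (AllP.cons (Just.rot hT hi hR rot2_56 rot2_56r) (AllP.cons (Just.rot hT hi hR rot2_57 rot2_57r) (AllP.cons (Just.rot hT hi hR rot2_58 rot2_58r) (AllP.cons (Just.rot hT hi hR rot2_59 rot2_59r) (AllP.cons (Just.rot hT hi hR rot2_60 rot2_60r) (AllP.cons (Just.rot hT hi hR rot2_61 rot2_61r) (AllP.cons (Just.rot hT hi hR rot2_62 rot2_62r) (AllP.cons (Just.rot hT hi hR rot2_63 rot2_63r) (AllP.cons (Just.rot hT hi hR rot2_64 rot2_64r)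 (AllP.cons (Just.rot hT hi hR rot2_65 rot2_65r) (AllP.cons (Just.rot hT hi hR rot2_66 rot2_66r) (AllP.cons (Just.rot hT hi hR rot2_67 rot2_67r) (AllP.cons (Just.rot hT hi hR rot2_68 rot2_68r) (AllP.cons (Just.rot hT hi hR rot2_69 rot2_69r) (AllP.cons (Just.rot hT hi hR rot2_70 rot2_70r) (AllP.cons (Just.rot hT hi hR rot2_71 rot2_71r) (AllP.cons (Just.rot hT hi hR rot2_72 rot2_72r) (AllP.cons (Just.rot hT hi hR rot2_73 rot2_73r) (AllP.cons (Just.rot hT hi hR rot2_74 rot2_74r) (AllP.cons (Just.rot hT hi hR rot2_75 rot2_75r) (AllP.cons (Just.rot hT hi hR rot2_76 rot2_76r) (AllP.cons (Just.rot hT hi hR rot2_77 rot2_77r) (AllP.cons (Just.rot hT hi hR rot2_78 rot2_78r) (AllP.cons (Just.rot hT hi hR rot2_79 rot2_79r) (AllP.cons (Just.rot hT hi hR rot2_80 rot2_80r) (AllP.cons (Just.rot hT hi hR rot2_81 rot2_81r) (AllP.cons (Just.rot hT hi hR rot2_82 rot2_82r)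 (AllP.cons (Just.rot hT hi hR rot2_83 rot2_83r) (AllP.cons (Just.rot hT hi hR rot2_84 rot2_84r) (AllP.cons (Just.rot hT hi hR rot2_85 rot2_85r) (AllP.cons (Just.rot hT hi hR rot2_86 rot2_86r) (AllP.cons (Just.rot hT hi hR rot2_87 rot2_87r) (AllP.cons (Just.rot hT hi hR rot2_88 rot2_88r) (AllP.cons (Just.rot hT hi hR rot2_89 rot2_89r) (AllP.cons (Just.rot hT hi hR rot2_90 rot2_90r) (AllP.cons (Just.rot hT hi hR rot2_91 rot2_91r) (AllP.cons (Just.rot hT hi hR rot2_92 rot2_92r) (AllP.cons (Just.rot hT hi hR rot2_93 rot2_93r) (AllP.cons (Just.rot hT hi hR rot2_94 rot2_94r) (AllP.cons (Just.rot hT hi hR rot2_95 rot2_95r) (AllP.cons (Just.rot hT hi hR rot2_96 rot2_96r) (AllP.cons (Just.rot hT hi hR rot2_97 rot2_97r) (AllP.cons (Just.rot hT hi hR rot2_98 rot2_98r) (AllP.cons (Just.rot hT hi hR rot2_99 rot2_99r) (AllP.cons (Just.rot hT hi hR rot2_100 rot2_100r)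 (AllP.cons (Just.rot hT hi hR rot2_101 rot2_101r) (AllP.cons (Just.rot hT hi hR rot2_102 rot2_102r) (AllP.cons (Just.rot hT hi hR rot2_103 rot2_103r) (AllP.cons (Just.rot hT hi hR rot2_104 rot2_104r) (AllP.cons (Just.rot hT hi hR rot2_105 rot2_105r) (AllP.cons (Just.base (hb 2 (by decide))) (AllP.nil)))))))))))))))))))))))))))))))))))))))))))))))))))))))))))))))))))))))))))))))))))))))))))))))))))))))))))
theorem let3 : LetOk H (letV a EX) T L 3 :=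
  LetOk.of hT tl3 cov3 (AllP.cons (Just.rot hT hi hR rot3_1 rot3_1r) (AllP.cons (Just.rot hT hi hR rot3_2 rot3_2r) (AllP.cons (Just.rot hT hi hR rot3_3 rot3_3r) (AllP.cons (Just.rot hT hi hR rot3_4 rot3_4r) (AllP.cons (Just.rot hT hi hR rot3_5 rot3_5r) (AllP.cons (Just.rot hT hi hR rot3_6 rot3_6r) (AllP.cons (Just.rot hT hi hR rot3_7 rot3_7r) (AllP.cons (Just.rot hT hi hR rot3_8 rot3_8r) (AllP.cons (Just.rot hT hi hR rot3_9 rot3_9r) (AllP.cons (Just.rot hT hi hR rot3_10 rot3_10r) (AllP.cons (Just.rot hT hi hR rot3_11 rot3_11r) (AllP.cons (Just.rot hT hi hR rot3_12 rot3_12r) (AllP.cons (Just.rot hT hi hR rot3_13 rot3_13r) (AllP.cons (Just.rot hT hi hR rot3_14 rot3_14r) (AllP.cons (Just.rot hT hi hR rot3_15 rot3_15r) (AllP.cons (Just.rot hT hi hR rot3_16 rot3_16r) (AllP.cons (Just.rot hT hi hR rot3_17 rot3_17r) (AllP.cons (Just.rot hT hi hR rot3_18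 rot3_18r) (AllP.cons (Just.rot hT hi hR rot3_19 rot3_19r) (AllP.cons (Just.rot hT hi hR rot3_20 rot3_20r) (AllP.cons (Just.rot hT hi hR rot3_21 rot3_21r) (AllP.cons (Just.rot hT hi hR rot3_22 rot3_22r) (AllP.cons (Just.rot hT hi hR rot3_23 rot3_23r) (AllP.cons (Just.rot hT hi hR rot3_24 rot3_24r) (AllP.cons (Just.rot hT hi hR rot3_25 rot3_25r) (AllP.cons (Just.rot hT hi hR rot3_26 rot3_26r) (AllP.cons (Just.rot hT hi hR rot3_27 rot3_27r) (AllP.cons (Just.rot hT hi hR rot3_28 rot3_28r) (AllP.cons (Just.rot hT hi hR rot3_29 rot3_29r) (AllP.cons (Just.rot hT hi hR rot3_30 rot3_30r) (AllP.cons (Just.rot hT hi hR rot3_31 rot3_31r) (AllP.cons (Just.rot hT hi hR rot3_32 rot3_32r) (AllP.cons (Just.rot hT hi hR rot3_33 rot3_33r) (AllP.cons (Just.rot hT hi hR rot3_34 rot3_34r) (AllP.cons (Just.rot hT hi hR rot3_35 rot3_35r) (AllP.cons (Just.rot hT hi hR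 rot3_36 rot3_36r) (AllP.cons (Just.rot hT hi hR rot3_37 rot3_37r) (AllP.cons (Just.rot hT hi hR rot3_38 rot3_38r) (AllP.cons (Just.rot hT hi hR rot3_39 rot3_39r) (AllP.cons (Just.rot hT hi hR rot3_40 rot3_40r) (AllP.cons (Just.rot hT hi hR rot3_41 rot3_41r) (AllP.cons (Just.rot hT hi hR rot3_42 rot3_42r) (AllP.cons (Just.rot hT hi hR rot3_43 rot3_43r) (AllP.cons (Just.rot hT hi hR rot3_44 rot3_44r) (AllP.cons (Just.rot hT hi hR rot3_45 rot3_45r) (AllP.cons (Just.rot hT hi hR rot3_46 rot3_46r) (AllP.cons (Just.rot hT hi hR rot3_47 rot3_47r) (AllP.cons (Just.rot hT hi hR rot3_48 rot3_48r) (AllP.cons (Just.rot hT hi hR rot3_49 rot3_49r) (AllP.cons (Just.rot hT hi hR rot3_50 rot3_50r) (AllP.cons (Just.rot hT hi hR rot3_51 rot3_51r) (AllP.cons (Just.rot hT hi hR rot3_52 rot3_52r) (AllP.cons (Just.rot hT hi hR rot3_53 rot3_53r) (AllP.cons (Just.rot hT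 hi hR rot3_54 rot3_54r) (AllP.cons (Just.rot hT hi hR rot3_55 rot3_55r) (AllP.cons (Just.rot hT hi hR rot3_56 rot3_56r) (AllP.cons (Just.rot hT hi hR rot3_57 rot3_57r) (AllP.cons (Just.rot hT hi hR rot3_58 rot3_58r) (AllP.cons (Just.rot hT hi hR rot3_59 rot3_59r) (AllP.cons (Just.rot hT hi hR rot3_60 rot3_60r) (AllP.cons (Just.rot hT hi hR rot3_61 rot3_61r) (AllP.cons (Just.rot hT hi hR rot3_62 rot3_62r) (AllP.cons (Just.rot hT hi hR rot3_63 rot3_63r) (AllP.cons (Just.rot hT hi hR rot3_64 rot3_64r) (AllP.cons (Just.rot hT hi hR rot3_65 rot3_65r) (AllP.cons (Just.rot hT hi hR rot3_66 rot3_66r) (AllP.cons (Just.rot hT hi hR rot3_67 rot3_67r) (AllP.cons (Just.rot hT hi hR rot3_68 rot3_68r) (AllP.cons (Just.rot hT hi hR rot3_69 rot3_69r) (AllP.cons (Just.rot hT hi hR rot3_70 rot3_70r) (AllP.cons (Just.rot hT hi hR rot3_71 rot3_71r) (AllP.cons (Just.rot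 hT hi hR rot3_72 rot3_72r) (AllP.cons (Just.rot hT hi hR rot3_73 rot3_73r) (AllP.cons (Just.rot hT hi hR rot3_74 rot3_74r) (AllP.cons (Just.rot hT hi hR rot3_75 rot3_75r) (AllP.cons (Just.rot hT hi hR rot3_76 rot3_76r) (AllP.cons (Just.rot hT hi hR rot3_77 rot3_77r) (AllP.cons (Just.rot hT hi hR rot3_78 rot3_78r) (AllP.cons (Just.rot hT hi hR rot3_79 rot3_79r) (AllP.cons (Just.rot hT hi hR rot3_80 rot3_80r) (AllP.cons (Just.rot hT hi hR rot3_81 rot3_81r) (AllP.cons (Just.rot hT hi hR rot3_82 rot3_82r) (AllP.cons (Just.rot hT hi hR rot3_83 rot3_83r) (AllP.cons (Just.rot hT hi hR rot3_84 rot3_84r) (AllP.cons (Just.rot hT hi hR rot3_85 rot3_85r) (AllP.cons (Just.rot hT hi hR rot3_86 rot3_86r) (AllP.cons (Just.rot hT hi hR rot3_87 rot3_87r) (AllP.cons (Just.rot hT hi hR rot3_88 rot3_88r) (AllP.cons (Just.rot hT hi hR rot3_89 rot3_89r) (AllP.cons (Just.rot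 hT hi hR rot3_90 rot3_90r) (AllP.cons (Just.rot hT hi hR rot3_91 rot3_91r) (AllP.cons (Just.rot hT hi hR rot3_92 rot3_92r) (AllP.cons (Just.rot hT hi hR rot3_93 rot3_93r) (AllP.cons (Just.rot hT hi hR rot3_94 rot3_94r) (AllP.cons (Just.rot hT hi hR rot3_95 rot3_95r) (AllP.cons (Just.rot hT hi hR rot3_96 rot3_96r) (AllP.cons (Just.rot hT hi hR rot3_97 rot3_97r) (AllP.cons (Just.rot hT hi hR rot3_98 rot3_98r) (AllP.cons (Just.rot hT hi hR rot3_99 rot3_99r) (AllP.cons (Just.rot hT hi hR rot3_100 rot3_100r) (AllP.cons (Just.rot hT hi hR rot3_101 rot3_101r) (AllP.cons (Just.rot hT hi hR rot3_102 rot3_102r) (AllP.cons (Just.rot hT hi hR rot3_103 rot3_103r) (AllP.cons (Just.rot hT hi hR rot3_104 rot3_104r) (AllP.cons (Just.rot hT hi hR rot3_105 rot3_105r) (AllP.cons (Just.rot hT hi hR rot3_106 rot3_106r) (AllP.cons (Just.rot hT hi hR rot3_107 rot3_107r)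 (AllP.cons (Just.rot hT hi hR rot3_108 rot3_108r) (AllP.cons (Just.rot hT hi hR rot3_109 rot3_109r) (AllP.cons (Just.rot hT hi hR rot3_110 rot3_110r) (AllP.cons (Just.rot hT hi hR rot3_111 rot3_111r) (AllP.cons (Just.rot hT hi hR rot3_112 rot3_112r) (AllP.cons (Just.rot hT hi hR rot3_113 rot3_113r) (AllP.cons (Just.rot hT hi hR rot3_114 rot3_114r) (AllP.cons (Just.rot hT hi hR rot3_115 rot3_115r) (AllP.cons (Just.rot hT hi hR rot3_116 rot3_116r) (AllP.cons (Just.rot hT hi hR rot3_117 rot3_117r) (AllP.cons (Just.rot hT hi hR rot3_118 rot3_118r) (AllP.cons (Just.rot hT hi hR rot3_119 rot3_119r) (AllP.cons (Just.rot hT hi hR rot3_120 rot3_120r) (AllP.cons (Just.rot hT hi hR rot3_121 rot3_121r) (AllP.cons (Just.rot hT hi hR rot3_122 rot3_122r) (AllP.cons (Just.rot hT hi hR rot3_123 rot3_123r) (AllP.cons (Just.rot hT hi hR rot3_124 rot3_124r) (AllP.cons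 (Just.rot hT hi hR rot3_125 rot3_125r) (AllP.cons (Just.rot hT hi hR rot3_126 rot3_126r) (AllP.cons (Just.rot hT hi hR rot3_127 rot3_127r) (AllP.cons (Just.rot hT hi hR rot3_128 rot3_128r) (AllP.cons (Just.rot hT hi hR rot3_129 rot3_129r) (AllP.cons (Just.rot hT hi hR rot3_130 rot3_130r) (AllP.cons (Just.rot hT hi hR rot3_131 rot3_131r) (AllP.cons (Just.base (hb 3 (by decide))) (AllP.nil)))))))))))))))))))))))))))))))))))))))))))))))))))))))))))))))))))))))))))))))))))))))))))))))))))))))))))))))))))))))))))))))))))))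
theorem let4 : LetOk H (letV a EX) T L 4 :=
  LetOk.of hT tl4 cov4 (AllP.cons (Just.rot hT hi hR rot4_1 rot4_1r) (AllP.cons (Just.rot hT hi hR rot4_2 rot4_2r) (AllP.cons (Just.rot hT hi hR rot4_3 rot4_3r) (AllP.cons (Just.rot hT hi hR rot4_4 rot4_4r) (AllP.cons (Just.rot hT hi hR rot4_5 rot4_5r) (AllP.cons (Just.rot hT hi hR rot4_6 rot4_6r) (AllP.cons (Just.rot hT hi hR rot4_7 rot4_7r) (AllP.cons (Just.rot hT hi hR rot4_8 rot4_8r) (AllP.cons (Just.rot hT hi hR rot4_9 rot4_9r) (AllP.cons (Just.rot hT hi hR rot4_10 rot4_10r) (AllP.cons (Just.rot hT hi hR rot4_11 rot4_11r) (AllP.cons (Just.rot hT hi hR rot4_12 rot4_12r) (AllP.cons (Just.rot hT hi hR rot4_13 rot4_13r) (AllP.cons (Just.rot hT hi hR rot4_14 rot4_14r) (AllP.cons (Just.rot hT hi hR rot4_15 rot4_15r) (AllP.cons (Just.rot hT hi hR rot4_16 rot4_16r) (AllP.cons (Just.rot hT hi hR rot4_17 rot4_17r)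 (AllP.cons (Just.rot hT hi hR rot4_18 rot4_18r) (AllP.cons (Just.rot hT hi hR rot4_19 rot4_19r) (AllP.cons (Just.rot hT hi hR rot4_20 rot4_20r) (AllP.cons (Just.rot hT hi hR rot4_21 rot4_21r) (AllP.cons (Just.rot hT hi hR rot4_22 rot4_22r) (AllP.cons (Just.rot hT hi hR rot4_23 rot4_23r) (AllP.cons (Just.rot hT hi hR rot4_24 rot4_24r) (AllP.cons (Just.rot hT hi hR rot4_25 rot4_25r) (AllP.cons (Just.rot hT hi hR rot4_26 rot4_26r) (AllP.cons (Just.rot hT hi hR rot4_27 rot4_27r) (AllP.cons (Just.rot hT hi hR rot4_28 rot4_28r) (AllP.cons (Just.rot hT hi hR rot4_29 rot4_29r) (AllP.cons (Just.rot hT hi hR rot4_30 rot4_30r) (AllP.cons (Just.rot hT hi hR rot4_31 rot4_31r) (AllP.cons (Just.rot hT hi hR rot4_32 rot4_32r) (AllP.cons (Just.rot hT hi hR rot4_33 rot4_33r) (AllP.cons (Just.rot hT hi hR rot4_34 rot4_34r) (AllP.cons (Just.rot hT hi hR rot4_35 rot4_35r)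 (AllP.cons (Just.rot hT hi hR rot4_36 rot4_36r) (AllP.cons (Just.rot hT hi hR rot4_37 rot4_37r) (AllP.cons (Just.rot hT hi hR rot4_38 rot4_38r) (AllP.cons (Just.rot hT hi hR rot4_39 rot4_39r) (AllP.cons (Just.rot hT hi hR rot4_40 rot4_40r) (AllP.cons (Just.rot hT hi hR rot4_41 rot4_41r) (AllP.cons (Just.rot hT hi hR rot4_42 rot4_42r) (AllP.cons (Just.rot hT hi hR rot4_43 rot4_43r) (AllP.cons (Just.rot hT hi hR rot4_44 rot4_44r) (AllP.cons (Just.rot hT hi hR rot4_45 rot4_45r) (AllP.cons (Just.rot hT hi hR rot4_46 rot4_46r) (AllP.cons (Just.rot hT hi hR rot4_47 rot4_47r) (AllP.cons (Just.rot hT hi hR rot4_48 rot4_48r) (AllP.cons (Just.rot hT hi hR rot4_49 rot4_49r) (AllP.cons (Just.rot hT hi hR rot4_50 rot4_50r) (AllP.cons (Just.rot hT hi hR rot4_51 rot4_51r) (AllP.cons (Just.rot hT hi hR rot4_52 rot4_52r) (AllP.cons (Just.rot hT hi hR rot4_53 rot4_53r)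 (AllP.cons (Just.rot hT hi hR rot4_54 rot4_54r) (AllP.cons (Just.rot hT hi hR rot4_55 rot4_55r) (AllP.cons (Just.rot hT hi hR rot4_56 rot4_56r) (AllP.cons (Just.rot hT hi hR rot4_57 rot4_57r) (AllP.cons (Just.rot hT hi hR rot4_58 rot4_58r) (AllP.cons (Just.rot hT hi hR rot4_59 rot4_59r) (AllP.cons (Just.rot hT hi hR rot4_60 rot4_60r) (AllP.cons (Just.rot hT hi hR rot4_61 rot4_61r) (AllP.cons (Just.rot hT hi hR rot4_62 rot4_62r) (AllP.cons (Just.rot hT hi hR rot4_63 rot4_63r) (AllP.cons (Just.rot hT hi hR rot4_64 rot4_64r) (AllP.cons (Just.rot hT hi hR rot4_65 rot4_65r) (AllP.cons (Just.rot hT hi hR rot4_66 rot4_66r) (AllP.cons (Just.rot hT hi hR rot4_67 rot4_67r) (AllP.cons (Just.rot hT hi hR rot4_68 rot4_68r) (AllP.cons (Just.rot hT hi hR rot4_69 rot4_69r) (AllP.cons (Just.rot hT hi hR rot4_70 rot4_70r) (AllP.cons (Just.rot hT hi hR rot4_71 rot4_71r)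 (AllP.cons (Just.rot hT hi hR rot4_72 rot4_72r) (AllP.cons (Just.rot hT hi hR rot4_73 rot4_73r) (AllP.cons (Just.rot hT hi hR rot4_74 rot4_74r) (AllP.cons (Just.rot hT hi hR rot4_75 rot4_75r) (AllP.cons (Just.rot hT hi hR rot4_76 rot4_76r) (AllP.cons (Just.rot hT hi hR rot4_77 rot4_77r) (AllP.cons (Just.rot hT hi hR rot4_78 rot4_78r) (AllP.cons (Just.rot hT hi hR rot4_79 rot4_79r) (AllP.cons (Just.rot hT hi hR rot4_80 rot4_80r) (AllP.cons (Just.rot hT hi hR rot4_81 rot4_81r) (AllP.cons (Just.rot hT hi hR rot4_82 rot4_82r) (AllP.cons (Just.rot hT hi hR rot4_83 rot4_83r) (AllP.cons (Just.rot hT hi hR rot4_84 rot4_84r) (AllP.cons (Just.rot hT hi hR rot4_85 rot4_85r) (AllP.cons (Just.rot hT hi hR rot4_86 rot4_86r) (AllP.cons (Just.rot hT hi hR rot4_87 rot4_87r) (AllP.cons (Just.rot hT hi hR rot4_88 rot4_88r) (AllP.cons (Just.rot hT hi hR rot4_89 rot4_89r)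 (AllP.cons (Just.rot hT hi hR rot4_90 rot4_90r) (AllP.cons (Just.rot hT hi hR rot4_91 rot4_91r) (AllP.cons (Just.rot hT hi hR rot4_92 rot4_92r) (AllP.cons (Just.rot hT hi hR rot4_93 rot4_93r) (AllP.cons (Just.rot hT hi hR rot4_94 rot4_94r) (AllP.cons (Just.rot hT hi hR rot4_95 rot4_95r) (AllP.cons (Just.rot hT hi hR rot4_96 rot4_96r) (AllP.cons (Just.rot hT hi hR rot4_97 rot4_97r) (AllP.cons (Just.rot hT hi hR rot4_98 rot4_98r) (AllP.cons (Just.rot hT hi hR rot4_99 rot4_99r) (AllP.cons (Just.rot hT hi hR rot4_100 rot4_100r) (AllP.cons (Just.rot hT hi hR rot4_101 rot4_101r) (AllP.cons (Just.rot hT hi hR rot4_102 rot4_102r) (AllP.cons (Just.rot hT hi hR rot4_103 rot4_103r) (AllP.cons (Just.rot hT hi hR rot4_104 rot4_104r) (AllP.cons (Just.rot hT hi hR rot4_105 rot4_105r) (AllP.cons (Just.rot hT hi hR rot4_106 rot4_106r) (AllP.cons (Just.rot hT hi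 hR rot4_107 rot4_107r) (AllP.cons (Just.rot hT hi hR rot4_108 rot4_108r) (AllP.cons (Just.rot hT hi hR rot4_109 rot4_109r) (AllP.nil))))))))))))))))))))))))))))))))))))))))))))))))))))))))))))))))))))))))))))))))))))))))))))))))))))))))))))))
theorem let5 : LetOk H (letV a EX) T L 5 :=
  LetOk.of hT tl5 cov5 (AllP.cons (Just.rot hT hi hR rot5_1 rot5_1r) (AllP.cons (Just.rot hT hi hR rot5_2 rot5_2r) (AllP.cons (Just.rot hT hi hR rot5_3 rot5_3r) (AllP.cons (Just.rot hT hi hR rot5_4 rot5_4r) (AllP.cons (Just.rot hT hi hR rot5_5 rot5_5r) (AllP.cons (Just.rot hT hi hR rot5_6 rot5_6r) (AllP.cons (Just.rot hT hi hR rot5_7 rot5_7r) (AllP.cons (Just.rot hT hi hR rot5_8 rot5_8r) (AllP.cons (Just.rot hT hi hR rot5_9 rot5_9r) (AllP.cons (Just.rot hT hi hR rot5_10 rot5_10r) (AllP.cons (Just.rot hT hi hR rot5_11 rot5_11r) (AllP.cons (Just.rot hT hi hR rot5_12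 rot5_12r) (AllP.cons (Just.rot hT hi hR rot5_13 rot5_13r) (AllP.cons (Just.rot hT hi hR rot5_14 rot5_14r) (AllP.cons (Just.rot hT hi hR rot5_15 rot5_15r) (AllP.cons (Just.rot hT hi hR rot5_16 rot5_16r) (AllP.cons (Just.rot hT hi hR rot5_17 rot5_17r) (AllP.cons (Just.rot hT hi hR rot5_18 rot5_18r) (AllP.cons (Just.rot hT hi hR rot5_19 rot5_19r) (AllP.cons (Just.rot hT hi hR rot5_20 rot5_20r) (AllP.cons (Just.rot hT hi hR rot5_21 rot5_21r) (AllP.cons (Just.rot hT hi hR rot5_22 rot5_22r) (AllP.cons (Just.rot hT hi hR rot5_23 rot5_23r) (AllP.cons (Just.rot hT hi hR rot5_24 rot5_24r) (AllP.cons (Just.rot hT hi hR rot5_25 rot5_25r) (AllP.cons (Just.rot hT hi hR rot5_26 rot5_26r) (AllP.cons (Just.rot hT hi hR rot5_27 rot5_27r) (AllP.cons (Just.rot hT hi hR rot5_28 rot5_28r) (AllP.cons (Just.rot hT hi hR rot5_29 rot5_29r) (AllP.cons (Just.rot hT hi hR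 rot5_30 rot5_30r) (AllP.cons (Just.rot hT hi hR rot5_31 rot5_31r) (AllP.cons (Just.rot hT hi hR rot5_32 rot5_32r) (AllP.cons (Just.rot hT hi hR rot5_33 rot5_33r) (AllP.cons (Just.rot hT hi hR rot5_34 rot5_34r) (AllP.cons (Just.rot hT hi hR rot5_35 rot5_35r) (AllP.cons (Just.rot hT hi hR rot5_36 rot5_36r) (AllP.cons (Just.rot hT hi hR rot5_37 rot5_37r) (AllP.cons (Just.rot hT hi hR rot5_38 rot5_38r) (AllP.cons (Just.rot hT hi hR rot5_39 rot5_39r) (AllP.cons (Just.rot hT hi hR rot5_40 rot5_40r) (AllP.cons (Just.rot hT hi hR rot5_41 rot5_41r) (AllP.cons (Just.rot hT hi hR rot5_42 rot5_42r) (AllP.cons (Just.rot hT hi hR rot5_43 rot5_43r) (AllP.cons (Just.rot hT hi hR rot5_44 rot5_44r) (AllP.cons (Just.rot hT hi hR rot5_45 rot5_45r) (AllP.cons (Just.rot hT hi hR rot5_46 rot5_46r) (AllP.cons (Just.rot hT hi hR rot5_47 rot5_47r) (AllP.cons (Just.rot hT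 hi hR rot5_48 rot5_48r) (AllP.cons (Just.rot hT hi hR rot5_49 rot5_49r) (AllP.cons (Just.rot hT hi hR rot5_50 rot5_50r) (AllP.cons (Just.rot hT hi hR rot5_51 rot5_51r) (AllP.cons (Just.rot hT hi hR rot5_52 rot5_52r) (AllP.cons (Just.rot hT hi hR rot5_53 rot5_53r) (AllP.cons (Just.rot hT hi hR rot5_54 rot5_54r) (AllP.cons (Just.rot hT hi hR rot5_55 rot5_55r) (AllP.cons (Just.rot hT hi hR rot5_56 rot5_56r) (AllP.cons (Just.rot hT hi hR rot5_57 rot5_57r) (AllP.cons (Just.rot hT hi hR rot5_58 rot5_58r) (AllP.cons (Just.rot hT hi hR rot5_59 rot5_59r) (AllP.cons (Just.rot hT hi hR rot5_60 rot5_60r) (AllP.cons (Just.rot hT hi hR rot5_61 rot5_61r) (AllP.cons (Just.rot hT hi hR rot5_62 rot5_62r) (AllP.cons (Just.rot hT hi hR rot5_63 rot5_63r) (AllP.cons (Just.rot hT hi hR rot5_64 rot5_64r) (AllP.cons (Just.rot hT hi hR rot5_65 rot5_65r) (AllP.cons (Just.rot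 hT hi hR rot5_66 rot5_66r) (AllP.cons (Just.rot hT hi hR rot5_67 rot5_67r) (AllP.cons (Just.rot hT hi hR rot5_68 rot5_68r) (AllP.cons (Just.rot hT hi hR rot5_69 rot5_69r) (AllP.cons (Just.rot hT hi hR rot5_70 rot5_70r) (AllP.cons (Just.rot hT hi hR rot5_71 rot5_71r) (AllP.cons (Just.rot hT hi hR rot5_72 rot5_72r) (AllP.cons (Just.rot hT hi hR rot5_73 rot5_73r) (AllP.cons (Just.rot hT hi hR rot5_74 rot5_74r) (AllP.cons (Just.rot hT hi hR rot5_75 rot5_75r) (AllP.cons (Just.rot hT hi hR rot5_76 rot5_76r) (AllP.cons (Just.rot hT hi hR rot5_77 rot5_77r) (AllP.cons (Just.rot hT hi hR rot5_78 rot5_78r) (AllP.cons (Just.rot hT hi hR rot5_79 rot5_79r) (AllP.cons (Just.rot hT hi hR rot5_80 rot5_80r) (AllP.cons (Just.rot hT hi hR rot5_81 rot5_81r) (AllP.cons (Just.rot hT hi hR rot5_82 rot5_82r) (AllP.cons (Just.rot hT hi hR rot5_83 rot5_83r) (AllP.cons (Just.rot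 hT hi hR rot5_84 rot5_84r) (AllP.cons (Just.rot hT hi hR rot5_85 rot5_85r) (AllP.cons (Just.rot hT hi hR rot5_86 rot5_86r) (AllP.cons (Just.rot hT hi hR rot5_87 rot5_87r) (AllP.cons (Just.rot hT hi hR rot5_88 rot5_88r) (AllP.cons (Just.rot hT hi hR rot5_89 rot5_89r) (AllP.cons (Just.rot hT hi hR rot5_90 rot5_90r) (AllP.cons (Just.rot hT hi hR rot5_91 rot5_91r) (AllP.cons (Just.rot hT hi hR rot5_92 rot5_92r) (AllP.cons (Just.rot hT hi hR rot5_93 rot5_93r) (AllP.cons (Just.rot hT hi hR rot5_94 rot5_94r) (AllP.cons (Just.rot hT hi hR rot5_95 rot5_95r) (AllP.cons (Just.rot hT hi hR rot5_96 rot5_96r) (AllP.cons (Just.rot hT hi hR rot5_97 rot5_97r) (AllP.cons (Just.rot hT hi hR rot5_98 rot5_98r) (AllP.cons (Just.rot hT hi hR rot5_99 rot5_99r) (AllP.cons (Just.rot hT hi hR rot5_100 rot5_100r) (AllP.cons (Just.rot hT hi hR rot5_101 rot5_101r) (AllP.cons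 (Just.rot hT hi hR rot5_102 rot5_102r) (AllP.cons (Just.rot hT hi hR rot5_103 rot5_103r) (AllP.cons (Just.rot hT hi hR rot5_104 rot5_104r) (AllP.cons (Just.rot hT hi hR rot5_105 rot5_105r) (AllP.cons (Just.rot hT hi hR rot5_106 rot5_106r) (AllP.cons (Just.rot hT hi hR rot5_107 rot5_107r) (AllP.cons (Just.rot hT hi hR rot5_108 rot5_108r) (AllP.cons (Just.rot hT hi hR rot5_109 rot5_109r) (AllP.cons (Just.rot hT hi hR rot5_110 rot5_110r) (AllP.cons (Just.rot hT hi hR rot5_111 rot5_111r) (AllP.cons (Just.rot hT hi hR rot5_112 rot5_112r) (AllP.cons (Just.rot hT hi hR rot5_113 rot5_113r) (AllP.cons (Just.rot hT hi hR rot5_114 rot5_114r) (AllP.cons (Just.rot hT hi hR rot5_115 rot5_115r) (AllP.cons (Just.rot hT hi hR rot5_116 rot5_116r) (AllP.cons (Just.rot hT hi hR rot5_117 rot5_117r) (AllP.cons (Just.rot hT hi hR rot5_118 rot5_118r) (AllP.cons (Just.rot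 hT hi hR rot5_119 rot5_119r) (AllP.cons (Just.rot hT hi hR rot5_120 rot5_120r) (AllP.cons (Just.rot hT hi hR rot5_121 rot5_121r) (AllP.cons (Just.rot hT hi hR rot5_122 rot5_122r) (AllP.cons (Just.rot hT hi hR rot5_123 rot5_123r) (AllP.cons (Just.rot hT hi hR rot5_124 rot5_124r) (AllP.cons (Just.rot hT hi hR rot5_125 rot5_125r) (AllP.cons (Just.rot hT hi hR rot5_126 rot5_126r) (AllP.cons (Just.rot hT hi hR rot5_127 rot5_127r) (AllP.cons (Just.rot hT hi hR rot5_128 rot5_128r) (AllP.cons (Just.rot hT hi hR rot5_129 rot5_129r) (AllP.cons (Just.rot hT hi hR rot5_130 rot5_130r) (AllP.cons (Just.rot hT hi hR rot5_131 rot5_131r) (AllP.cons (Just.rot hT hi hR rot5_132 rot5_132r) (AllP.cons (Just.rot hT hi hR rot5_133 rot5_133r) (AllP.cons (Just.rot hT hi hR rot5_134 rot5_134r) (AllP.cons (Just.rot hT hi hR rot5_135 rot5_135r) (AllP.nil))))))))))))))))))))))))))))))))))))))))))))))))))))))))))))))))))))))))))))))))))))))))))))))))))))))))))))))))))))))))))))))))))))))))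
theorem hlet : AllP (LetOk H (letV a EX) T L) L :=
  show AllP (LetOk H (letV a EX) T L) [1, 2, 3, 4, 5] from AllP.cons (let1 hi hR hb) (AllP.cons (let2 hi hR hb) (AllP.cons (let3 hi hR hb) (AllP.cons (let4 hi hR hb) (AllP.cons (let5 hi hR hb) (AllP.nil)))))
end

theorem cert : Cert 3 1 RL BW fP 1755 :=
  Cert.of hT ⟨hsq, hrel⟩ hPZ (fun _ _ _ hi hR _ hb => hlet hi hR hb) hcov hg (by decide +kernel)

end Cfsg.Agent.Spor.Tia
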